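import Mathlib

/-!
Elementary facts on pointwise stabilisers in alternating groups.
-/

set_option autoImplicit false

namespace CfsgLib.Perm.AltSection

open Equiv Equiv.Perm

variable {r : ℕ}

local notation "A" => alternatingGroup (Fin r)

/-- An even permutation fixes a set pointwise. -/
def Fixes (T : Finset (Fin r)) (g : A) : Prop := ∀ i ∈ T, (g : Perm (Fin r)) i = i

/-- The three-cycle `a ↦ b ↦ c ↦ a`. -/
def cyc (a b c : Fin r) : A :=
  if h : a ≠ b ∧ b ≠ c then
    ⟨swap a b * swap b c, by rw [mem_alternatingGroup, map_mul, sign_swap h.1, sign_swap h.2]; rfl⟩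
  else 1

theorem cyc_val {a b c : Fin r} (h1 : a ≠ b) (h2 : b ≠ c) :
    (cyc a b c : Perm (Fin r)) = swap a b * swap b c := by
  rw [cyc, dif_pos ⟨h1, h2⟩]

theorem cyc_apply {a b c : Fin r} (h1 : a ≠ b) (h2 : b ≠ c) (h3 : a ≠ c) :
    (cyc a b c : Perm (Fin r)) a = b ∧ (cyc a b c : Perm (Fin r)) b = c ∧
      (cyc a b c : Perm (Fin r)) c = a ∧
      ∀ i, i ≠ a → i ≠ b → i ≠ c → (cyc a b c : Perm (Fin r)) i = i := by
  rw [cyc_val h1 h2]
  refine ⟨?_, ?_, ?_, fun i ha hb hc => ?_⟩ <;> simp only [Perm.mul_apply]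
  · rw [swap_apply_of_ne_of_ne h1 h3, swap_apply_left]
  · rw [swap_apply_left, swap_apply_of_ne_of_ne h3.symm h2.symm]
  · rw [swap_apply_right, swap_apply_right]
  · rw [swap_apply_of_ne_of_ne hb hc, swap_apply_of_ne_of_ne ha hb]

theorem cyc_isThreeCycle {a b c : Fin r} (h1 : a ≠ b) (h2 : b ≠ c) (h3 : a ≠ c) :
    IsThreeCycle (cyc a b c : Perm (Fin r)) := by
  rw [cyc_val h1 h2, swap_comm a b]
  exact isThreeCycle_swap_mul_swap_same h1.symm h2 h3

theorem exists_cyc_of_isThreeCycle {g : A} (hg : IsThreeCycle (g : Perm (Fin r))) :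
    ∃ a b c : Fin r, a ≠ b ∧ b ≠ c ∧ a ≠ c ∧ g = cyc a b c := by
  obtain ⟨a, ha⟩ := Finset.card_pos.mp (by rw [card_support_eq_three_iff.mpr hg]; norm_num :
    0 < (g : Perm (Fin r)).support.card)
  set σ : Perm (Fin r) := (g : Perm (Fin r))
  have hs := IsThreeCycle.support_eq_iff_mem_support hg |>.mpr ha
  have hnd := (IsThreeCycle.nodup_iff_mem_support hg).mpr ha
  simp only [List.nodup_cons, List.mem_cons, List.mem_singleton, List.not_mem_nil, not_or,
    or_false, List.nodup_nil, and_true, not_false_eq_true] at hnd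
  refine ⟨a, σ a, σ (σ a), hnd.1.1, hnd.2, hnd.1.2, ?_⟩
  apply Subtype.ext
  obtain ⟨e1, e2, e3, e4⟩ := cyc_apply hnd.1.1 hnd.2 hnd.1.2
  ext i : 1
  by_cases hi : i ∈ σ.support
  · rw [hs] at hi
    simp only [Finset.mem_insert, Finset.mem_singleton] at hi
    rcases hi with rfl | rfl | rfl
    · exact e1.symm
    · exact e2.symm
    · rw [e3]
      have h3 : σ ^ 3 = 1 := hg.orderOf ▸ pow_orderOf_eq_one σ
      have := congrArg (fun p : Perm (Fin r) => p a) h3
      simpa [pow_succ, Perm.mul_apply] using this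
  · rw [hs] at hi
    simp only [Finset.mem_insert, Finset.mem_singleton, not_or] at hi
    rw [e4 i hi.1 hi.2.1 hi.2.2]
    by_contra hne
    have : i ∈ σ.support := mem_support.mpr hne
    rw [hs] at this
    simp [hi] at this

theorem fixes_cyc {a b c : Fin r} (h1 : a ≠ b) (h2 : b ≠ c) (h3 : a ≠ c) {T : Finset (Fin r)} :
    Fixes T (cyc a b c) ↔ a ∉ T ∧ b ∉ T ∧ c ∉ T := by
  obtain ⟨e1, e2, e3, e4⟩ := cyc_apply h1 h2 h3
  constructor
  · intro h
    exact ⟨fun ht => h1 ((h a ht).symm.trans e1), fun ht => h2 ((h b ht).symm.trans e2),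
      fun ht => h3 (e3.symm.trans (h c ht))⟩
  · rintro ⟨ha, hb, hc⟩ i hi
    exact e4 i (fun e => ha (e ▸ hi)) (fun e => hb (e ▸ hi)) (fun e => hc (e ▸ hi))

/-- A pointwise stabiliser is generated by the three-cycles it contains. -/
theorem fixes_induction {T : Finset (Fin r)} {P : A → Prop} (h1 : P 1)
    (hmul : ∀ g h : A, P g → P h → P (g * h))
    (hcyc : ∀ a b c : Fin r, a ≠ b → b ≠ c → a ≠ c → a ∉ T → b ∉ T → c ∉ T → P (cyc a b c))
    {g : A} (hg : Fixes T g) : P g := by
  classical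
  let q : Fin r → Prop := fun i => i ∉ T
  have hq : ∀ i, q ((g : Perm (Fin r)) i) ↔ q i := fun i => by
    refine not_congr ⟨fun h => ?_, fun h => by rwa [hg i h]⟩
    have := hg _ h
    rwa [(g : Perm (Fin r)).injective this] at h
  let π : Perm (Subtype q) := (g : Perm (Fin r)).subtypePerm hq
  have hπg : ofSubtype π = (g : Perm (Fin r)) :=
    ofSubtype_subtypePerm _ (fun i hi hT => hi (hg i hT))
  have hπ : π ∈ alternatingGroup (Subtype q) := by
    rw [mem_alternatingGroup, ← sign_ofSubtype π, hπg]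
    exact mem_alternatingGroup.mp g.2
  suffices ∀ σ ∈ Subgroup.closure {σ : Perm (Subtype q) | IsThreeCycle σ},
      ∃ h : A, (h : Perm (Fin r)) = ofSubtype σ ∧ P h by
    rw [closure_three_cycles_eq_alternating] at this
    obtain ⟨h, hh, hP⟩ := this π hπ
    rwa [show h = g from Subtype.ext (hh.trans hπg)] at hP
  intro σ hσ
  induction hσ using Subgroup.closure_induction_left with
  | one => exact ⟨1, by simp, h1⟩
  | mul_left x hx y _ ih =>
    obtain ⟨h, hh, hP⟩ := ih
    have hxA : ofSubtype x ∈ alternatingGroup (Fin r) := by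
      rw [mem_alternatingGroup, sign_ofSubtype]
      exact mem_alternatingGroup.mp hx.mem_alternatingGroup
    obtain ⟨a, b, c, hab, hbc, hac, he⟩ := exists_cyc_of_isThreeCycle (g := ⟨ofSubtype x, hxA⟩)
      (by change IsThreeCycle (ofSubtype x)
          rw [IsThreeCycle, cycleType_ofSubtype]; exact hx)
    refine ⟨cyc a b c * h, ?_, hmul _ _ ?_ hP⟩
    · rw [← he, Subgroup.coe_mul, hh, map_mul]
    · have hf : Fixes T (cyc a b c) := he ▸ fun i hi =>
        ofSubtype_apply_of_not_mem (p := q) x (fun h => h hi)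
      obtain ⟨ha, hb, hc⟩ := (fixes_cyc hab hbc hac).mp hf
      exact hcyc a b c hab hbc hac ha hb hc
  | inv_mul_cancel x hx y _ ih =>
    obtain ⟨h, hh, hP⟩ := ih
    have hxA : ofSubtype x⁻¹ ∈ alternatingGroup (Fin r) := by
      rw [mem_alternatingGroup, sign_ofSubtype]
      exact mem_alternatingGroup.mp (hx.inv.mem_alternatingGroup)
    obtain ⟨a, b, c, hab, hbc, hac, he⟩ := exists_cyc_of_isThreeCycle (g := ⟨ofSubtype x⁻¹, hxA⟩)
      (by change IsThreeCycle (ofSubtype x⁻¹)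
          rw [IsThreeCycle, cycleType_ofSubtype]; exact hx.inv)
    refine ⟨cyc a b c * h, ?_, hmul _ _ ?_ hP⟩
    · rw [← he, Subgroup.coe_mul, hh, map_mul]
    · have hf : Fixes T (cyc a b c) := he ▸ fun i hi =>
        ofSubtype_apply_of_not_mem (p := q) x⁻¹ (fun h => h hi)
      obtain ⟨ha, hb, hc⟩ := (fixes_cyc hab hbc hac).mp hf
      exact hcyc a b c hab hbc hac ha hb hc

/-- A three-cycle is a commutator inside any five points containing it. -/
theorem cyc_eq_commutator {a b c d e : Fin r} (h : [a, b, c, d, e].Nodup) :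
    cyc a b c = cyc a b d * cyc a c e * (cyc a b d)⁻¹ * (cyc a c e)⁻¹ := by
  simp only [List.nodup_cons, List.mem_cons, List.not_mem_nil, not_or, or_false, List.nodup_nil,
    and_true, not_false_eq_true] at h
  obtain ⟨⟨hab, hac, had, hae⟩, ⟨hbc, hbd, hbe⟩, ⟨hcd, hce⟩, hde⟩ := h
  replace hab : a ≠ b := hab
  replace hac : a ≠ c := hac
  replace had : a ≠ d := had
  replace hae : a ≠ e := hae
  replace hbc : b ≠ c := hbc
  replace hbd : b ≠ d := hbd
  replace hbe : b ≠ e := hbe
  replace hcd : c ≠ d := hcd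
  replace hce : c ≠ e := hce
  replace hde : d ≠ e := hde
  obtain ⟨x1, x2, x3, x4⟩ := cyc_apply hab hbd had
  obtain ⟨y1, y2, y3, y4⟩ := cyc_apply hac hce hae
  obtain ⟨z1, z2, z3, z4⟩ := cyc_apply hab hbc hac
  rw [eq_mul_inv_iff_mul_eq, eq_mul_inv_iff_mul_eq]
  apply Subtype.ext
  ext i : 1
  simp only [Subgroup.coe_mul, Perm.mul_apply]
  by_cases ha : i = a
  · subst ha; rw [x1, y4 b hab.symm hbc hbe, z2, y1, x4 c hac.symm hbc.symm hcd]
  by_cases hb : i = b
  · subst hb; rw [x2, y4 d had.symm hcd.symm hde, z4 d had.symm hbd.symm hcd.symm,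
      y4 i ha hbc hbe, x2]
  by_cases hd : i = d
  · subst hd; rw [x3, y1, z3, y4 i ha hcd.symm hde, x3]
  by_cases hc : i = c
  · subst hc; rw [x4 i ha hb hd, y2, z4 e hae.symm hbe.symm hce.symm, x4 e hae.symm hbe.symm hde.symm]
  by_cases he : i = e
  · subst he; rw [x4 i ha hb hd, y3, z1, x1]
  rw [x4 i ha hb hd, y4 i ha hc he, z4 i ha hb hc, x4 i ha hb hd]

/-- Transitivity on tuples leaving two points free. -/
theorem exists_map {m : ℕ} (f g : Fin m → Fin r) (hf : Function.Injective f)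
    (hg : Function.Injective g) (hm : m + 2 ≤ r) :
    ∃ σ : A, ∀ i, (σ : Perm (Fin r)) (f i) = g i := by
  classical
  let e : {x // x ∈ Set.range f} ≃ {x // x ∈ Set.range g} :=
    (Equiv.ofInjective f hf).symm.trans (Equiv.ofInjective g hg)
  let σ : Perm (Fin r) := e.extendSubtype
  have hσ : ∀ i, σ (f i) = g i := fun i => by
    change e.extendSubtype (f i) = g i
    rw [Equiv.extendSubtype_apply_of_mem _ _ ⟨i, rfl⟩]
    simp [e, Equiv.ofInjective_symm_apply hf]
  have h2 : 1 < (Finset.univ \ Finset.univ.image g).card := by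
    rw [Finset.card_univ_sdiff, Finset.card_image_of_injective _ hg, Fintype.card_fin,
      Finset.card_univ, Fintype.card_fin]
    omega
  obtain ⟨x, hx, y, hy, hxy⟩ := Finset.one_lt_card.mp h2
  rcases Int.units_eq_one_or (Perm.sign σ) with hs | hs
  · exact ⟨⟨σ, mem_alternatingGroup.mpr hs⟩, hσ⟩
  · refine ⟨⟨swap x y * σ, ?_⟩, fun i => ?_⟩
    · rw [mem_alternatingGroup, map_mul, sign_swap hxy, hs]; rfl
    · change swap x y (σ (f i)) = g i
      rw [hσ, swap_apply_of_ne_of_ne]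
      · exact fun e' => (Finset.mem_sdiff.mp hx).2 (Finset.mem_image.mpr ⟨i, Finset.mem_univ _, e'⟩)
      · exact fun e' => (Finset.mem_sdiff.mp hy).2 (Finset.mem_image.mpr ⟨i, Finset.mem_univ _, e'⟩)

end CfsgLib.Perm.AltSection
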