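import Mathlib
import Cfsg.Agent.Lib.Perm.AltSection.Alt

/-!
Embedded permutations, rotations and monomial permutations inside an alternating group.
-/

set_option autoImplicit false

namespace CfsgLib.Perm.AltSection

open Equiv Equiv.Perm

variable {r : ℕ} {α β : Type*} [Fintype α] [DecidableEq α] [Fintype β] [DecidableEq β]

/-- A permutation carried along an embedding. -/
noncomputable def emb (f : α ↪ Fin r) (P : Perm α) : Perm (Fin r) :=
  P.extendDomain (Equiv.ofInjective f f.injective)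

@[simp] theorem emb_apply (f : α ↪ Fin r) (P : Perm α) (a : α) : emb f P (f a) = f (P a) := by
  have := extendDomain_apply_image P (Equiv.ofInjective f f.injective) a
  rw [emb]
  exact this

theorem emb_of_notMem (f : α ↪ Fin r) (P : Perm α) {z : Fin r} (hz : ∀ a, f a ≠ z) :
    emb f P z = z :=
  extendDomain_apply_not_subtype _ _ (fun ⟨a, ha⟩ => hz a ha)

theorem emb_mul (f : α ↪ Fin r) (P Q : Perm α) : emb f (P * Q) = emb f P * emb f Q :=
  (extendDomain_mul _ _ _).symm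

theorem sign_emb (f : α ↪ Fin r) (P : Perm α) : Perm.sign (emb f P) = Perm.sign P :=
  sign_extendDomain _ _

/-- An even permutation carried into the alternating group. -/
noncomputable def embA (f : α ↪ Fin r) (P : Perm α) : alternatingGroup (Fin r) :=
  if h : Perm.sign P = 1 then ⟨emb f P, by rw [mem_alternatingGroup, sign_emb, h]⟩ else 1

theorem embA_val {f : α ↪ Fin r} {P : Perm α} (h : Perm.sign P = 1) :
    (embA f P : Perm (Fin r)) = emb f P := by rw [embA, dif_pos h]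

theorem conj_emb {f : α ↪ Fin r} {f' : β ↪ Fin r} {g : Perm (Fin r)} {τ : α ≃ β}
    (h : ∀ a, g (f a) = f' (τ a)) (P : Perm α) : g * emb f P * g⁻¹ = emb f' (τ.permCongr P) := by
  rw [mul_inv_eq_iff_eq_mul]
  ext z : 1
  simp only [Perm.mul_apply]
  by_cases hz : ∃ a, f a = z
  · obtain ⟨a, rfl⟩ := hz
    simp [h]
  · push Not at hz
    rw [emb_of_notMem f P hz, emb_of_notMem f' _ fun b hb => hz (τ.symm b) (g.injective (by
      rw [h, Equiv.apply_symm_apply, hb]))]

theorem conj_embA {f : α ↪ Fin r} {f' : β ↪ Fin r} {g : alternatingGroup (Fin r)} {τ : α ≃ β}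
    (h : ∀ a, (g : Perm (Fin r)) (f a) = f' (τ a)) {P : Perm α} (hP : Perm.sign P = 1) :
    g * embA f P * g⁻¹ = embA f' (τ.permCongr P) := by
  apply Subtype.ext
  rw [Subgroup.coe_mul, Subgroup.coe_mul, embA_val hP, InvMemClass.coe_inv, conj_emb h,
    embA_val (by rw [sign_permCongr]; exact hP)]

theorem exists_map_equiv {f g : α ↪ Fin r} (h : Fintype.card α + 2 ≤ r) :
    ∃ σ : alternatingGroup (Fin r), ∀ a, (σ : Perm (Fin r)) (f a) = g a := by
  obtain ⟨σ, hσ⟩ := exists_map (f ∘ (Fintype.equivFin α).symm) (g ∘ (Fintype.equivFin α).symm)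
    (f.injective.comp (Equiv.injective _)) (g.injective.comp (Equiv.injective _)) h
  exact ⟨σ, fun a => by simpa using hσ (Fintype.equivFin α a)⟩

section Rot

variable {ℓ : ℕ} [hℓ : Fact ℓ.Prime]

theorem addLeft_pow (a : ZMod ℓ) : ∀ (n : ℕ) (x : ZMod ℓ), ((Equiv.addLeft a) ^ n) x = n * a + x
  | 0, x => by simp
  | n + 1, x => by rw [pow_succ', Perm.mul_apply, addLeft_pow a n x]; simp; ring

theorem sign_addLeft (h2 : Odd ℓ) (a : ZMod ℓ) : Perm.sign (Equiv.addLeft a) = 1 := by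
  have h1 : (Equiv.addLeft a) ^ ℓ = 1 := Equiv.ext fun x => by simp [addLeft_pow]
  have h := congrArg Perm.sign h1
  rw [map_pow, map_one] at h
  rcases Int.units_eq_one_or (Perm.sign (Equiv.addLeft a)) with e | e
  · exact e
  · rw [e, h2.neg_one_pow] at h; exact e.trans h

/-- The rotation of an embedded cycle. -/
noncomputable def rot (f : ZMod ℓ ↪ Fin r) (a : ZMod ℓ) : alternatingGroup (Fin r) :=
  embA f (Equiv.addLeft a)

theorem rot_apply (h2 : Odd ℓ) (f : ZMod ℓ ↪ Fin r) (a x : ZMod ℓ) :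
    (rot f a : Perm (Fin r)) (f x) = f (a + x) := by
  rw [rot, embA_val (sign_addLeft h2 a), emb_apply]; rfl

theorem rot_of_notMem (h2 : Odd ℓ) (f : ZMod ℓ ↪ Fin r) (a : ZMod ℓ) {z : Fin r}
    (hz : ∀ x, f x ≠ z) : (rot f a : Perm (Fin r)) z = z := by
  rw [rot, embA_val (sign_addLeft h2 a), emb_of_notMem f _ hz]

theorem rot_add (h2 : Odd ℓ) (f : ZMod ℓ ↪ Fin r) (a b : ZMod ℓ) :
    rot f (a + b) = rot f a * rot f b := by
  apply Subtype.ext
  rw [rot, rot, rot, Subgroup.coe_mul, embA_val (sign_addLeft h2 _), embA_val (sign_addLeft h2 _),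
    embA_val (sign_addLeft h2 _), ← emb_mul]
  congr 1
  ext x : 1
  simp [add_assoc]

theorem rot_zero (h2 : Odd ℓ) (f : ZMod ℓ ↪ Fin r) : rot f 0 = 1 :=
  mul_eq_left.mp (by rw [← rot_add h2, add_zero] : rot f 0 * rot f 0 = rot f 0)

theorem rot_natCast (h2 : Odd ℓ) (f : ZMod ℓ ↪ Fin r) : ∀ n : ℕ, rot f (n : ZMod ℓ) = rot f 1 ^ n
  | 0 => by rw [Nat.cast_zero, rot_zero h2, pow_zero]
  | n + 1 => by rw [Nat.cast_succ, rot_add h2, rot_natCast h2 f n, pow_succ]

theorem rot_pow_val (h2 : Odd ℓ) (f : ZMod ℓ ↪ Fin r) (a : ZMod ℓ) :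
    rot f a = rot f 1 ^ a.val := by rw [← rot_natCast h2, ZMod.natCast_rightInverse a]

theorem rot_pow_prime (h2 : Odd ℓ) (f : ZMod ℓ ↪ Fin r) : rot f 1 ^ ℓ = 1 := by
  rw [← rot_natCast h2, ZMod.natCast_self, rot_zero h2]

theorem rot_ne_one (h2 : Odd ℓ) (f : ZMod ℓ ↪ Fin r) {a : ZMod ℓ} (ha : a ≠ 0) : rot f a ≠ 1 :=
  fun h => ha (by
    have := rot_apply h2 f a 0
    rw [h, add_zero] at this
    exact (f.injective (by simpa using this.symm) : a = 0))

theorem rot_conj (h2 : Odd ℓ) {f f' : ZMod ℓ ↪ Fin r} {g : alternatingGroup (Fin r)}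
    {m : (ZMod ℓ)ˣ} (h : ∀ x, (g : Perm (Fin r)) (f x) = f' ((m : ZMod ℓ) * x)) (a : ZMod ℓ) :
    g * rot f a * g⁻¹ = rot f' ((m : ZMod ℓ) * a) := by
  rw [rot, conj_embA (τ := m.mulLeft) (by simpa using h) (sign_addLeft h2 a), rot]
  congr 1
  ext x : 1
  rw [Equiv.permCongr_apply]
  show (m : ZMod ℓ) * (a + ((m⁻¹ : (ZMod ℓ)ˣ) : ZMod ℓ) * x) = (m : ZMod ℓ) * a + x
  rw [mul_add, Units.mul_inv_cancel_left]

theorem exists_inverter (h2 : Odd ℓ) (f : ZMod ℓ ↪ Fin r) (hr : ℓ + 2 ≤ r) :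
    ∃ i, i * rot f 1 * i⁻¹ = (rot f 1)⁻¹ := by
  obtain ⟨σ, hσ⟩ := exists_map_equiv (f := f) (g := (Equiv.neg (ZMod ℓ)).toEmbedding.trans f)
    (by rw [ZMod.card]; exact hr)
  refine ⟨σ, ?_⟩
  rw [rot_conj h2 (m := -1) (f' := f) (fun x => by simp [hσ])]
  refine eq_inv_of_mul_eq_one_left ?_
  rw [← rot_add h2, Units.val_neg, Units.val_one, mul_one, neg_add_cancel, rot_zero h2]

/-- Elements commuting with a rotation are a rotation times an element fixing its support. -/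
theorem exists_decomp (h2 : Odd ℓ) (f : ZMod ℓ ↪ Fin r) {z : alternatingGroup (Fin r)}
    (hz : Commute z (rot f 1)) :
    ∃ (n : ℕ) (z' : alternatingGroup (Fin r)),
      Fixes (Finset.univ.image f) z' ∧ z = rot f 1 ^ n * z' := by
  have key : ∀ y, (z : Perm (Fin r)) ((rot f 1 : Perm (Fin r)) y) =
      (rot f 1 : Perm (Fin r)) ((z : Perm (Fin r)) y) := fun y => by
    have := congrArg (fun g : alternatingGroup (Fin r) => (g : Perm (Fin r)) y) hz.eq
    simpa using this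
  have hex : ∃ c, f c = (z : Perm (Fin r)) (f 0) := by
    by_contra hne
    push Not at hne
    have h := key (f 0)
    rw [rot_of_notMem h2 f 1 hne, rot_apply h2] at h
    exact one_ne_zero ((f.injective ((z : Perm (Fin r)).injective h)).symm.trans (add_zero _)).symm
  obtain ⟨c, hc⟩ := hex
  have hstep : ∀ n : ℕ, (z : Perm (Fin r)) (f (n : ZMod ℓ)) = f ((n : ZMod ℓ) + c) := by
    intro n
    induction n with
    | zero => simp [hc]
    | succ n ih =>
      have h := key (f (n : ZMod ℓ))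
      rw [ih, rot_apply h2, rot_apply h2] at h
      rw [Nat.cast_succ, show (n : ZMod ℓ) + 1 = 1 + n by ring, h, add_assoc]
  refine ⟨c.val, (rot f 1 ^ c.val)⁻¹ * z, fun i hi => ?_, (mul_inv_cancel_left _ _).symm⟩
  obtain ⟨x, -, rfl⟩ := Finset.mem_image.mp hi
  have hx : (z : Perm (Fin r)) (f x) = f (x + c) := by
    have := hstep x.val
    rwa [ZMod.natCast_rightInverse x] at this
  rw [← rot_pow_val h2, Subgroup.coe_mul, Perm.mul_apply, hx, InvMemClass.coe_inv,
    Perm.inv_eq_iff_eq, rot_apply h2, add_comm]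

end Rot

section Mono

variable {ℓ : ℕ} [hℓ : Fact ℓ.Prime] {t : ℕ}

/-- A monomial permutation of blocks. -/
def mono (π : Perm (Fin t)) (m : Fin t → (ZMod ℓ)ˣ) : Perm (Fin t × ZMod ℓ) :=
  Equiv.prodCongrLeft (fun _ => π) * Equiv.prodCongrRight (fun i => (m i).mulLeft)

theorem mono_apply (π : Perm (Fin t)) (m : Fin t → (ZMod ℓ)ˣ) (i : Fin t) (x : ZMod ℓ) :
    mono π m (i, x) = (π i, (m i : ZMod ℓ) * x) := rfl

theorem sign_mono (π : Perm (Fin t)) (m : Fin t → (ZMod ℓ)ˣ) :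
    Perm.sign (mono π m) = Perm.sign π ^ ℓ * ∏ i, Perm.sign (m i).mulLeft := by
  rw [mono, map_mul, Perm.sign_prodCongrLeft, Perm.sign_prodCongrRight, Finset.prod_const,
    Finset.card_univ, ZMod.card]

theorem mono_mul (π π' : Perm (Fin t)) (m m' : Fin t → (ZMod ℓ)ˣ) :
    mono π m * mono π' m' = mono (π * π') fun i => m (π' i) * m' i := by
  ext ⟨i, x⟩ : 1
  simp [mono_apply, mul_assoc]

/-- The blocks of an embedding. -/
def blk (f : Fin t × ZMod ℓ ↪ Fin r) (i : Fin t) : ZMod ℓ ↪ Fin r :=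
  ⟨fun x => f (i, x), fun _ _ h => (Prod.mk.inj (f.injective h)).2⟩

theorem blk_apply (f : Fin t × ZMod ℓ ↪ Fin r) (i : Fin t) (x : ZMod ℓ) : blk f i x = f (i, x) :=
  rfl

theorem mono_conj (h2 : Odd ℓ) (f : Fin t × ZMod ℓ ↪ Fin r) {π : Perm (Fin t)}
    {m : Fin t → (ZMod ℓ)ˣ} (h : Perm.sign (mono π m) = 1) (i : Fin t) :
    embA f (mono π m) * rot (blk f i) 1 * (embA f (mono π m))⁻¹ =
      rot (blk f (π i)) (m i : ZMod ℓ) := by
  rw [rot_conj h2 (m := m i) (f' := blk f (π i)) (fun x => by rw [embA_val h, blk_apply, emb_apply, mono_apply]; rfl),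
    mul_one]

theorem blocks_commute (h2 : Odd ℓ) (f : Fin t × ZMod ℓ ↪ Fin r) (i j : Fin t) :
    Commute (rot (blk f i) 1) (rot (blk f j) 1) := by
  by_cases hij : i = j
  · subst hij; exact Commute.refl _
  apply Subtype.ext
  ext z : 1
  simp only [Subgroup.coe_mul, Perm.mul_apply]
  by_cases hi : ∃ x, blk f i x = z
  · obtain ⟨x, rfl⟩ := hi
    have h1 : ∀ w y, blk f j y ≠ blk f i w := fun w y h =>
      hij (Prod.mk.inj (f.injective h)).1.symm
    rw [rot_of_notMem h2 _ _ (h1 x), rot_apply h2, rot_of_notMem h2 _ _ (h1 _)]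
  · push Not at hi
    rw [rot_of_notMem h2 _ _ hi]
    by_cases hj : ∃ y, blk f j y = z
    · obtain ⟨y, rfl⟩ := hj
      rw [rot_apply h2, rot_of_notMem h2 _ _ fun x h => hij (Prod.mk.inj (f.injective h)).1]
    · push Not at hj
      rw [rot_of_notMem h2 _ _ hj, rot_of_notMem h2 _ _ hi]

end Mono

end CfsgLib.Perm.AltSection
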