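import Mathlib

/-!
Counting functions with a given support size.
-/

set_option autoImplicit false

namespace CfsgLib.Perm.AltSection

open Finset

variable {D : Type*} [Fintype D] [DecidableEq D] {t : ℕ}

/-- The support of a function relative to a marked value. -/
def supp (o : D) (b : Fin t → D) : Finset (Fin t) := univ.filter fun i => b i ≠ o

theorem mem_supp {o : D} {b : Fin t → D} {i : Fin t} : i ∈ supp o b ↔ b i ≠ o := by simp [supp]

theorem card_supp_eq (o : D) (j : ℕ) :
    (univ.filter fun b : Fin t → D => (supp o b).card = j).card =
      t.choose j * (Fintype.card D - 1) ^ j := by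
  rw [card_eq_sum_card_fiberwise (f := supp o) (t := (univ : Finset (Fin t)).powersetCard j)
    (fun b hb => mem_powersetCard.mpr ⟨subset_univ _, (mem_filter.mp hb).2⟩)]
  have : ∀ S ∈ (univ : Finset (Fin t)).powersetCard j,
      ((univ.filter fun b : Fin t → D => (supp o b).card = j).filter fun b => supp o b = S).card =
        (Fintype.card D - 1) ^ j := by
    intro S hS
    have hSj := (mem_powersetCard.mp hS).2
    have : ((univ.filter fun b : Fin t → D => (supp o b).card = j).filter fun b => supp o b = S) =
        Fintype.piFinset fun i => if i ∈ S then univ.erase o else {o} := by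
      ext b
      simp only [mem_filter, mem_univ, true_and, Fintype.mem_piFinset]
      constructor
      · rintro ⟨-, rfl⟩ i
        by_cases hi : i ∈ supp o b
        · rw [if_pos hi]; exact mem_erase.mpr ⟨mem_supp.mp hi, mem_univ _⟩
        · rw [if_neg hi, mem_singleton]; rw [mem_supp] at hi; exact not_not.mp hi
      · intro h
        have hS' : supp o b = S := by
          ext i
          have := h i
          by_cases hi : i ∈ S
          · rw [if_pos hi] at this; simp [mem_supp, hi, (mem_erase.mp this).1]
          · rw [if_neg hi, mem_singleton] at this; simp [mem_supp, hi, this]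
        exact ⟨by rw [hS', hSj], hS'⟩
    rw [this, Fintype.card_piFinset]
    simp only [apply_ite card, card_erase_of_mem (mem_univ o), card_singleton, card_univ]
    rw [prod_ite_mem, univ_inter, prod_const, hSj]
  rw [sum_congr rfl this, sum_const, card_powersetCard, card_univ, Fintype.card_fin, smul_eq_mul]

theorem le_choose {t j : ℕ} (h1 : 1 ≤ j) (h2 : j < t) : t ≤ t.choose j := by
  induction t generalizing j with
  | zero => omega
  | succ t ih =>
    obtain ⟨i, rfl⟩ := Nat.exists_eq_succ_of_ne_zero (by omega : j ≠ 0)
    rw [Nat.choose_succ_succ]
    rcases Nat.eq_or_lt_of_le (Nat.le_of_lt_succ h2) with h | h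
    · subst h
      have h3 : (i + 1).choose i = i + 1 := Nat.choose_succ_self_right i
      have h4 : (i + 1).choose (i + 1) = 1 := Nat.choose_self _
      show i + 1 + 1 ≤ (i + 1).choose i + (i + 1).choose (i + 1)
      omega
    · have h5 := ih (j := i + 1) (by omega) h
      have h6 : 0 < t.choose i := Nat.choose_pos (by omega)
      show t + 1 ≤ t.choose i + t.choose (i + 1)
      omega

/-- A monomial change of one function into another with the same support size. -/
theorem exists_perm_of_card_supp (o : D) {a b : Fin t → D}
    (h : (supp o a).card = (supp o b).card) :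
    ∃ π : Equiv.Perm (Fin t), ∀ i, b i ≠ o ↔ a (π i) ≠ o := by
  have e : {i // i ∈ supp o b} ≃ {i // i ∈ supp o a} := Finset.equivOfCardEq h.symm
  refine ⟨e.extendSubtype, fun i => ?_⟩
  rw [← mem_supp, ← mem_supp]
  constructor
  · exact fun hi => Equiv.extendSubtype_mem e i hi
  · intro hi
    by_contra hni
    exact Equiv.extendSubtype_not_mem e i hni hi

end CfsgLib.Perm.AltSection
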