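import Mathlib

/-!
Joint eigenspaces of commuting operators of finite order, as used for alternating sections of linear
groups.
-/

set_option autoImplicit false

namespace CfsgLib.Perm.AltSection

open Module

variable {k V ι : Type*} [Field k] [AddCommGroup V] [Module k V]

/-- The eigenspace of an operator. -/
def eig (t : End k V) (c : k) : Submodule k V := LinearMap.ker (t - c • (1 : End k V))

theorem mem_eig {t : End k V} {c : k} {v : V} : v ∈ eig t c ↔ t v = c • v := by
  simp [eig, sub_eq_zero]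

theorem pow_eig {t : End k V} {c : k} {v : V} (hv : t v = c • v) (j : ℕ) :
    (t ^ j) v = c ^ j • v := by
  induction j with
  | zero => simp
  | succ j ih => rw [pow_succ, Module.End.mul_apply, hv, map_smul, ih, smul_smul, pow_succ']

/-- The averaging projection onto an eigenspace. -/
noncomputable def proj (t : End k V) (ℓ : ℕ) (c : k) : End k V :=
  (ℓ : k)⁻¹ • ∑ j ∈ Finset.range ℓ, (c⁻¹) ^ j • t ^ j

theorem apply_proj {t : End k V} {ℓ : ℕ} (ht : t ^ ℓ = 1) {c : k} (hc0 : c ≠ 0) (hc : c ^ ℓ = 1)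
    (v : V) : t (proj t ℓ c v) = c • proj t ℓ c v := by
  set f : ℕ → V := fun j => (c⁻¹) ^ j • (t ^ j) v with hf
  have hper : f ℓ = f 0 := by simp [hf, ht, inv_pow, hc]
  have hsum : ∑ j ∈ Finset.range ℓ, f (j + 1) = ∑ j ∈ Finset.range ℓ, f j := by
    have h1 := Finset.sum_range_succ' f ℓ
    have h2 := Finset.sum_range_succ f ℓ
    rw [h2, hper] at h1
    exact (add_right_cancel h1).symm
  have hshift : ∀ j : ℕ, t ((c⁻¹) ^ j • (t ^ j) v) = c • f (j + 1) := fun j => by
    rw [hf, map_smul, smul_smul, pow_succ, pow_succ' t, Module.End.mul_apply,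
      mul_comm ((c⁻¹) ^ j), ← mul_assoc, mul_inv_cancel₀ hc0, one_mul]
  simp only [proj, LinearMap.smul_apply, LinearMap.sum_apply, map_smul, map_sum]
  rw [smul_comm c]
  congr 1
  rw [show ∑ j ∈ Finset.range ℓ, (c⁻¹) ^ j • (t ^ j) v = ∑ j ∈ Finset.range ℓ, f (j + 1) from
    hsum.symm, Finset.smul_sum]
  refine Finset.sum_congr rfl fun j _ => ?_
  have h := hshift j
  rw [map_smul] at h
  exact h

theorem sum_proj {t : End k V} {ℓ : ℕ} {ζ : k} (hζ : IsPrimitiveRoot ζ ℓ) (hℓ : (ℓ : k) ≠ 0)
    (v : V) : ∑ i ∈ Finset.range ℓ, proj t ℓ (ζ ^ i) v = v := by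
  have hℓ0 : 0 < ℓ := Nat.pos_of_ne_zero fun e => hℓ (by rw [e, Nat.cast_zero])
  simp only [proj, LinearMap.smul_apply, LinearMap.sum_apply, ← Finset.smul_sum]
  rw [Finset.sum_comm]
  simp only [← Finset.sum_smul]
  rw [Finset.sum_eq_single 0]
  · simp [smul_smul, inv_mul_cancel₀ hℓ]
  · intro j hj hj0
    have hne : (ζ ^ j)⁻¹ ≠ 1 := fun e => hj0 <| Nat.eq_zero_of_dvd_of_lt
      ((hζ.pow_eq_one_iff_dvd j).mp (inv_eq_one.mp e)) (Finset.mem_range.mp hj)
    have h1 : ∀ i : ℕ, ((ζ ^ i)⁻¹) ^ j = ((ζ ^ j)⁻¹) ^ i := fun i => by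
      rw [inv_pow, inv_pow, ← pow_mul, ← pow_mul, mul_comm]
    simp only [h1]
    rw [geom_sum_eq hne, inv_pow, ← pow_mul, mul_comm, pow_mul, hζ.pow_eq_one]
    simp
  · intro h; exact absurd (Finset.mem_range.mpr hℓ0) h

theorem commute_proj {s t : End k V} (h : Commute s t) (ℓ : ℕ) (c : k) :
    Commute s (proj t ℓ c) := by
  refine Commute.smul_right (Commute.sum_right _ _ _ fun j _ => ?_) _
  exact (h.pow_right j).smul_right _

/-- A joint eigenspace. -/
def wsp (t : ι → End k V) (w : ι → k) : Submodule k V := ⨅ i, eig (t i) (w i)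

theorem mem_wsp {t : ι → End k V} {w : ι → k} {v : V} :
    v ∈ wsp t w ↔ ∀ i, t i v = w i • v := by simp [wsp, mem_eig]

theorem eq_zero_of_sum_eq_zero (t : ι → End k V) :
    ∀ S : Finset (ι → k), ∀ f : (ι → k) → V, (∀ w ∈ S, f w ∈ wsp t w) → ∑ w ∈ S, f w = 0 →
      ∀ w ∈ S, f w = 0 := by
  classical
  intro S
  induction S using Finset.induction_on with
  | empty => simp
  | @insert a S ha ih =>
    intro f hf hs
    have key : ∀ i, ∀ w ∈ S, (w i - a i) • f w = 0 := by
      intro i
      refine ih (fun w => (w i - a i) • f w)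
        (fun w hw => Submodule.smul_mem _ _ (hf w (Finset.mem_insert_of_mem hw))) ?_
      have h1 := congrArg (fun v => t i v - a i • v) hs
      simp only [map_sum, map_zero, smul_zero, sub_zero, Finset.smul_sum,
        ← Finset.sum_sub_distrib] at h1
      rw [Finset.sum_congr rfl fun w hw => by rw [mem_wsp.mp (hf w hw) i, ← sub_smul],
        Finset.sum_insert ha, sub_self, zero_smul, zero_add] at h1
      exact h1
    have hS : ∀ w ∈ S, f w = 0 := fun w hw => by
      obtain ⟨i, hi⟩ := Function.ne_iff.mp (fun e : w = a => ha (e ▸ hw))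
      exact (smul_eq_zero.mp (key i w hw)).resolve_left (sub_ne_zero.mpr hi)
    intro w hw
    rcases Finset.mem_insert.mp hw with rfl | hw
    · rwa [Finset.sum_insert ha, Finset.sum_eq_zero hS, add_zero] at hs
    · exact hS w hw

theorem sum_finrank_le [FiniteDimensional k V] (t : ι → End k V) (S : Finset (ι → k)) :
    ∑ w ∈ S, finrank k (wsp t w) ≤ finrank k V := by
  classical
  let L : (∀ w : S, wsp t (w : ι → k)) →ₗ[k] V :=
    ∑ w : S, (wsp t (w : ι → k)).subtype.comp (LinearMap.proj w)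
  have hL : Function.Injective L := by
    rw [injective_iff_map_eq_zero]
    intro f hf
    have hs : ∑ w ∈ S, (if h : w ∈ S then (f ⟨w, h⟩ : V) else 0) = 0 := by
      rw [← Finset.sum_attach, ← hf]
      simp [L]
    have := eq_zero_of_sum_eq_zero t S _
      (fun w hw => by rw [dif_pos hw]; exact (f ⟨w, hw⟩).2) hs
    funext w
    have h := this w w.2
    rw [dif_pos w.2] at h
    exact Subtype.ext h
  refine le_trans (le_of_eq ?_) (LinearMap.finrank_le_finrank_of_injective hL)
  rw [Module.finrank_pi_fintype, ← Finset.sum_attach]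
  rfl

theorem sum_finrank_le_of_le [FiniteDimensional k V] (t : ι → End k V) (S : Finset (ι → k))
    (U : Submodule k V) (hU : ∀ w ∈ S, wsp t w ≤ U) :
    ∑ w ∈ S, finrank k (wsp t w) ≤ finrank k U := by
  classical
  let L : (∀ w : S, wsp t (w : ι → k)) →ₗ[k] V :=
    ∑ w : S, (wsp t (w : ι → k)).subtype.comp (LinearMap.proj w)
  have hL : Function.Injective L := by
    rw [injective_iff_map_eq_zero]
    intro f hf
    have hs : ∑ w ∈ S, (if h : w ∈ S then (f ⟨w, h⟩ : V) else 0) = 0 := by
      rw [← Finset.sum_attach, ← hf]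
      simp [L]
    have := eq_zero_of_sum_eq_zero t S _
      (fun w hw => by rw [dif_pos hw]; exact (f ⟨w, hw⟩).2) hs
    funext w
    have h := this w w.2
    rw [dif_pos w.2] at h
    exact Subtype.ext h
  have hmem : ∀ f, L f ∈ U := fun f => by
    simp only [L, LinearMap.sum_apply]
    exact Submodule.sum_mem _ fun w _ => hU w w.2 (f w).2
  refine le_trans (le_of_eq ?_) (LinearMap.finrank_le_finrank_of_injective (f := L.codRestrict U hmem)
    fun f g h => hL (congrArg Subtype.val h))
  rw [Module.finrank_pi_fintype, ← Finset.sum_attach]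
  rfl

theorem card_le_finrank [FiniteDimensional k V] (t : ι → End k V) (S : Finset (ι → k))
    (hS : ∀ w ∈ S, wsp t w ≠ ⊥) : S.card ≤ finrank k V := by
  refine le_trans ?_ (sum_finrank_le t S)
  rw [Finset.card_eq_sum_ones]
  exact Finset.sum_le_sum fun w hw =>
    Submodule.one_le_finrank_iff.mpr (hS w hw)

/-- Every vector is a sum of joint eigenvectors. -/
theorem iSup_wsp [Fintype ι] (t : ι → End k V) {ℓ : ℕ} (ht : ∀ i, t i ^ ℓ = 1)
    (hc : ∀ i j, Commute (t i) (t j)) {ζ : k} (hζ : IsPrimitiveRoot ζ ℓ) (hℓ : (ℓ : k) ≠ 0) :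
    ⨆ (w : ι → k) (_ : ∀ i, w i ^ ℓ = 1), wsp t w = ⊤ := by
  classical
  have hℓ0 : 0 < ℓ := Nat.pos_of_ne_zero fun e => hℓ (by rw [e, Nat.cast_zero])
  suffices ∀ (s : Finset ι) (v : V) (w : ι → k), (∀ i, w i ^ ℓ = 1) →
      (∀ i, i ∉ s → t i v = w i • v) →
      v ∈ ⨆ (w : ι → k) (_ : ∀ i, w i ^ ℓ = 1), wsp t w from
    eq_top_iff.mpr fun v _ =>
      this Finset.univ v (fun _ => 1) (fun _ => one_pow _) fun i hi => absurd (Finset.mem_univ i) hi
  intro s
  induction s using Finset.induction_on with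
  | empty =>
    intro v w hw hv
    exact Submodule.mem_iSup_of_mem w (Submodule.mem_iSup_of_mem hw
      (mem_wsp.mpr fun i => hv i (Finset.notMem_empty i)))
  | @insert a s ha ih =>
    intro v w hw hv
    rw [← sum_proj (t := t a) hζ hℓ v]
    refine Submodule.sum_mem _ fun j _ => ih _ (Function.update w a (ζ ^ j)) ?_ ?_
    · intro i
      by_cases hia : i = a
      · subst hia; rw [Function.update_self, ← pow_mul, mul_comm, pow_mul, hζ.pow_eq_one, one_pow]
      · rw [Function.update_of_ne hia]; exact hw i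
    · intro i hi
      by_cases hia : i = a
      · subst hia
        rw [Function.update_self]
        exact apply_proj (ht i) (pow_ne_zero _ (hζ.ne_zero hℓ0.ne'))
          (by rw [← pow_mul, mul_comm, pow_mul, hζ.pow_eq_one, one_pow]) v
      · rw [Function.update_of_ne hia]
        have h1 := congrArg (fun f : End k V => f v)
          (commute_proj (hc i a) ℓ (ζ ^ j)).eq
        simp only [Module.End.mul_apply] at h1
        rw [h1, hv i (fun hm => (Finset.mem_insert.mp hm).elim hia hi), map_smul]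

end CfsgLib.Perm.AltSection
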