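import Mathlib

/-!
Projective representations as relations between group elements and operators.
-/

set_option autoImplicit false

namespace CfsgLib.Perm.AltSection

open Module

variable {k V G : Type*} [Field k] [AddCommGroup V] [Module k V] [Group G]

/-- The scalar operators. -/
def sc : kˣ →* (End k V)ˣ := Units.map (algebraMap k (End k V)).toMonoidHom

@[simp] theorem sc_apply (c : kˣ) (v : V) : ((sc c : (End k V)ˣ) : End k V) v = (c : k) • v := rfl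

theorem sc_comm (c : kˣ) (u : (End k V)ˣ) : sc c * u = u * sc c :=
  Units.ext (Algebra.commutes (c : k) (u : End k V))

theorem sc_conj (c : kˣ) (u w : (End k V)ˣ) : w * (sc c * u) * w⁻¹ = sc c * (w * u * w⁻¹) := by
  rw [← mul_assoc w, ← sc_comm c w, mul_assoc (sc c) w u, mul_assoc (sc c)]

theorem sc_mul_pow (c : kˣ) (u : (End k V)ˣ) (m : ℕ) : (sc c * u) ^ m = sc (c ^ m) * u ^ m := by
  rw [(Commute.mul_pow (sc_comm c u) m), map_pow]

theorem sc_injective [Nontrivial V] : Function.Injective (sc : kˣ →* (End k V)ˣ) := by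
  intro a b h
  obtain ⟨v, hv⟩ := exists_ne (0 : V)
  have := congrArg (fun u : (End k V)ˣ => (u : End k V) v) h
  simp only [sc_apply] at this
  exact Units.ext (smul_left_injective k hv this)

variable (k V G) in
/-- A projective representation: which operators lift which group elements. -/
structure PRep where
  /-- The lifting relation. -/
  Lift : G → (End k V)ˣ → Prop
  exists_lift : ∀ g, ∃ u, Lift g u
  mul : ∀ {a b u w}, Lift a u → Lift b w → Lift (a * b) (u * w)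
  sc_one : ∀ c, Lift 1 (sc c)
  scalar : ∀ {u}, Lift 1 u → ∃ c, u = sc c
  eq_one : ∀ {g c}, Lift g (sc c) → g = 1

namespace PRep

variable (ρ : PRep k V G)

theorem one : ρ.Lift 1 1 := by simpa using ρ.sc_one 1

variable {ρ}

theorem inv {g : G} {u : (End k V)ˣ} (h : ρ.Lift g u) : ρ.Lift g⁻¹ u⁻¹ := by
  obtain ⟨w, hw⟩ := ρ.exists_lift g⁻¹
  have h1 := ρ.mul h hw
  rw [mul_inv_cancel] at h1
  obtain ⟨c, hc⟩ := ρ.scalar h1
  have : u⁻¹ = w * sc c⁻¹ := by
    rw [inv_eq_iff_mul_eq_one, ← mul_assoc, hc, ← map_mul, mul_inv_cancel, map_one]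
  rw [this]
  have h2 := ρ.mul hw (ρ.sc_one c⁻¹)
  rwa [mul_one] at h2

theorem pow {g : G} {u : (End k V)ˣ} (h : ρ.Lift g u) : ∀ m : ℕ, ρ.Lift (g ^ m) (u ^ m)
  | 0 => by simpa using ρ.one
  | m + 1 => by rw [pow_succ, pow_succ]; exact ρ.mul (pow h m) h

theorem conj {g x : G} {u w : (End k V)ˣ} (hg : ρ.Lift g u) (hx : ρ.Lift x w) :
    ρ.Lift (x * g * x⁻¹) (w * u * w⁻¹) :=
  ρ.mul (ρ.mul hx hg) (inv hx)

theorem smul {g : G} {u : (End k V)ˣ} (h : ρ.Lift g u) (c : kˣ) : ρ.Lift g (sc c * u) := by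
  have := ρ.mul (ρ.sc_one c) h
  rwa [one_mul] at this

theorem eq_sc_mul {g : G} {u w : (End k V)ˣ} (hu : ρ.Lift g u) (hw : ρ.Lift g w) :
    ∃ c, u = sc c * w := by
  have h := ρ.mul hu (inv hw)
  rw [mul_inv_cancel] at h
  obtain ⟨c, hc⟩ := ρ.scalar h
  exact ⟨c, by rw [← hc, inv_mul_cancel_right]⟩

theorem eq_of_lift {a b : G} {u : (End k V)ˣ} (ha : ρ.Lift a u) (hb : ρ.Lift b u) : a = b := by
  have h := ρ.mul ha (inv hb)
  rw [mul_inv_cancel, ← map_one (sc : kˣ →* (End k V)ˣ)] at h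
  exact mul_inv_eq_one.mp (ρ.eq_one h)

theorem ne_one {g : G} {u : (End k V)ˣ} (h : ρ.Lift g u) (hg : g ≠ 1) : u ≠ 1 := fun e =>
  hg (eq_of_lift h (e ▸ ρ.one))

/-- Two lifts of one element agreeing on a nonzero vector are equal. -/
theorem eq_of_apply {g : G} {u w : (End k V)ˣ} (hu : ρ.Lift g u) (hw : ρ.Lift g w) {v : V}
    (hv : v ≠ 0) (he : (u : End k V) v = (w : End k V) v) : u = w := by
  obtain ⟨c, rfl⟩ := eq_sc_mul hu hw
  simp only [Units.val_mul, Module.End.mul_apply, sc_apply] at he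
  have hne : (w : End k V) v ≠ 0 := fun e => hv (by
    have := congrArg (fun f : (End k V) => f v) (Units.inv_mul w)
    simp only [Module.End.mul_apply, Module.End.one_apply] at this
    rw [← this, e, map_zero])
  have : (c : k) = 1 := smul_left_injective k hne (by simpa using he)
  rw [show c = 1 from Units.ext this, map_one, one_mul]

theorem eq_one_of_apply {u : (End k V)ˣ} (hu : ρ.Lift 1 u) {v : V} (hv : v ≠ 0)
    (he : (u : End k V) v = v) : u = 1 :=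
  eq_of_apply hu ρ.one hv (by simpa using he)

variable (ρ)

/-- All lifts of two elements commute. -/
def Com (a b : G) : Prop :=
  ∀ u w, ρ.Lift a u → ρ.Lift b w → Commute u w

variable {ρ}

theorem com_of_exists {a b : G} {u w : (End k V)ˣ} (hu : ρ.Lift a u) (hw : ρ.Lift b w)
    (h : Commute u w) : ρ.Com a b := by
  intro u' w' hu' hw'
  obtain ⟨c, rfl⟩ := eq_sc_mul hu' hu
  obtain ⟨d, rfl⟩ := eq_sc_mul hw' hw
  exact ((Commute.all c d).map sc |>.mul_right (sc_comm c w)).mul_left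
    ((Commute.symm (sc_comm d u)).mul_right h)

theorem com_mul {a a' b : G} (h : ρ.Com a b) (h' : ρ.Com a' b) : ρ.Com (a * a') b := by
  obtain ⟨u, hu⟩ := ρ.exists_lift a
  obtain ⟨u', hu'⟩ := ρ.exists_lift a'
  obtain ⟨w, hw⟩ := ρ.exists_lift b
  exact com_of_exists (ρ.mul hu hu') hw ((h u w hu hw).mul_left (h' u' w hu' hw))

theorem com_pow_self (b : G) (m : ℕ) : ρ.Com (b ^ m) b := by
  obtain ⟨w, hw⟩ := ρ.exists_lift b
  exact com_of_exists (pow hw m) hw ((Commute.refl w).pow_left m)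

theorem com_one (b : G) : ρ.Com 1 b := by simpa using com_pow_self (ρ := ρ) b 0

/-- For commuting elements the commutator of two lifts is a scalar. -/
theorem exists_pairing {a b : G} (h : Commute a b) {u w : (End k V)ˣ} (hu : ρ.Lift a u)
    (hw : ρ.Lift b w) : ∃ c, u * w * u⁻¹ = sc c * w := by
  refine eq_sc_mul ?_ hw
  have := conj hw hu
  rwa [h.eq, mul_inv_cancel_right] at this

theorem com_of_coprime [Nontrivial V] {a b : G} (h : Commute a b) {m n : ℕ} (ha : a ^ m = 1)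
    (hb : b ^ n = 1) (hmn : Nat.Coprime m n) : ρ.Com a b := by
  obtain ⟨u, hu⟩ := ρ.exists_lift a
  obtain ⟨w, hw⟩ := ρ.exists_lift b
  obtain ⟨c, hc⟩ := exists_pairing h hu hw
  have hu1 := pow hu m
  have hw1 := pow hw n
  rw [ha] at hu1
  rw [hb] at hw1
  obtain ⟨cu, hcu⟩ := ρ.scalar hu1
  obtain ⟨cw, hcw⟩ := ρ.scalar hw1
  have hcn : c ^ n = 1 := by
    have := congrArg (fun x => x ^ n) hc
    simp only [conj_pow, sc_mul_pow, hcw] at this
    rw [← sc_comm, mul_inv_cancel_right, ← map_mul] at this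
    exact mul_eq_right.mp (sc_injective this).symm
  have key : ∀ j : ℕ, u ^ j * w * (u ^ j)⁻¹ = sc (c ^ j) * w := by
    intro j
    induction j with
    | zero => simp
    | succ j ih =>
      rw [pow_succ', mul_inv_rev, show u * u ^ j * w * ((u ^ j)⁻¹ * u⁻¹) =
        u * (u ^ j * w * (u ^ j)⁻¹) * u⁻¹ by group, ih, sc_conj, hc, ← mul_assoc, ← map_mul,
        ← pow_succ]
  have hcm : c ^ m = 1 := by
    have := key m
    rw [hcu, sc_comm, mul_inv_cancel_right] at this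
    refine sc_injective (V := V) ?_
    rw [map_one]
    exact mul_eq_right.mp this.symm
  have : c = 1 := by
    rw [← orderOf_eq_one_iff, ← Nat.dvd_one, ← hmn.gcd_eq_one]
    exact Nat.dvd_gcd (orderOf_dvd_of_pow_eq_one hcm) (orderOf_dvd_of_pow_eq_one hcn)
  rw [this, map_one, one_mul] at hc
  exact com_of_exists hu hw (mul_inv_eq_iff_eq_mul.mp hc)

/-- A commutator of elements centralising `b` has lifts commuting with those of `b`. -/
theorem com_commutator {a a' b : G} (h : Commute a b) (h' : Commute a' b) :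
    ρ.Com (a * a' * a⁻¹ * a'⁻¹) b := by
  obtain ⟨u, hu⟩ := ρ.exists_lift a
  obtain ⟨u', hu'⟩ := ρ.exists_lift a'
  obtain ⟨w, hw⟩ := ρ.exists_lift b
  obtain ⟨c, hc⟩ := exists_pairing h hu hw
  obtain ⟨d, hd⟩ := exists_pairing h' hu' hw
  refine com_of_exists (ρ.mul (ρ.mul (ρ.mul hu hu') (inv hu)) (inv hu')) hw ?_
  have hc' : u⁻¹ * w * u = sc c⁻¹ * w := by
    rw [map_inv, eq_inv_mul_iff_mul_eq]
    calc sc c * (u⁻¹ * w * u) = u⁻¹ * (sc c * w) * u := by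
          have := (sc_conj c w u⁻¹).symm; rwa [inv_inv] at this
      _ = w := by rw [← hc]; group
  have hd' : u'⁻¹ * w * u' = sc d⁻¹ * w := by
    rw [map_inv, eq_inv_mul_iff_mul_eq]
    calc sc d * (u'⁻¹ * w * u') = u'⁻¹ * (sc d * w) * u' := by
          have := (sc_conj d w u'⁻¹).symm; rwa [inv_inv] at this
      _ = w := by rw [← hd]; group
  refine mul_inv_eq_iff_eq_mul.mp ?_
  calc u * u' * u⁻¹ * u'⁻¹ * w * (u * u' * u⁻¹ * u'⁻¹)⁻¹
      = u * (u' * (u⁻¹ * (u'⁻¹ * w * u') * u) * u'⁻¹) * u⁻¹ := by group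
    _ = u * (u' * (u⁻¹ * (sc d⁻¹ * w) * u⁻¹⁻¹) * u'⁻¹) * u⁻¹ := by rw [hd', inv_inv]
    _ = sc d⁻¹ * (sc c⁻¹ * (u * (u' * w * u'⁻¹) * u⁻¹)) := by
        rw [sc_conj, inv_inv, hc', sc_conj, sc_conj, sc_conj, sc_conj]
    _ = w := by
        rw [hd, sc_conj, hc, ← mul_assoc, ← mul_assoc, ← mul_assoc, ← map_mul, ← map_mul,
          ← map_mul, show d⁻¹ * c⁻¹ * d * c = 1 by rw [mul_right_comm d⁻¹]; simp, map_one, one_mul]

variable (ρ)

/-- The normalised lift of an element of odd order inverted by some element. -/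
def Norm (g : G) (ℓ : ℕ) (u : (End k V)ˣ) : Prop :=
  ρ.Lift g u ∧ u ^ ℓ = 1 ∧ ∀ i w, i * g * i⁻¹ = g⁻¹ → ρ.Lift i w → w * u * w⁻¹ = u⁻¹

variable {ρ}

theorem norm_unique [Nontrivial V] {g i : G} {ℓ : ℕ} (hℓ : Odd ℓ) {u u' w : (End k V)ˣ}
    (hu : ρ.Norm g ℓ u) (hu' : ρ.Lift g u') (hp : u' ^ ℓ = 1) (hi : i * g * i⁻¹ = g⁻¹)
    (hw : ρ.Lift i w) (h : w * u' * w⁻¹ = u'⁻¹) : u' = u := by
  obtain ⟨a, rfl⟩ := eq_sc_mul hu' hu.1
  rw [sc_conj, hu.2.2 i w hi hw, mul_inv_rev, ← map_inv, ← sc_comm, mul_right_cancel_iff] at h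
  have h2 : a = a⁻¹ := sc_injective h
  rw [sc_mul_pow, hu.2.1, mul_one] at hp
  have h3 : a ^ ℓ = 1 := sc_injective (hp.trans (map_one (sc : kˣ →* (End k V)ˣ)).symm)
  obtain ⟨m, rfl⟩ := hℓ
  rw [pow_succ, pow_mul, sq] at h3
  nth_rw 2 [h2] at h3
  rw [mul_inv_cancel, one_pow, one_mul] at h3
  rw [h3, map_one, one_mul]

theorem norm_conj {g x : G} {ℓ : ℕ} {u w : (End k V)ˣ} (hu : ρ.Norm g ℓ u) (hw : ρ.Lift x w) :
    ρ.Norm (x * g * x⁻¹) ℓ (w * u * w⁻¹) := by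
  refine ⟨conj hu.1 hw, by rw [conj_pow, hu.2.1]; group, fun i z hi hz => ?_⟩
  have h := hu.2.2 (x⁻¹ * i * x) (w⁻¹ * z * w) (by
    calc x⁻¹ * i * x * g * (x⁻¹ * i * x)⁻¹ = x⁻¹ * (i * (x * g * x⁻¹) * i⁻¹) * x := by group
      _ = g⁻¹ := by rw [hi]; group) (ρ.mul (ρ.mul (inv hw) hz) hw)
  calc z * (w * u * w⁻¹) * z⁻¹ = w * ((w⁻¹ * z * w) * u * (w⁻¹ * z * w)⁻¹) * w⁻¹ := by group
    _ = (w * u * w⁻¹)⁻¹ := by rw [h]; group

theorem exists_norm [IsAlgClosed k] [Nontrivial V] {g i : G} {ℓ : ℕ} (hℓ : Odd ℓ)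
    (hg : g ^ ℓ = 1) (hi : i * g * i⁻¹ = g⁻¹) (hc : ∀ z, Commute z g → ρ.Com z g) :
    ∃ u, ρ.Norm g ℓ u := by
  obtain ⟨u0, hu0⟩ := ρ.exists_lift g
  obtain ⟨w, hw⟩ := ρ.exists_lift i
  have h1 := pow hu0 ℓ
  rw [hg] at h1
  obtain ⟨c0, hc0⟩ := ρ.scalar h1
  obtain ⟨a, ha⟩ := IsAlgClosed.exists_pow_nat_eq ((c0⁻¹ : kˣ) : k) hℓ.pos
  have ha0 : a ≠ 0 := fun e => by
    rw [e, zero_pow hℓ.pos.ne'] at ha; exact (c0⁻¹).ne_zero ha.symm
  set u1 := sc (Units.mk0 a ha0) * u0 with hu1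
  have hu1l : ρ.Lift g u1 := smul hu0 _
  have hu1p : u1 ^ ℓ = 1 := by
    rw [hu1, sc_mul_pow, hc0, ← map_mul, show Units.mk0 a ha0 ^ ℓ * c0 = 1 by
      ext; simp [ha], map_one]
  obtain ⟨c, hc1⟩ := eq_sc_mul (hi ▸ conj hu1l hw) (inv hu1l)
  have hcl : c ^ ℓ = 1 := by
    have := congrArg (fun x => x ^ ℓ) hc1
    simp only [conj_pow, sc_mul_pow, inv_pow, hu1p, inv_one, mul_one, mul_inv_cancel] at this
    exact sc_injective (this.symm.trans (map_one (sc : kˣ →* (End k V)ˣ)).symm)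
  obtain ⟨m, rfl⟩ := hℓ
  refine ⟨sc (c ^ m) * u1, smul hu1l _, ?_, fun i' w' hi' hw' => ?_⟩
  · rw [sc_mul_pow, hu1p, mul_one, ← pow_mul, mul_comm m, pow_mul, hcl, one_pow, map_one]
  · have hz : Commute (i⁻¹ * i') g := by
      rw [commute_iff_eq]
      calc i⁻¹ * i' * g = i⁻¹ * (i' * g * i'⁻¹) * i' := by group
        _ = i⁻¹ * g⁻¹ * i' := by rw [hi']
        _ = i⁻¹ * (i * g * i⁻¹) * i' := by rw [hi]
        _ = g * (i⁻¹ * i') := by group
    have hcomm := hc _ hz (w⁻¹ * w') u1 (ρ.mul (inv hw) hw') hu1l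
    have hconj : w' * u1 * w'⁻¹ = w * u1 * w⁻¹ := by
      calc w' * u1 * w'⁻¹ = w * ((w⁻¹ * w') * u1 * (w⁻¹ * w')⁻¹) * w⁻¹ := by group
        _ = w * u1 * w⁻¹ := by rw [hcomm.eq]; group
    rw [sc_conj, hconj, hc1, mul_inv_rev (sc (c ^ m)), ← map_inv, ← sc_comm (c ^ m)⁻¹, ← mul_assoc,
      ← map_mul]
    congr 2
    rw [eq_inv_iff_mul_eq_one, mul_right_comm, ← pow_add, ← two_mul, ← pow_succ, hcl]

variable (ρ)

/-- All lifts of `g` act as scalars on a subspace. -/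
def ActsScalar (g : G) (W : Submodule k V) : Prop :=
  ∀ u, ρ.Lift g u → ∃ c : k, ∀ v ∈ W, (u : End k V) v = c • v

variable {ρ}

theorem actsScalar_of_exists {g : G} {W : Submodule k V} {u : (End k V)ˣ} (hu : ρ.Lift g u)
    {c : k} (h : ∀ v ∈ W, (u : End k V) v = c • v) : ρ.ActsScalar g W := by
  intro u' hu'
  obtain ⟨d, rfl⟩ := eq_sc_mul hu' hu
  exact ⟨(d : k) * c, fun v hv => by
    rw [Units.val_mul, Module.End.mul_apply, h v hv, sc_apply, smul_smul]⟩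

theorem actsScalar_one (W : Submodule k V) : ρ.ActsScalar 1 W :=
  actsScalar_of_exists ρ.one (c := 1) fun v _ => by simp

theorem actsScalar_mul {g g' : G} {W : Submodule k V} (h : ρ.ActsScalar g W)
    (h' : ρ.ActsScalar g' W) : ρ.ActsScalar (g * g') W := by
  obtain ⟨u, hu⟩ := ρ.exists_lift g
  obtain ⟨u', hu'⟩ := ρ.exists_lift g'
  obtain ⟨c, hc⟩ := h u hu
  obtain ⟨c', hc'⟩ := h' u' hu'
  exact actsScalar_of_exists (ρ.mul hu hu') (c := c' * c) fun v hv => by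
    rw [Units.val_mul, Module.End.mul_apply, hc' v hv, map_smul, hc v hv, smul_smul]

variable (ρ)

/-- No proper nonzero subspace is invariant under all lifts. -/
def Irred : Prop :=
  ∀ W : Submodule k V, (∀ g u, ρ.Lift g u → ∀ v ∈ W, (u : End k V) v ∈ W) → W = ⊥ ∨ W = ⊤

end PRep

end CfsgLib.Perm.AltSection
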