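import Mathlib
import Cfsg.Agent.Lib.Perm.AltSection.Lin
import Cfsg.Agent.Lib.Perm.AltSection.Count
import Cfsg.Agent.Lib.Perm.AltSection.Block
import Cfsg.Agent.Lib.Perm.AltSection.PRep

/-!
Normalised lifts of cycles of odd prime length and their weights.
-/

set_option autoImplicit false

namespace CfsgLib.Perm.AltSection

open Module Equiv

variable {k V : Type*} [Field k] [AddCommGroup V] [Module k V] {r : ℕ}

/-- Endomorphisms killing each other's images have independent images. -/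
theorem sum_range_le [FiniteDimensional k V] {ι : Type*} [Fintype ι] (N : ι → End k V)
    (hN : ∀ i j, i ≠ j → N i * N j = 0) (hk : ∀ i, ∀ v, N i (N i v) = 0 → N i v = 0) :
    ∑ i, finrank k (LinearMap.range (N i)) ≤ finrank k V := by
  classical
  let L : (∀ i, LinearMap.range (N i)) →ₗ[k] V :=
    ∑ i, (LinearMap.range (N i)).subtype.comp (LinearMap.proj i)
  have hL : Function.Injective L := by
    rw [injective_iff_map_eq_zero]
    intro x hx
    funext i
    apply Subtype.ext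
    obtain ⟨v, hv⟩ := (x i).2
    have h := congrArg (N i) hx
    simp only [L, LinearMap.sum_apply, LinearMap.comp_apply, LinearMap.proj_apply,
      Submodule.subtype_apply, map_sum, map_zero] at h
    rw [Finset.sum_eq_single i (fun j _ hji => by
      obtain ⟨w, hw⟩ := (x j).2
      rw [← hw]
      exact congrArg (fun T : End k V => T w) (hN i j (Ne.symm hji)))
      (fun h' => absurd (Finset.mem_univ i) h'), ← hv] at h
    rw [← hv]
    exact hk i v h
  refine le_trans (le_of_eq ?_) (LinearMap.finrank_le_finrank_of_injective hL)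
  rw [Module.finrank_pi_fintype]

theorem eq_zero_of_fixed_image {T : End k V} {ℓ : ℕ} (hT : T ^ ℓ = 1) (hℓ : (ℓ : k) ≠ 0) {v : V}
    (h : (T - 1) ((T - 1) v) = 0) : (T - 1) v = 0 := by
  have h1 : ∀ j : ℕ, (T ^ j) v = v + (j : k) • (T - 1) v := by
    intro j
    induction j with
    | zero => simp
    | succ j ih =>
      have hfix : T ((T - 1) v) = (T - 1) v := sub_eq_zero.mp h
      rw [pow_succ', Module.End.mul_apply, ih, map_add, map_smul, hfix, Nat.cast_succ, add_smul,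
        one_smul, LinearMap.sub_apply, Module.End.one_apply]
      abel
  have := h1 ℓ
  rw [hT, Module.End.one_apply, eq_comm, add_eq_left] at this
  exact (smul_eq_zero.mp this).resolve_left hℓ

theorem exists_primitive [IsAlgClosed k] {ℓ : ℕ} (hℓ0 : 0 < ℓ) (hℓ : (ℓ : k) ≠ 0) :
    ∃ ζ : k, IsPrimitiveRoot ζ ℓ := by
  haveI : NeZero (ℓ : k) := ⟨hℓ⟩
  obtain ⟨ζ, hζ⟩ := IsAlgClosed.exists_root (Polynomial.cyclotomic ℓ k)
    (Polynomial.degree_cyclotomic_pos ℓ k hℓ0).ne'
  exact ⟨ζ, Polynomial.isRoot_cyclotomic_iff.mp hζ⟩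

variable {ℓ : ℕ} [hℓ : Fact ℓ.Prime]

/-- The numerical conditions making normalised lifts of rotations exist. -/
structure CycCond (ℓ r : ℕ) : Prop where
  odd : Odd ℓ
  two : ℓ + 2 ≤ r
  three : ℓ = 3 → 8 ≤ r

/-- A permutation fixing the support of a rotation commutes with it. -/
theorem commute_of_fixes (h2 : Odd ℓ) (f : ZMod ℓ ↪ Fin r) {z : alternatingGroup (Fin r)}
    (hz : Fixes (Finset.univ.image f) z) : Commute z (rot f 1) := by
  apply Subtype.ext
  ext y : 1
  simp only [Subgroup.coe_mul, Perm.mul_apply]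
  by_cases hy : ∃ x, f x = y
  · obtain ⟨x, rfl⟩ := hy
    rw [rot_apply h2, hz _ (Finset.mem_image_of_mem _ (Finset.mem_univ _)),
      hz _ (Finset.mem_image_of_mem _ (Finset.mem_univ _)), rot_apply h2]
  · push Not at hy
    rw [rot_of_notMem h2 f 1 hy, rot_of_notMem h2 f 1]
    intro x h
    exact hy x ((z : Perm (Fin r)).injective
      ((hz _ (Finset.mem_image_of_mem _ (Finset.mem_univ x))).trans h))

variable [Nontrivial V] (ρ : PRep k V (alternatingGroup (Fin r)))

theorem com_rot (hc : CycCond ℓ r) (f : ZMod ℓ ↪ Fin r) {z : alternatingGroup (Fin r)}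
    (hz : Commute z (rot f 1)) : ρ.Com z (rot f 1) := by
  obtain ⟨n, z', hfix, rfl⟩ := exists_decomp hc.odd f hz
  refine PRep.com_mul (PRep.com_pow_self _ n) ?_
  refine fixes_induction (P := fun g => ρ.Com g (rot f 1)) (PRep.com_one _)
    (fun g h => PRep.com_mul) (fun a b c hab hbc hac ha hb hc' => ?_) hfix
  by_cases h3 : ℓ = 3
  · subst h3
    have hcard : 1 < (Finset.univ \ (Finset.univ.image f ∪ {a, b, c})).card := by
      have h1 := (Finset.card_union_le (Finset.univ.image f) {a, b, c})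
      rw [Finset.card_image_of_injective _ f.injective, Finset.card_univ, ZMod.card] at h1
      have h2 : ({a, b, c} : Finset (Fin r)).card ≤ 3 := Finset.card_le_three
      rw [Finset.card_univ_sdiff, Fintype.card_fin]
      have := hc.three rfl
      omega
    obtain ⟨d, hd, e, he, hde⟩ := Finset.one_lt_card.mp hcard
    simp only [Finset.mem_sdiff, Finset.mem_univ, Finset.mem_union, Finset.mem_insert,
      Finset.mem_singleton, not_or, true_and] at hd he
    rw [cyc_eq_commutator (a := a) (b := b) (c := c) (d := d) (e := e)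
      (by simp [hab, hbc, hac, Ne.symm hd.2.1, Ne.symm hd.2.2.1, Ne.symm hd.2.2.2, Ne.symm he.2.1,
        Ne.symm he.2.2.1, Ne.symm he.2.2.2, hde])]
    refine PRep.com_commutator (commute_of_fixes hc.odd f ?_) (commute_of_fixes hc.odd f ?_)
    · rw [fixes_cyc hab (Ne.symm hd.2.2.1) (Ne.symm hd.2.1)]
      exact ⟨ha, hb, hd.1⟩
    · rw [fixes_cyc hac (Ne.symm he.2.2.2) (Ne.symm he.2.1)]
      exact ⟨ha, hc', he.1⟩
  · refine PRep.com_of_coprime (commute_of_fixes hc.odd f
      ((fixes_cyc hab hbc hac).mpr ⟨ha, hb, hc'⟩)) (m := 3) (n := ℓ) ?_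
      (rot_pow_prime hc.odd f) ((Nat.coprime_primes Nat.prime_three hℓ.out).mpr (Ne.symm h3))
    apply Subtype.ext
    rw [SubmonoidClass.coe_pow, OneMemClass.coe_one]
    exact (cyc_isThreeCycle hab hbc hac).orderOf ▸ pow_orderOf_eq_one _

/-- The normalised lift of a rotation. -/
noncomputable def Lr (f : ZMod ℓ ↪ Fin r) : (End k V)ˣ :=
  Classical.epsilon (ρ.Norm (rot f 1) ℓ)

variable [IsAlgClosed k]

theorem norm_Lr (hc : CycCond ℓ r) (f : ZMod ℓ ↪ Fin r) : ρ.Norm (rot f 1) ℓ (Lr ρ f) := by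
  obtain ⟨i, hi⟩ := exists_inverter hc.odd f hc.two
  exact Classical.epsilon_spec
    (PRep.exists_norm hc.odd (rot_pow_prime hc.odd f) hi fun z hz => com_rot ρ hc f hz)

theorem Lr_pow (hc : CycCond ℓ r) (f : ZMod ℓ ↪ Fin r) : (Lr ρ f : End k V) ^ ℓ = 1 := by
  rw [← Units.val_pow_eq_pow_val, (norm_Lr ρ hc f).2.1, Units.val_one]

theorem Lr_conj (hc : CycCond ℓ r) {f f' : ZMod ℓ ↪ Fin r} {g : alternatingGroup (Fin r)}
    {u : (End k V)ˣ} (hu : ρ.Lift g u) {m : (ZMod ℓ)ˣ}
    (h : ∀ x, (g : Perm (Fin r)) (f x) = f' ((m : ZMod ℓ) * x)) :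
    u * Lr ρ f * u⁻¹ = Lr ρ f' ^ (m : ZMod ℓ).val := by
  have h1 := PRep.norm_conj (norm_Lr ρ hc f) hu
  rw [rot_conj hc.odd h, mul_one, rot_pow_val hc.odd f' (m : ZMod ℓ)] at h1
  obtain ⟨i, hi⟩ := exists_inverter hc.odd f' hc.two
  obtain ⟨w, hw⟩ := ρ.exists_lift i
  have hn := norm_Lr ρ hc f'
  refine (PRep.norm_unique hc.odd h1 (PRep.pow hn.1 _) ?_ (i := i) ?_ hw ?_).symm
  · rw [← pow_mul, mul_comm, pow_mul, hn.2.1, one_pow]
  · rw [← conj_pow, hi, inv_pow]
  · rw [← conj_pow, hn.2.2 i w hi hw, inv_pow]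

theorem Lr_commute (hc : CycCond ℓ r) {f f' : ZMod ℓ ↪ Fin r}
    (h : Commute (rot f 1) (rot f' 1)) : Commute (Lr ρ f) (Lr ρ f') :=
  com_rot ρ hc f' h _ _ (norm_Lr ρ hc f).1 (norm_Lr ρ hc f').1

theorem Lr_ne_one (hc : CycCond ℓ r) (f : ZMod ℓ ↪ Fin r) : Lr ρ f ≠ 1 :=
  PRep.ne_one (norm_Lr ρ hc f).1 (rot_ne_one hc.odd f one_ne_zero)

section Weights

variable {t : ℕ} {ζ : k}

/-- The operators of a family of blocks. -/
noncomputable def blockOp (f : Fin t × ZMod ℓ ↪ Fin r) (i : Fin t) : End k V :=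
  (Lr ρ (blk f i) : (End k V)ˣ)

/-- Exponent vectors occurring as weights. -/
def IsWt (f : Fin t × ZMod ℓ ↪ Fin r) (ζ : k) (a : Fin t → ZMod ℓ) : Prop :=
  wsp (blockOp ρ f) (fun i => ζ ^ (a i).val) ≠ ⊥

omit [Nontrivial V] [IsAlgClosed k] in
theorem pow_val_mul (hζ : IsPrimitiveRoot ζ ℓ) (a b : ZMod ℓ) :
    (ζ ^ a.val) ^ b.val = ζ ^ (b * a).val := by
  rw [← pow_mul, ZMod.val_mul, mul_comm b.val, ← pow_eq_pow_mod _ hζ.pow_eq_one]

theorem isWt_mono (hc : CycCond ℓ r) (hζ : IsPrimitiveRoot ζ ℓ) (f : Fin t × ZMod ℓ ↪ Fin r)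
    {π : Perm (Fin t)} {m : Fin t → (ZMod ℓ)ˣ} (h : Perm.sign (mono π m) = 1)
    {a : Fin t → ZMod ℓ} (ha : IsWt ρ f ζ a) :
    IsWt ρ f ζ fun i => (m i : ZMod ℓ) * a (π i) := by
  obtain ⟨v, hv, hv0⟩ := Submodule.exists_mem_ne_zero_of_ne_bot ha
  obtain ⟨u, hu⟩ := ρ.exists_lift (embA f (mono π m))
  intro hbot
  have hmem : (↑u⁻¹ : End k V) v ∈
      wsp (blockOp ρ f) (fun i => ζ ^ ((m i : ZMod ℓ) * a (π i)).val) := by
    rw [mem_wsp]
    intro i
    have hconj : u * Lr ρ (blk f i) * u⁻¹ = Lr ρ (blk f (π i)) ^ (m i : ZMod ℓ).val :=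
      Lr_conj ρ hc hu (fun x => by rw [embA_val h, blk_apply, emb_apply, mono_apply]; rfl)
    have h1 : Lr ρ (blk f i) * u⁻¹ = u⁻¹ * Lr ρ (blk f (π i)) ^ (m i : ZMod ℓ).val := by
      rw [← hconj]; group
    have h2 := congrArg (fun w : (End k V)ˣ => (w : End k V) v) h1
    simp only [Units.val_mul, Units.val_pow_eq_pow_val, Module.End.mul_apply] at h2
    have h3 := pow_eig (mem_wsp.mp hv (π i)) (m i : ZMod ℓ).val
    rw [blockOp] at h3 ⊢
    rw [h2, h3, map_smul, pow_val_mul hζ]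
  rw [hbot, Submodule.mem_bot] at hmem
  refine hv0 ?_
  have := congrArg (fun T : End k V => T v) (Units.mul_inv u)
  simp only [Module.End.mul_apply, Module.End.one_apply, hmem, map_zero] at this
  exact this.symm

/-- An odd monomial permutation fixing an exponent vector. -/
def OddStab (a : Fin t → ZMod ℓ) : Prop :=
  ∃ (π : Perm (Fin t)) (m : Fin t → (ZMod ℓ)ˣ), Perm.sign (mono π m) = -1 ∧
    ∀ i, (m i : ZMod ℓ) * a (π i) = a i

theorem isWt_of_card_supp (hc : CycCond ℓ r) (hζ : IsPrimitiveRoot ζ ℓ)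
    (f : Fin t × ZMod ℓ ↪ Fin r) {a b : Fin t → ZMod ℓ} (ha : IsWt ρ f ζ a) (hs : OddStab a)
    (h : (supp 0 a).card = (supp 0 b).card) : IsWt ρ f ζ b := by
  obtain ⟨π, hπ⟩ := exists_perm_of_card_supp 0 h
  have hm : ∀ i, ∃ m : (ZMod ℓ)ˣ, (m : ZMod ℓ) * a (π i) = b i := fun i => by
    by_cases hb : b i = 0
    · exact ⟨1, by rw [hb, Units.val_one, one_mul]; exact not_not.mp fun h' => (hπ i).mpr h' hb⟩
    · exact ⟨Units.mk0 (b i / a (π i)) (div_ne_zero hb ((hπ i).mp hb)),
        div_mul_cancel₀ _ ((hπ i).mp hb)⟩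
  choose m hm using hm
  rcases Int.units_eq_one_or (Perm.sign (mono π m)) with hsgn | hsgn
  · have := isWt_mono ρ hc hζ f hsgn ha
    rwa [funext hm] at this
  · obtain ⟨π0, m0, h0, hfix⟩ := hs
    have hcomp : Perm.sign (mono (π0 * π) fun i => m0 (π i) * m i) = 1 := by
      rw [← mono_mul, map_mul, h0, hsgn]; rfl
    have := isWt_mono ρ hc hζ f hcomp ha
    have he : (fun i => ((m0 (π i) * m i : (ZMod ℓ)ˣ) : ZMod ℓ) * a ((π0 * π) i)) = b := by
      funext i
      rw [Units.val_mul, Perm.mul_apply, mul_comm (m0 (π i) : ZMod ℓ), mul_assoc, hfix, hm]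
    rwa [he] at this

omit [Nontrivial V] [IsAlgClosed k] in
theorem oddStab_of_two (h2 : Odd ℓ) {a : Fin t → ZMod ℓ} {i j : Fin t} (hij : i ≠ j) (hi : a i ≠ 0)
    (hj : a j ≠ 0) : OddStab a := by
  set c : (ZMod ℓ)ˣ := Units.mk0 (a i / a j) (div_ne_zero hi hj)
  let m : Fin t → (ZMod ℓ)ˣ := Function.update (Function.update 1 i c) j c⁻¹
  refine ⟨swap i j, m, ?_, fun l => ?_⟩
  · rw [sign_mono, Perm.sign_swap hij, h2.neg_one_pow]
    rw [← Finset.prod_subset (Finset.subset_univ ({i, j} : Finset (Fin t))) (fun l _ hl => ?_),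
      Finset.prod_pair hij]
    · have hinv : (c⁻¹).mulLeft = (c.mulLeft)⁻¹ := by ext x; rfl
      simp only [m, Function.update_self, Function.update_of_ne hij, hinv, Perm.sign_inv,
        Int.units_mul_self, mul_one]
    · simp only [Finset.mem_insert, Finset.mem_singleton, not_or] at hl
      simp only [m, Function.update_of_ne hl.2, Function.update_of_ne hl.1, Pi.one_apply]
      rw [show (1 : (ZMod ℓ)ˣ).mulLeft = (1 : Perm (ZMod ℓ)) by ext x; simp, map_one]
  · by_cases hlj : l = j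
    · subst hlj
      simp only [m, Function.update_self, swap_apply_right, c, Units.val_inv_eq_inv_val,
        Units.val_mk0, inv_div, div_mul_cancel₀ _ hi]
    by_cases hli : l = i
    · subst hli
      simp only [m, Function.update_of_ne hlj, Function.update_self, swap_apply_left, c,
        Units.val_mk0, div_mul_cancel₀ _ hj]
    simp only [m, Function.update_of_ne hlj, Function.update_of_ne hli,
      swap_apply_of_ne_of_ne hli hlj, Pi.one_apply, Units.val_one, one_mul]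

variable [FiniteDimensional k V]

theorem count_le (hc : CycCond ℓ r) (hζ : IsPrimitiveRoot ζ ℓ) (f : Fin t × ZMod ℓ ↪ Fin r)
    (J : Finset ℕ) (hJ : ∀ j ∈ J, ∃ a, IsWt ρ f ζ a ∧ OddStab a ∧ (supp 0 a).card = j) :
    ∑ j ∈ J, t.choose j * (ℓ - 1) ^ j ≤ finrank k V := by
  classical
  let S : Finset (Fin t → ZMod ℓ) := Finset.univ.filter fun b => (supp 0 b).card ∈ J
  have hinj : Function.Injective fun (b : Fin t → ZMod ℓ) (i : Fin t) => ζ ^ (b i).val :=
    fun b c h => funext fun i => ZMod.val_injective ℓ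
      (hζ.pow_inj (ZMod.val_lt _) (ZMod.val_lt _) (congrFun h i))
  have h1 := card_le_finrank (blockOp ρ f) (S.image fun b i => ζ ^ (b i).val) fun w hw => by
    obtain ⟨b, hb, rfl⟩ := Finset.mem_image.mp hw
    obtain ⟨a, ha, hs, hcard⟩ := hJ _ (Finset.mem_filter.mp hb).2
    exact isWt_of_card_supp ρ hc hζ f ha hs hcard
  rw [Finset.card_image_of_injective _ hinj] at h1
  refine le_trans (le_of_eq ?_) h1
  rw [Finset.card_eq_sum_card_fiberwise (s := S) (f := fun b => (supp 0 b).card) (t := J)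
    (fun b hb => (Finset.mem_filter.mp hb).2)]
  refine Finset.sum_congr rfl fun j hj => ?_
  have hS : (S.filter fun b => (supp 0 b).card = j) =
      (Finset.univ.filter fun b : Fin t → ZMod ℓ => (supp 0 b).card = j) := by
    ext b; simp only [S, Finset.mem_filter, Finset.mem_univ, true_and]
    exact ⟨fun h => h.2, fun h => ⟨h ▸ hj, h⟩⟩
  rw [hS, card_supp_eq, ZMod.card]

omit [FiniteDimensional k V] in
/-- An operator killing every weight vector is zero. -/
theorem eq_zero_of_weights (hc : CycCond ℓ r) (hζ : IsPrimitiveRoot ζ ℓ) (hℓk : (ℓ : k) ≠ 0)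
    (f : Fin t × ZMod ℓ ↪ Fin r) (X : End k V)
    (hX : ∀ a, IsWt ρ f ζ a → ∀ v ∈ wsp (blockOp ρ f) (fun i => ζ ^ (a i).val), X v = 0) :
    X = 0 := by
  rw [← LinearMap.ker_eq_top, eq_top_iff, ← iSup_wsp (blockOp ρ f) (fun i => Lr_pow ρ hc _)
    (fun i j => (Lr_commute ρ hc (blocks_commute hc.odd f i j)).map (Units.coeHom (End k V)))
    hζ hℓk]
  refine iSup₂_le fun w hw => ?_
  choose e he hwe using fun i => hζ.eq_pow_of_pow_eq_one (hw i)
  have hw' : w = fun i => ζ ^ ((e i : ZMod ℓ)).val := by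
    funext i; rw [ZMod.val_cast_of_lt (he i), hwe]
  by_cases hbot : wsp (blockOp ρ f) w = ⊥
  · rw [hbot]; exact bot_le
  · intro v hv
    rw [hw'] at hv hbot
    exact hX _ hbot v hv

omit [FiniteDimensional k V] in
theorem apply_sub_one (f : Fin t × ZMod ℓ ↪ Fin r) {a : Fin t → ZMod ℓ} {v : V}
    (hv : v ∈ wsp (blockOp ρ f) (fun i => ζ ^ (a i).val)) (i : Fin t) :
    (blockOp ρ f i - 1) v = (ζ ^ (a i).val - 1) • v := by
  rw [LinearMap.sub_apply, Module.End.one_apply, mem_wsp.mp hv i, sub_smul, one_smul]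

omit [FiniteDimensional k V] in
/-- If no weight moves two given blocks, their displacements kill each other. -/
theorem mul_eq_zero_of_disjoint (hc : CycCond ℓ r) (hζ : IsPrimitiveRoot ζ ℓ) (hℓk : (ℓ : k) ≠ 0)
    (f : Fin t × ZMod ℓ ↪ Fin r) {i j : Fin t}
    (h : ∀ a, IsWt ρ f ζ a → a i = 0 ∨ a j = 0) :
    (blockOp ρ f i - 1) * (blockOp ρ f j - 1) = 0 := by
  refine eq_zero_of_weights ρ hc hζ hℓk f _ fun a ha v hv => ?_
  rw [Module.End.mul_apply, apply_sub_one ρ f hv, map_smul, apply_sub_one ρ f hv]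
  rcases h a ha with h | h <;> simp [h]

end Weights

section Single

variable [FiniteDimensional k V] {ζ : k}

theorem finrank_eig_le (hc : CycCond ℓ r) (hζ : IsPrimitiveRoot ζ ℓ) (f : ZMod ℓ ↪ Fin r)
    {a b : ZMod ℓ} (ha : a ≠ 0) (hb : b ≠ 0) :
    finrank k (eig (Lr ρ f : End k V) (ζ ^ a.val)) ≤
      finrank k (eig (Lr ρ f : End k V) (ζ ^ b.val)) := by
  set m : (ZMod ℓ)ˣ := Units.mk0 (b / a) (div_ne_zero hb ha)
  obtain ⟨g, hg⟩ := exists_map_equiv (f := f) (g := m.mulLeft.toEmbedding.trans f)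
    (by rw [ZMod.card]; exact hc.two)
  obtain ⟨u, hu⟩ := ρ.exists_lift g
  have hconj : u * Lr ρ f * u⁻¹ = Lr ρ f ^ (m : ZMod ℓ).val := Lr_conj ρ hc hu (fun x => hg x)
  have h1 : Lr ρ f * u⁻¹ = u⁻¹ * Lr ρ f ^ (m : ZMod ℓ).val := by rw [← hconj]; group
  have hmaps : ∀ v ∈ eig (Lr ρ f : End k V) (ζ ^ a.val),
      (↑u⁻¹ : End k V) v ∈ eig (Lr ρ f : End k V) (ζ ^ b.val) := by
    intro v hv
    rw [mem_eig] at hv ⊢
    have h2 := congrArg (fun w : (End k V)ˣ => (w : End k V) v) h1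
    simp only [Units.val_mul, Units.val_pow_eq_pow_val, Module.End.mul_apply] at h2
    rw [h2, pow_eig hv, map_smul, pow_val_mul hζ]
    congr 2
    simp [m, div_mul_cancel₀ _ ha]
  refine LinearMap.finrank_le_finrank_of_injective (f := ((↑u⁻¹ : End k V)).restrict hmaps) ?_
  intro v w h
  apply Subtype.ext
  have h2 := congrArg (fun x : eig (Lr ρ f : End k V) (ζ ^ b.val) => (u : End k V) (x : V)) h
  have h3 : ∀ x : V, (u : End k V) ((↑u⁻¹ : End k V) x) = x := fun x => by
    rw [← Module.End.mul_apply, Units.mul_inv, Module.End.one_apply]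
  simpa [LinearMap.restrict_apply, h3] using h2

omit [FiniteDimensional k V] in
theorem proj_mem_eig (hc : CycCond ℓ r) (hζ : IsPrimitiveRoot ζ ℓ) (f : ZMod ℓ ↪ Fin r) {i : ℕ}
    (hi : i < ℓ) (v : V) :
    proj (Lr ρ f : End k V) ℓ (ζ ^ i) v ∈ eig (Lr ρ f : End k V) (ζ ^ (i : ZMod ℓ).val) := by
  rw [ZMod.val_cast_of_lt hi, mem_eig]
  exact apply_proj (Lr_pow ρ hc f) (pow_ne_zero _ (hζ.ne_zero hℓ.out.ne_zero))
    (by rw [← pow_mul, mul_comm, pow_mul, hζ.pow_eq_one, one_pow]) v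

omit [Nontrivial V] [IsAlgClosed k] [FiniteDimensional k V] in
theorem natCast_ne_zero {i : ℕ} (hi : i < ℓ) (hi0 : i ≠ 0) : (i : ZMod ℓ) ≠ 0 := fun h =>
  hi0 (Nat.eq_zero_of_dvd_of_lt ((ZMod.natCast_eq_zero_iff _ _).mp h) hi)

theorem exists_range_dim (hc : CycCond ℓ r) (hζ : IsPrimitiveRoot ζ ℓ) (hℓk : (ℓ : k) ≠ 0)
    (f : ZMod ℓ ↪ Fin r) :
    ∃ μ, 0 < μ ∧ finrank k (LinearMap.range ((Lr ρ f : End k V) - 1)) = (ℓ - 1) * μ ∧
      ∀ a : ZMod ℓ, a ≠ 0 → finrank k (eig (Lr ρ f : End k V) (ζ ^ a.val)) = μ := by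
  classical
  have heq : ∀ a : ZMod ℓ, a ≠ 0 → finrank k (eig (Lr ρ f : End k V) (ζ ^ a.val)) =
      finrank k (eig (Lr ρ f : End k V) (ζ ^ (1 : ZMod ℓ).val)) := fun a ha =>
    le_antisymm (finrank_eig_le ρ hc hζ f ha one_ne_zero)
      (finrank_eig_le ρ hc hζ f one_ne_zero ha)
  refine ⟨_, ?_, ?_, heq⟩
  · by_contra h0
    apply Lr_ne_one ρ hc f
    refine Units.ext (LinearMap.ext fun v => ?_)
    show (Lr ρ f : End k V) v = v
    have hs := sum_proj (t := (Lr ρ f : End k V)) hζ hℓk v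
    rw [Finset.sum_eq_single 0 (fun i hi hi0 => ?_)
      (fun h => absurd (Finset.mem_range.mpr hℓ.out.pos) h)] at hs
    · rw [← hs]
      have := apply_proj (Lr_pow ρ hc f) (c := ζ ^ 0) (by simp) (by simp) v
      simpa using this
    · have hmem := proj_mem_eig ρ hc hζ f (Finset.mem_range.mp hi) v
      have hz := heq _ (natCast_ne_zero (Finset.mem_range.mp hi) hi0)
      have hzero : finrank k (eig (Lr ρ f : End k V) (ζ ^ (i : ZMod ℓ).val)) = 0 := by omega
      rw [Submodule.finrank_eq_zero.mp hzero, Submodule.mem_bot] at hmem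
      exact hmem
  · have hsum : ∑ a ∈ (Finset.univ.erase (0 : ZMod ℓ)),
        finrank k (eig (Lr ρ f : End k V) (ζ ^ a.val)) =
        (ℓ - 1) * finrank k (eig (Lr ρ f : End k V) (ζ ^ (1 : ZMod ℓ).val)) := by
      rw [Finset.sum_congr rfl fun a ha => heq a (Finset.ne_of_mem_erase ha), Finset.sum_const,
        Finset.card_erase_of_mem (Finset.mem_univ _), Finset.card_univ, ZMod.card, smul_eq_mul]
    rw [← hsum]
    apply le_antisymm
    · have hrange : LinearMap.range ((Lr ρ f : End k V) - 1) ≤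
          ⨆ a ∈ Finset.univ.erase (0 : ZMod ℓ), eig (Lr ρ f : End k V) (ζ ^ a.val) := by
        rintro _ ⟨v, rfl⟩
        rw [← sum_proj (t := (Lr ρ f : End k V)) hζ hℓk v, map_sum]
        refine Submodule.sum_mem _ fun i hi => ?_
        have hmem := proj_mem_eig ρ hc hζ f (Finset.mem_range.mp hi) v
        have hp := mem_eig.mp hmem
        rw [LinearMap.sub_apply, Module.End.one_apply]
        by_cases hi0 : i = 0
        · subst hi0
          rw [hp, Nat.cast_zero, ZMod.val_zero, pow_zero, one_smul, sub_self]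
          exact zero_mem _
        · refine Submodule.mem_iSup_of_mem (i : ZMod ℓ) (Submodule.mem_iSup_of_mem
            (Finset.mem_erase.mpr ⟨natCast_ne_zero (Finset.mem_range.mp hi) hi0,
              Finset.mem_univ _⟩) ?_)
          rw [hp]
          exact sub_mem (Submodule.smul_mem _ _ hmem) hmem
      refine (Submodule.finrank_mono hrange).trans ?_
      generalize Finset.univ.erase (0 : ZMod ℓ) = S
      induction S using Finset.induction_on with
      | empty => simp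
      | @insert a S ha ih =>
        rw [Finset.sum_insert ha, Finset.iSup_insert]
        exact (Submodule.finrank_add_le_finrank_add_finrank _ _).trans (Nat.add_le_add_left ih _)
    · let op : Unit → End k V := fun _ => (Lr ρ f : End k V)
      have hwsp : ∀ a : ZMod ℓ, finrank k (wsp op fun _ => ζ ^ a.val) =
          finrank k (eig (Lr ρ f : End k V) (ζ ^ a.val)) := fun a => by
        rw [show (wsp op fun _ => ζ ^ a.val) = eig (Lr ρ f : End k V) (ζ ^ a.val) by
          ext v; simp [mem_wsp, mem_eig, op]]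
      have hker : eig (Lr ρ f : End k V) (ζ ^ (0 : ZMod ℓ).val) =
          LinearMap.ker ((Lr ρ f : End k V) - 1) := by simp [eig]
      have hinj : Function.Injective fun (a : ZMod ℓ) (_ : Unit) => ζ ^ a.val := fun a b h =>
        ZMod.val_injective ℓ (hζ.pow_inj (ZMod.val_lt _) (ZMod.val_lt _) (congrFun h ()))
      have h1 := sum_finrank_le op (Finset.univ.image fun (a : ZMod ℓ) (_ : Unit) => ζ ^ a.val)
      rw [Finset.sum_image (fun a _ b _ h => hinj h),
        ← Finset.add_sum_erase _ _ (Finset.mem_univ (0 : ZMod ℓ)),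
        Finset.sum_congr rfl fun a _ => hwsp a, hwsp, hker] at h1
      have h2 := ((Lr ρ f : End k V) - 1).finrank_range_add_finrank_ker
      omega

end Single

end CfsgLib.Perm.AltSection
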