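import Mathlib
import Cfsg.Agent.Lib.Perm.AltSection.Cycles

/-!
Displacement subspaces of normalised lifts of cycles.
-/

set_option autoImplicit false

namespace CfsgLib.Perm.AltSection

open Module Equiv

variable {r : ℕ}

/-- An injective tuple as an embedding. -/
def tup3 (a b c : Fin r) (h : [a, b, c].Nodup) : ZMod 3 ↪ Fin r :=
  ⟨fun x => (![a, b, c] : Fin 3 → Fin r) x, by
    simp only [List.nodup_cons, List.mem_cons, List.not_mem_nil, not_or, or_false, List.nodup_nil,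
      and_true, not_false_eq_true] at h
    obtain ⟨⟨hab, hac⟩, hbc⟩ := h
    intro (x : Fin 3) (y : Fin 3) e
    fin_cases x <;> fin_cases y <;>
      first
        | rfl
        | exact absurd e hab | exact absurd e hac | exact absurd e hbc
        | exact absurd e.symm hab | exact absurd e.symm hac | exact absurd e.symm hbc⟩

theorem nodup3 {a b c : Fin r} (h1 : a ≠ b) (h2 : b ≠ c) (h3 : a ≠ c) : [a, b, c].Nodup := by
  simp [h1, h2, h3]

theorem tup3_mem {a b c : Fin r} (h : [a, b, c].Nodup) (i : Fin r) :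
    i ∈ Finset.univ.image (tup3 a b c h) ↔ i = a ∨ i = b ∨ i = c := by
  simp only [Finset.mem_image, Finset.mem_univ, true_and]
  constructor
  · rintro ⟨(x : Fin 3), rfl⟩
    fin_cases x
    · exact Or.inl rfl
    · exact Or.inr (Or.inl rfl)
    · exact Or.inr (Or.inr rfl)
  · rintro (rfl | rfl | rfl)
    · exact ⟨(0 : Fin 3), rfl⟩
    · exact ⟨(1 : Fin 3), rfl⟩
    · exact ⟨(2 : Fin 3), rfl⟩

theorem rot_tup3 {a b c : Fin r} (h : [a, b, c].Nodup) : rot (tup3 a b c h) 1 = cyc a b c := by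
  have h' := h
  simp only [List.nodup_cons, List.mem_cons, List.not_mem_nil, not_or, or_false, List.nodup_nil,
    and_true, not_false_eq_true] at h'
  obtain ⟨⟨hab, hac⟩, hbc⟩ := h'
  obtain ⟨e1, e2, e3, e4⟩ := cyc_apply hab hbc hac
  have h2 : Odd 3 := by decide
  apply Subtype.ext
  ext i : 1
  by_cases hi : i ∈ Finset.univ.image (tup3 a b c h)
  · obtain ⟨x, -, rfl⟩ := Finset.mem_image.mp hi
    rw [rot_apply h2]
    revert x
    show ∀ x : Fin 3, (∀ _ : _, _)
    intro x _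
    fin_cases x
    · exact e1.symm
    · exact e2.symm
    · exact e3.symm
  · rw [rot_of_notMem h2 _ _ fun x hx => hi (Finset.mem_image.mpr ⟨x, Finset.mem_univ _, hx⟩)]
    rw [tup3_mem] at hi
    push Not at hi
    exact (e4 i hi.1 hi.2.1 hi.2.2).symm

theorem cyc_rotate {a b c : Fin r} (h1 : a ≠ b) (h2 : b ≠ c) (h3 : a ≠ c) :
    cyc b c a = cyc a b c := by
  obtain ⟨x1, x2, x3, x4⟩ := cyc_apply h1 h2 h3
  obtain ⟨y1, y2, y3, y4⟩ := cyc_apply h2 (Ne.symm h3) (Ne.symm h1)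
  apply Subtype.ext
  ext i : 1
  by_cases ha : i = a
  · subst ha; rw [y3, x1]
  by_cases hb : i = b
  · subst hb; rw [y1, x2]
  by_cases hc : i = c
  · subst hc; rw [y2, x3]
  rw [y4 i hb hc ha, x4 i ha hb hc]

theorem cyc_reverse {a b c : Fin r} (h1 : a ≠ b) (h2 : b ≠ c) (h3 : a ≠ c) :
    cyc c b a = (cyc a b c)⁻¹ := by
  obtain ⟨x1, x2, x3, x4⟩ := cyc_apply h1 h2 h3
  obtain ⟨y1, y2, y3, y4⟩ := cyc_apply (Ne.symm h2) (Ne.symm h1) (Ne.symm h3)
  refine eq_inv_of_mul_eq_one_left (Subtype.ext ?_)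
  ext i : 1
  simp only [Subgroup.coe_mul, Perm.mul_apply, OneMemClass.coe_one, Perm.one_apply]
  by_cases ha : i = a
  · subst ha; rw [x1, y2]
  by_cases hb : i = b
  · subst hb; rw [x2, y1]
  by_cases hc : i = c
  · subst hc; rw [x3, y3]
  rw [x4 i ha hb hc, y4 i hc hb ha]

/-- A block family with prescribed first blocks. -/
theorem exists_blocks {α : Type*} [Fintype α] [DecidableEq α] {s t : ℕ}
    (f : Fin s × α ↪ Fin r) (hst : s ≤ t) (ht : t * Fintype.card α ≤ r) :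
    ∃ F : Fin t × α ↪ Fin r, ∀ i x, F (Fin.castLE hst i, x) = f (i, x) := by
  classical
  obtain ⟨G⟩ := Function.Embedding.nonempty_of_card_le (α := Fin t × α) (β := Fin r)
    (by simpa using ht)
  let g : Fin s × α ↪ Fin r :=
    ⟨fun p => G (Fin.castLE hst p.1, p.2), fun p q h => by
      have := G.injective h
      simp only [Prod.mk.injEq, Fin.castLE_inj] at this
      exact Prod.ext this.1 this.2⟩
  let e : {x // x ∈ Set.range g} ≃ {x // x ∈ Set.range f} :=
    (Equiv.ofInjective g g.injective).symm.trans (Equiv.ofInjective f f.injective)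
  refine ⟨G.trans e.extendSubtype.toEmbedding, fun i x => ?_⟩
  have hmem : G (Fin.castLE hst i, x) ∈ Set.range g := ⟨(i, x), rfl⟩
  change e.extendSubtype (G (Fin.castLE hst i, x)) = f (i, x)
  rw [Equiv.extendSubtype_apply_of_mem _ _ hmem]
  have : (Equiv.ofInjective g g.injective).symm ⟨_, hmem⟩ = (i, x) :=
    Equiv.ofInjective_symm_apply g.injective (i, x)
  simp [e, this]

/-- Two disjoint embeddings as a family of two blocks. -/
def pairBlocks {α : Type*} (f f' : α ↪ Fin r) (h : ∀ x y, f x ≠ f' y) : Fin 2 × α ↪ Fin r :=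
  ⟨fun p => if p.1 = 0 then f p.2 else f' p.2, by
    rintro ⟨i, x⟩ ⟨j, y⟩ e
    fin_cases i <;> fin_cases j <;> simp at e ⊢
    · exact e
    · exact h _ _ e
    · exact h _ _ e.symm
    · exact e⟩

theorem pairBlocks_zero {α : Type*} (f f' : α ↪ Fin r) (h : ∀ x y, f x ≠ f' y) (x : α) :
    pairBlocks f f' h (0, x) = f x := by
  show (if ((0 : Fin 2), x).1 = 0 then f x else f' x) = f x
  exact if_pos rfl

theorem pairBlocks_one {α : Type*} (f f' : α ↪ Fin r) (h : ∀ x y, f x ≠ f' y) (x : α) :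
    pairBlocks f f' h (1, x) = f' x := by
  show (if ((1 : Fin 2), x).1 = 0 then f x else f' x) = f' x
  exact if_neg Fin.zero_ne_one.symm

variable {k V : Type*} [Field k] [AddCommGroup V] [Module k V] [Nontrivial V]
  {ℓ : ℕ} [hℓ : Fact ℓ.Prime] (ρ : PRep k V (alternatingGroup (Fin r)))

/-- The displacement space of a rotation. -/
noncomputable def disp (f : ZMod ℓ ↪ Fin r) : Submodule k V :=
  LinearMap.range ((Lr ρ f : End k V) - 1)

omit [Nontrivial V] in
theorem Lr_congr {f f' : ZMod ℓ ↪ Fin r} (h : rot f 1 = rot f' 1) : Lr ρ f = Lr ρ f' := by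
  rw [Lr, Lr, h]

variable [IsAlgClosed k]

theorem Lr_inv (hc : CycCond ℓ r) {f f' : ZMod ℓ ↪ Fin r} (h : rot f' 1 = (rot f 1)⁻¹) :
    Lr ρ f' = (Lr ρ f)⁻¹ := by
  obtain ⟨i, hi⟩ := exists_inverter hc.odd f' hc.two
  obtain ⟨w, hw⟩ := ρ.exists_lift i
  have hn := norm_Lr ρ hc f
  have hi' : i * rot f 1 * i⁻¹ = (rot f 1)⁻¹ := by
    rw [h, inv_inv] at hi
    calc i * rot f 1 * i⁻¹ = (i * (rot f 1)⁻¹ * i⁻¹)⁻¹ := by group
      _ = (rot f 1)⁻¹ := by rw [hi]
  refine (PRep.norm_unique hc.odd (norm_Lr ρ hc f') (h ▸ PRep.inv hn.1) ?_ hi hw ?_).symm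
  · rw [inv_pow, hn.2.1, inv_one]
  · rw [← conj_inv, hn.2.2 i w hi' hw]

omit [Nontrivial V] [IsAlgClosed k] in
theorem range_inv_sub_one (u : (End k V)ˣ) :
    LinearMap.range ((↑u⁻¹ : End k V) - 1) ≤ LinearMap.range ((u : End k V) - 1) := by
  rintro _ ⟨v, rfl⟩
  refine ⟨-(↑u⁻¹ : End k V) v, ?_⟩
  have : (u : End k V) ((↑u⁻¹ : End k V) v) = v := by
    rw [← Module.End.mul_apply, Units.mul_inv, Module.End.one_apply]
  simp [this]
  abel

theorem disp_inv (hc : CycCond ℓ r) {f f' : ZMod ℓ ↪ Fin r} (h : rot f' 1 = (rot f 1)⁻¹) :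
    disp ρ f' = disp ρ f := by
  rw [disp, disp, Lr_inv ρ hc h]
  refine le_antisymm (range_inv_sub_one _) ?_
  conv_lhs => rw [← inv_inv (Lr ρ f)]
  exact range_inv_sub_one _

theorem disp_map (hc : CycCond ℓ r) {f f' : ZMod ℓ ↪ Fin r} {g : alternatingGroup (Fin r)}
    {u : (End k V)ˣ} (hu : ρ.Lift g u) {m : (ZMod ℓ)ˣ}
    (h : ∀ x, (g : Perm (Fin r)) (f x) = f' ((m : ZMod ℓ) * x)) {v : V} (hv : v ∈ disp ρ f) :
    (u : End k V) v ∈ disp ρ f' := by
  obtain ⟨w, rfl⟩ := hv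
  have h1 : u * Lr ρ f = Lr ρ f' ^ (m : ZMod ℓ).val * u := by
    rw [← Lr_conj ρ hc hu h]; group
  have h2 := congrArg (fun z : (End k V)ˣ => (z : End k V) w) h1
  simp only [Units.val_mul, Units.val_pow_eq_pow_val, Module.End.mul_apply] at h2
  rw [LinearMap.sub_apply, map_sub, h2, Module.End.one_apply,
    show ((Lr ρ f' : End k V) ^ (m : ZMod ℓ).val) ((u : End k V) w) - (u : End k V) w =
      (((Lr ρ f' : End k V) ^ (m : ZMod ℓ).val) - 1) ((u : End k V) w) by simp,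
    ← mul_geom_sum, Module.End.mul_apply]
  exact ⟨_, rfl⟩

theorem disp_map_one (hc : CycCond ℓ r) {f f' : ZMod ℓ ↪ Fin r} {g : alternatingGroup (Fin r)}
    {u : (End k V)ˣ} (hu : ρ.Lift g u) (h : ∀ x, (g : Perm (Fin r)) (f x) = f' x) {v : V}
    (hv : v ∈ disp ρ f) : (u : End k V) v ∈ disp ρ f' :=
  disp_map ρ hc hu (m := 1) (fun x => by simpa using h x) hv

end CfsgLib.Perm.AltSection
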