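import Mathlib
import Cfsg.Agent.Lib.Perm.AltSection.Alt

/-!
Double transpositions in an alternating group.
-/

set_option autoImplicit false

namespace CfsgLib.Perm.AltSection

open Equiv Equiv.Perm

variable {r : ℕ}

/-- The double transposition exchanging `a` with `b` and `c` with `d`. -/
def dt (a b c d : Fin r) : alternatingGroup (Fin r) :=
  if h : a ≠ b ∧ c ≠ d then
    ⟨swap a b * swap c d, by rw [mem_alternatingGroup, map_mul, sign_swap h.1, sign_swap h.2]; rfl⟩
  else 1

theorem dt_val {a b c d : Fin r} (h1 : a ≠ b) (h2 : c ≠ d) :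
    (dt a b c d : Perm (Fin r)) = swap a b * swap c d := by rw [dt, dif_pos ⟨h1, h2⟩]

theorem dt_swap_left (a b c d : Fin r) : dt b a c d = dt a b c d := by
  by_cases h : a ≠ b ∧ c ≠ d
  · apply Subtype.ext
    rw [dt_val h.1 h.2, dt_val (Ne.symm h.1) h.2, swap_comm]
  · rw [dt, dif_neg fun h' => h ⟨Ne.symm h'.1, h'.2⟩, dt, dif_neg h]

theorem dt_swap_right (a b c d : Fin r) : dt a b d c = dt a b c d := by
  by_cases h : a ≠ b ∧ c ≠ d
  · apply Subtype.ext
    rw [dt_val h.1 h.2, dt_val h.1 (Ne.symm h.2), swap_comm d c]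
  · rw [dt, dif_neg fun h' => h ⟨h'.1, Ne.symm h'.2⟩, dt, dif_neg h]

theorem dt_conj (g : alternatingGroup (Fin r)) (a b c d : Fin r) :
    g * dt a b c d * g⁻¹ =
      dt ((g : Perm (Fin r)) a) ((g : Perm (Fin r)) b) ((g : Perm (Fin r)) c)
        ((g : Perm (Fin r)) d) := by
  by_cases h : a ≠ b ∧ c ≠ d
  · apply Subtype.ext
    rw [Subgroup.coe_mul, Subgroup.coe_mul, InvMemClass.coe_inv, dt_val h.1 h.2,
      dt_val ((g : Perm (Fin r)).injective.ne h.1) ((g : Perm (Fin r)).injective.ne h.2),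
      swap_apply_apply, swap_apply_apply]
    group
  · rw [dt, dif_neg h, dt, dif_neg fun h' => h ⟨fun e => h'.1 (by rw [e]), fun e => h'.2 (by rw [e])⟩,
      mul_one, mul_inv_cancel]

theorem dt_apply {a b c d : Fin r} (h : [a, b, c, d].Nodup) :
    (dt a b c d : Perm (Fin r)) a = b ∧ (dt a b c d : Perm (Fin r)) b = a ∧
      (dt a b c d : Perm (Fin r)) c = d ∧ (dt a b c d : Perm (Fin r)) d = c ∧
      ∀ i, i ≠ a → i ≠ b → i ≠ c → i ≠ d → (dt a b c d : Perm (Fin r)) i = i := by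
  simp only [List.nodup_cons, List.mem_cons, List.not_mem_nil, not_or, or_false, List.nodup_nil,
    and_true, not_false_eq_true] at h
  obtain ⟨⟨hab, hac, had⟩, ⟨hbc, hbd⟩, hcd⟩ := h
  rw [dt_val hab hcd]
  refine ⟨?_, ?_, ?_, ?_, fun i h1 h2 h3 h4 => ?_⟩ <;> simp only [Perm.mul_apply]
  · rw [swap_apply_of_ne_of_ne hac had, swap_apply_left]
  · rw [swap_apply_of_ne_of_ne hbc hbd, swap_apply_right]
  · rw [swap_apply_left, swap_apply_of_ne_of_ne (Ne.symm had) (Ne.symm hbd)]
  · rw [swap_apply_right, swap_apply_of_ne_of_ne (Ne.symm hac) (Ne.symm hbc)]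
  · rw [swap_apply_of_ne_of_ne h3 h4, swap_apply_of_ne_of_ne h1 h2]

theorem dt_ne_one {a b c d : Fin r} (h : [a, b, c, d].Nodup) : dt a b c d ≠ 1 := fun e => by
  have h1 := (dt_apply h).1
  rw [e] at h1
  simp only [List.nodup_cons, List.mem_cons, List.not_mem_nil, not_or] at h
  exact h.1.1 h1

theorem dt_pairs_comm {a b c d : Fin r} (h : [a, b, c, d].Nodup) : dt c d a b = dt a b c d := by
  have h' : [c, d, a, b].Nodup := by
    simp only [List.nodup_cons, List.mem_cons, List.not_mem_nil, not_or, or_false, List.nodup_nil,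
      and_true, not_false_eq_true] at h ⊢
    grind
  obtain ⟨x1, x2, x3, x4, x5⟩ := dt_apply h
  obtain ⟨y1, y2, y3, y4, y5⟩ := dt_apply h'
  apply Subtype.ext
  ext i : 1
  by_cases ha : i = a
  · subst ha; rw [y3, x1]
  by_cases hb : i = b
  · subst hb; rw [y4, x2]
  by_cases hc : i = c
  · subst hc; rw [y1, x3]
  by_cases hd : i = d
  · subst hd; rw [y2, x4]
  rw [y5 i hc hd ha hb, x5 i ha hb hc hd]

theorem dt_mul_self {a b c d : Fin r} (h : [a, b, c, d].Nodup) :
    dt a b c d * dt a b c d = 1 := by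
  obtain ⟨x1, x2, x3, x4, x5⟩ := dt_apply h
  apply Subtype.ext
  ext i : 1
  simp only [Subgroup.coe_mul, Perm.mul_apply, OneMemClass.coe_one, Perm.one_apply]
  by_cases ha : i = a
  · subst ha; rw [x1, x2]
  by_cases hb : i = b
  · subst hb; rw [x2, x1]
  by_cases hc : i = c
  · subst hc; rw [x3, x4]
  by_cases hd : i = d
  · subst hd; rw [x4, x3]
  rw [x5 i ha hb hc hd, x5 i ha hb hc hd]

/-- The three double transpositions on four points form a group with the identity. -/
theorem dt_mul_dt {a b c d : Fin r} (h : [a, b, c, d].Nodup) :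
    dt a b c d * dt a c d b = dt a d b c := by
  have h1 : [a, c, d, b].Nodup := by
    simp only [List.nodup_cons, List.mem_cons, List.not_mem_nil, not_or, or_false, List.nodup_nil,
      and_true, not_false_eq_true] at h ⊢
    grind
  have h2 : [a, d, b, c].Nodup := by
    simp only [List.nodup_cons, List.mem_cons, List.not_mem_nil, not_or, or_false, List.nodup_nil,
      and_true, not_false_eq_true] at h ⊢
    grind
  obtain ⟨x1, x2, x3, x4, x5⟩ := dt_apply h
  obtain ⟨y1, y2, y3, y4, y5⟩ := dt_apply h1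
  obtain ⟨z1, z2, z3, z4, z5⟩ := dt_apply h2
  apply Subtype.ext
  ext i : 1
  simp only [Subgroup.coe_mul, Perm.mul_apply]
  by_cases ha : i = a
  · subst ha; rw [y1, x3, z1]
  by_cases hb : i = b
  · subst hb; rw [y4, x4, z3]
  by_cases hc : i = c
  · subst hc; rw [y2, x1, z4]
  by_cases hd : i = d
  · subst hd; rw [y3, x2, z2]
  rw [y5 i ha hc hd hb, x5 i ha hb hc hd, z5 i ha hd hb hc]

theorem cyc_eq_dt_mul_dt {a b c d e : Fin r} (h : [a, b, c, d, e].Nodup) :
    cyc a b c = dt a b d e * dt b c d e := by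
  simp only [List.nodup_cons, List.mem_cons, List.not_mem_nil, not_or, or_false, List.nodup_nil,
    and_true, not_false_eq_true] at h
  obtain ⟨⟨hab, hac, had, hae⟩, ⟨hbc, hbd, hbe⟩, ⟨hcd, hce⟩, hde⟩ := h
  obtain ⟨x1, x2, x3, x4⟩ := cyc_apply hab hbc hac
  obtain ⟨y1, y2, y3, y4, y5⟩ := dt_apply (a := a) (b := b) (c := d) (d := e)
    (by simp [*, Ne.symm])
  obtain ⟨z1, z2, z3, z4, z5⟩ := dt_apply (a := b) (b := c) (c := d) (d := e)
    (by simp [*, Ne.symm])
  apply Subtype.ext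
  ext i : 1
  simp only [Subgroup.coe_mul, Perm.mul_apply]
  by_cases ha : i = a
  · subst ha; rw [x1, z5 i hab hac had hae, y1]
  by_cases hb : i = b
  · subst hb; rw [x2, z1, y5 c (Ne.symm hac) (Ne.symm hbc) hcd hce]
  by_cases hc : i = c
  · subst hc; rw [x3, z2, y2]
  by_cases hd : i = d
  · subst hd; rw [x4 i ha hb hc, z3, y4]
  by_cases he : i = e
  · subst he; rw [x4 i ha hb hc, z4, y3]
  rw [x4 i ha hb hc, z5 i hb hc hd he, y5 i ha hb hd he]

/-- The three-cycle on the last three points rotates the four-group. -/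
theorem dt_klein {a b c d : Fin r} (h : [a, b, c, d].Nodup) :
    cyc b c d * dt a b c d * (cyc b c d)⁻¹ = dt a c d b ∧
      cyc b c d * dt a c d b * (cyc b c d)⁻¹ = dt a d b c ∧
      dt a b c d * (cyc b c d * dt a b c d * (cyc b c d)⁻¹) =
        cyc b c d * (cyc b c d * dt a b c d * (cyc b c d)⁻¹) * (cyc b c d)⁻¹ ∧
      cyc b c d * cyc b c d * cyc b c d = 1 := by
  have h' := h
  simp only [List.nodup_cons, List.mem_cons, List.not_mem_nil, not_or, or_false, List.nodup_nil,
    and_true, not_false_eq_true] at h'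
  obtain ⟨⟨hab, hac, had⟩, ⟨hbc, hbd⟩, hcd⟩ := h'
  obtain ⟨x1, x2, x3, x4⟩ := cyc_apply hbc hcd hbd
  have e1 : cyc b c d * dt a b c d * (cyc b c d)⁻¹ = dt a c d b := by
    rw [dt_conj, x4 a hab hac had, x1, x2, x3]
  have e2 : cyc b c d * dt a c d b * (cyc b c d)⁻¹ = dt a d b c := by
    rw [dt_conj, x4 a hab hac had, x1, x2, x3]
  refine ⟨e1, e2, by rw [e1, e2]; exact dt_mul_dt h, ?_⟩
  apply Subtype.ext
  rw [Subgroup.coe_mul, Subgroup.coe_mul, OneMemClass.coe_one]
  have := pow_orderOf_eq_one (cyc b c d : Perm (Fin r))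
  rw [(cyc_isThreeCycle hbc hcd hbd).orderOf, pow_succ, pow_two] at this
  exact this

end CfsgLib.Perm.AltSection
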