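import Mathlib
import Cfsg.Agent.Lib.Perm.AltSection.Disp

/-!
Five-cycles in a projective representation of small degree.
-/

set_option autoImplicit false

namespace CfsgLib.Perm.AltSection

open Module Equiv

variable {k V : Type*} [Field k] [AddCommGroup V] [Module k V] [Nontrivial V] {r : ℕ}

instance fact_prime_five : Fact (Nat.Prime 5) := ⟨by norm_num⟩

theorem cycCond_five (hr : 7 ≤ r) : CycCond 5 r := ⟨by decide, hr, by omega⟩

theorem cycCond_three (hr : 8 ≤ r) : CycCond 3 r := ⟨by decide, by omega, fun _ => hr⟩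

theorem pow_bound {t : ℕ} (ht : 2 ≤ t) : 5 * t + 3 ≤ 4 ^ t := by
  induction t, ht using Nat.le_induction with
  | base => norm_num
  | succ t _ ih => rw [pow_succ]; omega

/-- An injective five-tuple as an embedding. -/
def tup5 (a b c d e : Fin r) (h : [a, b, c, d, e].Nodup) : ZMod 5 ↪ Fin r :=
  ⟨fun x => (![a, b, c, d, e] : Fin 5 → Fin r) x, by
    simp only [List.nodup_cons, List.mem_cons, List.not_mem_nil, not_or, or_false, List.nodup_nil,
      and_true, not_false_eq_true] at h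
    intro (x : Fin 5) (y : Fin 5) he
    fin_cases x <;> fin_cases y <;> first | rfl | simp_all⟩

theorem tup5_mem {a b c d e : Fin r} (h : [a, b, c, d, e].Nodup) {i : Fin r} (ha : i ≠ a)
    (hb : i ≠ b) (hc : i ≠ c) (hd : i ≠ d) (he : i ≠ e) : ∀ x, tup5 a b c d e h x ≠ i := by
  intro (x : Fin 5)
  fin_cases x
  · exact Ne.symm ha
  · exact Ne.symm hb
  · exact Ne.symm hc
  · exact Ne.symm hd
  · exact Ne.symm he

theorem cyc_eq_mul_rot {a b c d e : Fin r} (h : [a, b, c, d, e].Nodup)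
    (h1 : [a, c, b, d, e].Nodup) (h2 : [a, c, e, d, b].Nodup) :
    cyc a b c = rot (tup5 a c b d e h1) 1 * rot (tup5 a c e d b h2) 1 := by
  have hodd : Odd 5 := by decide
  simp only [List.nodup_cons, List.mem_cons, List.not_mem_nil, not_or, or_false, List.nodup_nil,
    and_true, not_false_eq_true] at h
  obtain ⟨⟨hab, hac, had, hae⟩, ⟨hbc, hbd, hbe⟩, ⟨hcd, hce⟩, hde⟩ := h
  obtain ⟨x1, x2, x3, x4⟩ := cyc_apply hab hbc hac
  have P := rot_apply hodd (tup5 a c b d e h1) 1
  have Q := rot_apply hodd (tup5 a c e d b h2) 1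
  apply Subtype.ext
  ext i : 1
  rw [Subgroup.coe_mul, Perm.mul_apply]
  by_cases ha : i = a
  · subst ha; rw [x1, show (rot (tup5 i c e d b h2) 1 : Perm (Fin r)) i = c from Q 0]; exact (P (1 : ZMod 5)).symm
  by_cases hb : i = b
  · subst hb; rw [x2, show (rot (tup5 a c e d i h2) 1 : Perm (Fin r)) i = a from Q 4]; exact (P (0 : ZMod 5)).symm
  by_cases hc : i = c
  · subst hc; rw [x3, show (rot (tup5 a i e d b h2) 1 : Perm (Fin r)) i = e from Q 1]; exact (P (4 : ZMod 5)).symm
  by_cases hd : i = d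
  · subst hd; rw [x4 i ha hb hc, show (rot (tup5 a c e i b h2) 1 : Perm (Fin r)) i = b from Q 3]; exact (P (2 : ZMod 5)).symm
  by_cases he : i = e
  · subst he; rw [x4 i ha hb hc, show (rot (tup5 a c i d b h2) 1 : Perm (Fin r)) i = d from Q 2]; exact (P (3 : ZMod 5)).symm
  rw [x4 i ha hb hc, rot_of_notMem hodd _ _ (tup5_mem h2 ha hc he hd hb),
    rot_of_notMem hodd _ _ (tup5_mem h1 ha hc hb hd he)]

variable [IsAlgClosed k] [FiniteDimensional k V] (ρ : PRep k V (alternatingGroup (Fin r)))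

theorem five_mul_eq_zero (hr : 10 ≤ r) (hn : finrank k V + 2 ≤ r) (h5 : (5 : k) ≠ 0)
    {f f' : ZMod 5 ↪ Fin r} (h : ∀ x y, f x ≠ f' y) :
    ((Lr ρ f : End k V) - 1) * ((Lr ρ f' : End k V) - 1) = 0 := by
  have hc : CycCond 5 r := cycCond_five (by omega)
  have hℓk : ((5 : ℕ) : k) ≠ 0 := by exact_mod_cast h5
  obtain ⟨ζ, hζ⟩ := exists_primitive (k := k) (by norm_num : 0 < 5) hℓk
  obtain ⟨F, hF⟩ := exists_blocks (pairBlocks f f' h) (t := r / 5) (by omega)
    (by rw [ZMod.card]; omega)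
  set i : Fin (r / 5) := Fin.castLE (by omega) (0 : Fin 2)
  set j : Fin (r / 5) := Fin.castLE (by omega) (1 : Fin 2)
  have hfi : blk F i = f := by ext x : 1; rw [blk_apply, hF, pairBlocks_zero]
  have hfj : blk F j = f' := by
    ext x : 1; rw [blk_apply, hF, pairBlocks_one]
  have := mul_eq_zero_of_disjoint ρ hc hζ hℓk F (i := i) (j := j) fun a ha => ?_
  · rwa [blockOp, blockOp, hfi, hfj] at this
  by_contra hne
  push Not at hne
  have hij : i ≠ j := by simp [i, j, Fin.ext_iff]
  have hcount := count_le ρ hc hζ F {(supp 0 a).card} fun m hm => by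
    rw [Finset.mem_singleton] at hm
    exact ⟨a, ha, oddStab_of_two hc.odd hij hne.1 hne.2, hm.symm⟩
  rw [Finset.sum_singleton] at hcount
  set m := (supp 0 a).card with hm
  have hm2 : 2 ≤ m := Finset.one_lt_card.mpr
    ⟨i, mem_supp.mpr hne.1, j, mem_supp.mpr hne.2, hij⟩
  have hmt : m ≤ r / 5 := (Finset.card_le_univ _).trans (by simp)
  rcases Nat.lt_or_eq_of_le hmt with h' | h'
  · have h1 := le_choose (by omega) h'
    have h2 : 4 ^ 2 ≤ 4 ^ m := Nat.pow_le_pow_right (by norm_num) hm2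
    have h3 := Nat.mul_le_mul h1 h2
    simp only [show (5 - 1 : ℕ) = 4 from rfl] at hcount
    omega
  · rw [h', Nat.choose_self, one_mul] at hcount
    have := pow_bound (t := r / 5) (by omega)
    simp only [show (5 - 1 : ℕ) = 4 from rfl] at hcount
    omega

omit [FiniteDimensional k V] in
theorem fixed_of_mul_eq_zero {T S : End k V} (h : (T - 1) * (S - 1) = 0) {v : V}
    (hv : v ∈ LinearMap.range (S - 1)) : T v = v := by
  obtain ⟨w, rfl⟩ := hv
  have := congrArg (fun X : End k V => X w) h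
  exact sub_eq_zero.mp this

/-- The complement of a five-cycle acts by scalars on its displacement space. -/
theorem five_actsScalar (hr : 10 ≤ r) (hn : finrank k V + 2 ≤ r) (h5 : (5 : k) ≠ 0)
    (f : ZMod 5 ↪ Fin r) {g : alternatingGroup (Fin r)} (hg : Fixes (Finset.univ.image f) g) :
    ρ.ActsScalar g (disp ρ f) := by
  refine fixes_induction (P := fun g => ρ.ActsScalar g (disp ρ f)) (PRep.actsScalar_one _)
    (fun g g' => PRep.actsScalar_mul) (fun a b c hab hbc hac ha hb hc => ?_) hg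
  have hcard : 1 < (Finset.univ \ (Finset.univ.image f ∪ {a, b, c})).card := by
    have h1 := (Finset.card_union_le (Finset.univ.image f) {a, b, c})
    rw [Finset.card_image_of_injective _ f.injective, Finset.card_univ, ZMod.card] at h1
    have h2 : ({a, b, c} : Finset (Fin r)).card ≤ 3 := Finset.card_le_three
    rw [Finset.card_univ_sdiff, Fintype.card_fin]
    omega
  obtain ⟨d, hd, e, he, hde⟩ := Finset.one_lt_card.mp hcard
  simp only [Finset.mem_sdiff, Finset.mem_univ, Finset.mem_union, Finset.mem_insert,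
    Finset.mem_singleton, not_or, true_and, Finset.mem_image, not_exists] at hd he ha hb hc
  obtain ⟨hdf, hda, hdb, hdc⟩ := hd
  obtain ⟨hef, hea, heb, hec⟩ := he
  have h0 : [a, b, c, d, e].Nodup := by
    simp [hab, hac, hbc, hde, Ne.symm hda, Ne.symm hdb, Ne.symm hdc, Ne.symm hea, Ne.symm heb,
      Ne.symm hec]
  have h1 : [a, c, b, d, e].Nodup := by
    simp [hab, hac, Ne.symm hbc, hde, Ne.symm hda, Ne.symm hdb, Ne.symm hdc, Ne.symm hea,
      Ne.symm heb, Ne.symm hec]
  have h2 : [a, c, e, d, b].Nodup := by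
    simp [hab, hac, Ne.symm hbc, Ne.symm hde, hdb, Ne.symm hda, Ne.symm hdc, Ne.symm hea,
      heb, Ne.symm hec]
  have key : ∀ (y : ZMod 5 ↪ Fin r), (∀ x z, y x ≠ f z) → ρ.ActsScalar (rot y 1) (disp ρ f) :=
    fun y hy => PRep.actsScalar_of_exists (norm_Lr ρ (cycCond_five (by omega)) y).1 (c := 1)
      fun v hv => by rw [one_smul]; exact fixed_of_mul_eq_zero (five_mul_eq_zero ρ hr hn h5 hy) hv
  rw [cyc_eq_mul_rot h0 h1 h2]
  refine PRep.actsScalar_mul (key _ fun (x : Fin 5) z => ?_) (key _ fun (x : Fin 5) z => ?_) <;>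
    fin_cases x
  · exact Ne.symm (ha z)
  · exact Ne.symm (hc z)
  · exact Ne.symm (hb z)
  · exact Ne.symm (hdf z)
  · exact Ne.symm (hef z)
  · exact Ne.symm (ha z)
  · exact Ne.symm (hc z)
  · exact Ne.symm (hef z)
  · exact Ne.symm (hdf z)
  · exact Ne.symm (hb z)

theorem four_le_finrank_disp (hr : 7 ≤ r) (h5 : (5 : k) ≠ 0) (f : ZMod 5 ↪ Fin r) :
    4 ≤ finrank k (disp ρ f) := by
  have hℓk : ((5 : ℕ) : k) ≠ 0 := by exact_mod_cast h5
  obtain ⟨ζ, hζ⟩ := exists_primitive (k := k) (by norm_num : 0 < 5) hℓk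
  obtain ⟨μ, hμ, hdim, -⟩ := exists_range_dim ρ (cycCond_five hr) hζ hℓk f
  rw [disp, hdim]
  omega

/-- Normalised lifts of three-cycles fix the displacement space of a disjoint five-cycle. -/
theorem three_fix_five (hr : 10 ≤ r) (hn : finrank k V + 2 ≤ r) (h5 : (5 : k) ≠ 0)
    {f : ZMod 3 ↪ Fin r} {y : ZMod 5 ↪ Fin r} (h : ∀ x z, f x ≠ y z) :
    disp ρ y ≤ LinearMap.ker ((Lr ρ f : End k V) - 1) := by
  have hc3 : CycCond 3 r := cycCond_three (by omega)
  have hn3 := norm_Lr ρ hc3 f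
  have hfix : Fixes (Finset.univ.image y) (rot f 1) := fun i hi => by
    obtain ⟨z, -, rfl⟩ := Finset.mem_image.mp hi
    exact rot_of_notMem hc3.odd f 1 fun x => h x z
  let J : ZMod 3 ⊕ ZMod 5 ↪ Fin r := ⟨Sum.elim f y, f.injective.sumElim y.injective h⟩
  let J' : ZMod 3 ⊕ ZMod 5 ↪ Fin r :=
    (Equiv.sumCongr (Equiv.neg (ZMod 3)) (Equiv.refl (ZMod 5))).toEmbedding.trans J
  obtain ⟨i, hi⟩ := exists_map_equiv (f := J) (g := J') (by simp [ZMod.card]; omega)
  have hifix : Fixes (Finset.univ.image y) i := fun q hq => by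
    obtain ⟨z, -, rfl⟩ := Finset.mem_image.mp hq
    exact hi (Sum.inr z)
  have hinv : i * rot f 1 * i⁻¹ = (rot f 1)⁻¹ := by
    rw [rot_conj hc3.odd (m := -1) (f' := f) (fun x => by
      have := hi (Sum.inl x); simpa [J, J'] using this)]
    refine eq_inv_of_mul_eq_one_left ?_
    rw [← rot_add hc3.odd, Units.val_neg, Units.val_one, mul_one, neg_add_cancel,
      rot_zero hc3.odd]
  obtain ⟨w, hw⟩ := ρ.exists_lift i
  obtain ⟨c, hcs⟩ := five_actsScalar ρ hr hn h5 y hfix _ hn3.1
  obtain ⟨d, hds⟩ := five_actsScalar ρ hr hn h5 y hifix _ hw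
  have hne : disp ρ y ≠ ⊥ := fun e => by
    have := four_le_finrank_disp ρ (by omega) h5 y
    rw [e, finrank_bot] at this
    omega
  obtain ⟨v, hv, hv0⟩ := Submodule.exists_mem_ne_zero_of_ne_bot hne
  have h3 : c ^ 3 = 1 := by
    have h4 := congrArg (fun u : (End k V)ˣ => (u : End k V) v) hn3.2.1
    simp only [Units.val_pow_eq_pow_val, Units.val_one, Module.End.one_apply,
      pow_eig (hcs v hv)] at h4
    exact smul_left_injective k hv0 (h4.trans (one_smul k v).symm)
  have hc2 : c * c = 1 := by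
    have h4 : w * Lr ρ f = (Lr ρ f)⁻¹ * w := by rw [← hn3.2.2 i w hinv hw]; group
    have h5' := congrArg (fun u : (End k V)ˣ => (Lr ρ f : End k V) ((u : End k V) v)) h4
    simp only [Units.val_mul, Module.End.mul_apply, hcs v hv, map_smul, hds v hv] at h5'
    rw [← Module.End.mul_apply, Units.mul_inv, Module.End.one_apply] at h5'
    simp only [map_smul, hds v hv, hcs v hv, smul_smul] at h5'
    have hd0 : d ≠ 0 := by
      rintro rfl
      have := congrArg (fun u : End k V => u v) (Units.inv_mul w)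
      simp only [Module.End.mul_apply, hds v hv, zero_smul, map_zero, Module.End.one_apply] at this
      exact hv0 this.symm
    have h6 := smul_left_injective k hv0 h5'
    refine mul_left_cancel₀ hd0 ?_
    linear_combination h6
  have hc1 : c = 1 := by
    rw [pow_succ, pow_two, hc2, one_mul] at h3
    exact h3
  intro z hz
  rw [LinearMap.mem_ker, LinearMap.sub_apply, Module.End.one_apply, hcs z hz, hc1, one_smul,
    sub_self]

end CfsgLib.Perm.AltSection
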