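import Mathlib
import Cfsg.Agent.Lib.Perm.AltSection.Alt
import Cfsg.Agent.Lib.Perm.AltSection.PRep

/-!
An equivariant family of coplanar lines indexed by pairs bounds the dimension from below.
-/

set_option autoImplicit false

namespace CfsgLib.Perm.AltSection

open Module Equiv

variable {k V : Type*} [Field k] [AddCommGroup V] [Module k V] [FiniteDimensional k V] {r : ℕ}

theorem apply_ne_zero (u : (End k V)ˣ) {v : V} (hv : v ≠ 0) : (u : End k V) v ≠ 0 := fun e => hv (by
  have := congrArg (fun f : End k V => f v) (Units.inv_mul u)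
  simp only [Module.End.mul_apply, Module.End.one_apply] at this
  rw [← this, e, map_zero])

omit [FiniteDimensional k V] in
theorem line_eq {A B : Submodule k V} (hA : finrank k A = 1) (hB : finrank k B = 1) {v : V}
    (hv : v ≠ 0) (hvA : v ∈ A) (hvB : v ∈ B) : A = B := by
  have key : ∀ C : Submodule k V, finrank k C = 1 → v ∈ C → C = k ∙ v := by
    intro C hC hvC
    haveI : Module.Finite k C := Module.finite_of_finrank_pos (by omega)
    exact (Submodule.eq_of_le_of_finrank_eq ((Submodule.span_singleton_le_iff_mem v C).mpr hvC)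
      (by rw [hC, finrank_span_singleton hv])).symm
  rw [key A hA hvA, key B hB hvB]

omit [FiniteDimensional k V] in
theorem ne_bot_of_line {A : Submodule k V} (hA : finrank k A = 1) : A ≠ ⊥ := by
  rintro rfl
  rw [finrank_bot] at hA
  exact zero_ne_one hA

theorem finrank_sup_lines {A B : Submodule k V} (hA : finrank k A = 1) (hB : finrank k B = 1)
    (h : A ≠ B) : finrank k (A ⊔ B : Submodule k V) = 2 := by
  have := Submodule.finrank_sup_add_finrank_inf_eq A B
  have h0 : A ⊓ B = ⊥ := by
    rw [Submodule.eq_bot_iff]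
    intro v hv
    by_contra hv0
    exact h (line_eq hA hB hv0 hv.1 hv.2)
  rw [h0, finrank_bot] at this
  omega

theorem inf_le_of_planes {A B C : Submodule k V} (hA : finrank k A ≤ 2) (hC : finrank k C = 1)
    (hCA : C ≤ A) (hCB : C ≤ B) (h : ¬ A ≤ B) : A ⊓ B = C := by
  refine (Submodule.eq_of_le_of_finrank_le (le_inf hCA hCB) ?_).symm
  have : finrank k (A ⊓ B : Submodule k V) < finrank k A :=
    Submodule.finrank_lt_finrank_of_lt (lt_of_le_of_ne inf_le_left fun e => h (inf_eq_left.mp e))
  omega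

omit [FiniteDimensional k V] in
theorem exists_single_relation (hr : 5 ≤ r) (R : (Fin r → k) → Prop)
    (hsub : ∀ c d, R c → R d → R (c - d))
    (hperm : ∀ (g : alternatingGroup (Fin r)) c, R c → R fun i => c ((g : Perm (Fin r)) i))
    {c : Fin r → k} (hc : R c) {a b : Fin r} (hab : c a ≠ c b) :
    ∃ (d : Fin r → k) (i j : Fin r), R d ∧ i ≠ j ∧ d i ≠ 0 ∧ d j = -d i ∧
      ∀ m, m ≠ i → m ≠ j → d m = 0 := by
  classical
  have hne : a ≠ b := fun e => hab (by rw [e])
  have hcard : 2 < (Finset.univ \ {a, b}).card := by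
    rw [Finset.card_univ_sdiff, Finset.card_pair hne, Fintype.card_fin]; omega
  obtain ⟨x, hx, f, hf, h, hh, hxf, hxh, hfh⟩ := Finset.two_lt_card.mp hcard
  simp only [Finset.mem_sdiff, Finset.mem_univ, Finset.mem_insert, Finset.mem_singleton,
    not_or, true_and] at hx hf hh
  obtain ⟨s1, s2, s3, s4⟩ := cyc_apply hne (Ne.symm hx.2) (Ne.symm hx.1)
  let Y : Fin r → k := c - fun i => c ((cyc a b x : Perm (Fin r)) i)
  have hY : R Y := hsub _ _ hc (hperm _ _ hc)
  obtain ⟨g1, g2, g3, g4⟩ := cyc_apply (Ne.symm hf.1) hfh (Ne.symm hh.1)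
  let d : Fin r → k := Y - fun i => Y ((cyc a f h : Perm (Fin r)) i)
  have hd : R d := hsub _ _ hY (hperm _ _ hY)
  have hYa : Y a = c a - c b := by simp only [Y, Pi.sub_apply, s1]
  have hY0 : ∀ i, i ≠ a → i ≠ b → i ≠ x → Y i = 0 := fun i h1 h2 h3 => by
    simp only [Y, Pi.sub_apply, s4 i h1 h2 h3, sub_self]
  have hYf := hY0 f hf.1 hf.2 (Ne.symm hxf)
  have hYh := hY0 h hh.1 hh.2 (Ne.symm hxh)
  refine ⟨d, a, h, hd, Ne.symm hh.1, ?_, ?_, fun m hma hmh => ?_⟩
  · simp only [d, Pi.sub_apply, g1, hYf, sub_zero, hYa]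
    exact sub_ne_zero.mpr hab
  · simp only [d, Pi.sub_apply, g1, g3, hYf, hYh, sub_zero, zero_sub]
  · by_cases hmf : m = f
    · subst hmf; simp only [d, Pi.sub_apply, g2, hYf, hYh, sub_self]
    · simp only [d, Pi.sub_apply, g4 m hma hmf hmh, sub_self]

/-- Lines attached to pairs, coplanar on triangles, give the degree bound. -/
theorem heart {p : ℕ} [CharP k p] (hr : 6 ≤ r) (ρ : PRep k V (alternatingGroup (Fin r)))
    (hirr : ρ.Irred) (hn : 3 ≤ finrank k V) (L : Fin r → Fin r → Submodule k V)
    (hsymm : ∀ a b, a ≠ b → L a b = L b a) (hdim : ∀ a b, a ≠ b → finrank k (L a b) = 1)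
    (hmap : ∀ (g : alternatingGroup (Fin r)) u, ρ.Lift g u → ∀ a b, a ≠ b → ∀ v ∈ L a b,
      (u : End k V) v ∈ L ((g : Perm (Fin r)) a) ((g : Perm (Fin r)) b))
    (hplane : ∀ a b c, a ≠ b → a ≠ c → b ≠ c →
      finrank k (L a b ⊔ L a c ⊔ L b c : Submodule k V) ≤ 2) :
    r - 1 - (if p ∣ r then 1 else 0) ≤ finrank k V := by
  classical
  -- distinctness of lines through a common point
  have hdist : ∀ a b c, a ≠ b → a ≠ c → b ≠ c → L a b ≠ L a c := by
    intro a b c hab hac hbc he
    have hall : ∀ a' b' c', a' ≠ b' → a' ≠ c' → b' ≠ c' → L a' b' = L a' c' := by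
      intro a' b' c' hab' hac' hbc'
      obtain ⟨g, hg⟩ := exists_map ![a, b, c] ![a', b', c']
        (by intro i j; fin_cases i <;> fin_cases j <;> simp [hab, hac, hbc, Ne.symm hab, Ne.symm hac,
          Ne.symm hbc])
        (by intro i j; fin_cases i <;> fin_cases j <;> simp [hab', hac', hbc', Ne.symm hab',
          Ne.symm hac', Ne.symm hbc']) (by omega)
      have g0 : (g : Perm (Fin r)) a = a' := hg 0
      have g1 : (g : Perm (Fin r)) b = b' := hg 1
      have g2 : (g : Perm (Fin r)) c = c' := hg 2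
      obtain ⟨u, hu⟩ := ρ.exists_lift g
      obtain ⟨v, hv, hv0⟩ := (L a b).exists_mem_ne_zero_of_ne_bot (ne_bot_of_line (hdim a b hab))
      have h1 := hmap g u hu a b hab v hv
      have h2 := hmap g u hu a c hac v (he ▸ hv)
      rw [g0, g1] at h1
      rw [g0, g2] at h2
      exact line_eq (hdim _ _ hab') (hdim _ _ hac') (apply_ne_zero u hv0) h1 h2
    have hconst : ∀ x y, x ≠ y → L x y = L a b := by
      intro x y hxy
      have step : ∀ z, z ≠ a → L a z = L a b := fun z hz => by
        by_cases hzb : z = b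
        · rw [hzb]
        · exact hall a z b (Ne.symm hz) hab hzb
      by_cases hxa : x = a
      · subst hxa; exact step y (Ne.symm hxy)
      by_cases hya : y = a
      · subst hya; rw [hsymm x y hxy]; exact step x hxa
      rw [hall x y a hxy hxa hya, hsymm x a hxa]; exact step x hxa
    have hinv := hirr (L a b) fun g u hu v hv => by
      have := hmap g u hu a b hab v hv
      rwa [hconst _ _ ((g : Perm (Fin r)).injective.ne hab)] at this
    rcases hinv with h | h
    · have := hdim a b hab; rw [h, finrank_bot] at this; omega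
    · have := hdim a b hab; rw [h, finrank_top] at this; omega
  have hP : ∀ a b c, a ≠ b → a ≠ c → b ≠ c → L b c ≤ L a b ⊔ L a c := by
    intro a b c hab hac hbc
    have h2 := finrank_sup_lines (hdim a b hab) (hdim a c hac) (hdist a b c hab hac hbc)
    have heq : L a b ⊔ L a c = L a b ⊔ L a c ⊔ L b c :=
      Submodule.eq_of_le_of_finrank_le le_sup_left (by rw [h2]; exact hplane a b c hab hac hbc)
    rw [heq]; exact le_sup_right
  -- distinctness of planes
  have hpl : ∀ a b c d, a ≠ b → a ≠ c → a ≠ d → b ≠ c → b ≠ d → c ≠ d →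
      ¬ L a d ≤ L a b ⊔ L a c := by
    intro a b c d hab hac had hbc hbd hcd he
    have step : ∀ z, z ≠ a → L a z ≤ L a b ⊔ L a c := by
      intro z hza
      by_cases hzb : z = b
      · subst hzb; exact le_sup_left
      by_cases hzc : z = c
      · subst hzc; exact le_sup_right
      obtain ⟨g, hg⟩ := exists_map ![a, b, c, d] ![a, b, c, z]
        (by intro i j; fin_cases i <;> fin_cases j <;> simp [hab, hac, hbc, had, hbd, hcd,
          Ne.symm hab, Ne.symm hac, Ne.symm hbc, Ne.symm had, Ne.symm hbd, Ne.symm hcd])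
        (by intro i j; fin_cases i <;> fin_cases j <;> simp [hab, hac, hbc, hza, hzb, hzc,
          Ne.symm hab, Ne.symm hac, Ne.symm hbc, Ne.symm hza, Ne.symm hzb, Ne.symm hzc]) (by omega)
      have g0 : (g : Perm (Fin r)) a = a := hg 0
      have g1 : (g : Perm (Fin r)) b = b := hg 1
      have g2 : (g : Perm (Fin r)) c = c := hg 2
      have g3 : (g : Perm (Fin r)) d = z := hg 3
      obtain ⟨u, hu⟩ := ρ.exists_lift g
      obtain ⟨v, hv, hv0⟩ := (L a d).exists_mem_ne_zero_of_ne_bot (ne_bot_of_line (hdim a d had))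
      obtain ⟨x, hx, y, hy, hxy⟩ := Submodule.mem_sup.mp (he hv)
      have h1 := hmap g u hu a d had v hv
      have h2 := hmap g u hu a b hab x hx
      have h3 := hmap g u hu a c hac y hy
      rw [g0, g3] at h1
      rw [g0, g1] at h2
      rw [g0, g2] at h3
      have hmem : (u : End k V) v ∈ L a b ⊔ L a c := by
        rw [← hxy, map_add]; exact Submodule.add_mem_sup h2 h3
      haveI := Module.finite_of_finrank_pos (M := L a z) (R := k) (by
        rw [hdim a z (Ne.symm hza)]; omega)
      have : (k ∙ (u : End k V) v) = L a z := Submodule.eq_of_le_of_finrank_eq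
        ((Submodule.span_singleton_le_iff_mem _ _).mpr h1)
        (by rw [hdim a z (Ne.symm hza), finrank_span_singleton (apply_ne_zero u hv0)])
      rw [← this]
      exact (Submodule.span_singleton_le_iff_mem _ _).mpr hmem
    have hall : ∀ x y, x ≠ y → L x y ≤ L a b ⊔ L a c := by
      intro x y hxy
      by_cases hxa : x = a
      · subst hxa; exact step y (Ne.symm hxy)
      by_cases hya : y = a
      · subst hya; rw [hsymm x y hxy]; exact step x hxa
      exact (hP a x y (Ne.symm hxa) (Ne.symm hya) hxy).trans (sup_le (step x hxa) (step y hya))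
    have hinv := hirr (L a b ⊔ L a c) fun g u hu v hv => by
      obtain ⟨x, hx, y, hy, rfl⟩ := Submodule.mem_sup.mp hv
      rw [map_add]
      exact add_mem (hall _ _ ((g : Perm (Fin r)).injective.ne hab) (hmap g u hu a b hab x hx))
        (hall _ _ ((g : Perm (Fin r)).injective.ne hac) (hmap g u hu a c hac y hy))
    have h2 := finrank_sup_lines (hdim a b hab) (hdim a c hac) (hdist a b c hab hac hbc)
    rcases hinv with h | h
    · rw [h, finrank_bot] at h2; omega
    · rw [h, finrank_top] at h2; omega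
  -- the vectors
  let o : Fin r := ⟨0, by omega⟩
  let e : Fin r := ⟨1, by omega⟩
  have hoe : o ≠ e := by simp [o, e, Fin.ext_iff]
  obtain ⟨v1, hv1, hv10⟩ := (L o e).exists_mem_ne_zero_of_ne_bot (ne_bot_of_line (hdim o e hoe))
  have hex : ∀ i, ∃ x : V, (i = o → x = 0) ∧ (i = e → x = v1) ∧
      (i ≠ o → x ∈ L o i ∧ x ≠ 0) ∧ (i ≠ e → i ≠ o → x - v1 ∈ L e i ∧ x - v1 ≠ 0) := by
    intro i
    by_cases hio : i = o
    · subst hio
      exact ⟨0, fun _ => rfl, fun h => absurd h hoe, fun h => absurd rfl h,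
        fun _ h => absurd rfl h⟩
    by_cases hie : i = e
    · subst hie
      exact ⟨v1, fun h => absurd h hio, fun _ => rfl, fun _ => ⟨hv1, hv10⟩, fun h => absurd rfl h⟩
    have hle := hP i o e hio hie hoe
    obtain ⟨x, hx, y, hy, hxy⟩ := Submodule.mem_sup.mp (hle hv1)
    rw [hsymm i o hio] at hx
    rw [hsymm i e hie] at hy
    refine ⟨x, fun h => absurd h hio, fun h => absurd h hie, fun _ => ⟨hx, ?_⟩, fun _ _ => ⟨?_, ?_⟩⟩
    · rintro rfl
      rw [zero_add] at hxy
      subst hxy
      exact hdist e o i (Ne.symm hoe) (Ne.symm hie) (Ne.symm hio)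
        (line_eq (hdim _ _ (Ne.symm hoe)) (hdim _ _ (Ne.symm hie)) hv10
          (hsymm o e hoe ▸ hv1) hy)
    · rw [← hxy, sub_add_cancel_left]; exact neg_mem hy
    · rw [← hxy, sub_add_cancel_left, neg_ne_zero]
      rintro rfl
      rw [add_zero] at hxy
      subst hxy
      exact hdist o e i hoe (Ne.symm hio) (Ne.symm hie)
        (line_eq (hdim _ _ hoe) (hdim _ _ (Ne.symm hio)) hv10 hv1 hx)
  choose w hw0 hw1 hwo hwe using hex
  have hdiff : ∀ i j, i ≠ j → w i - w j ∈ L i j ∧ w i - w j ≠ 0 := by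
    intro i j hij
    by_cases hio : i = o
    · subst hio
      rw [hw0 o rfl, zero_sub, neg_mem_iff, neg_ne_zero]
      exact hwo j (Ne.symm hij)
    by_cases hjo : j = o
    · subst hjo
      rw [hw0 o rfl, sub_zero, hsymm i o hio]
      exact hwo i hio
    by_cases hie : i = e
    · subst hie
      rw [hw1 e rfl, ← neg_sub, neg_mem_iff, neg_ne_zero]
      exact hwe j (Ne.symm hij) hjo
    by_cases hje : j = e
    · subst hje
      rw [hw1 e rfl, hsymm i e hie]
      exact hwe i hie hio
    constructor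
    · have hA := finrank_sup_lines (hdim o i (Ne.symm hio)) (hdim o j (Ne.symm hjo))
        (hdist o i j (Ne.symm hio) (Ne.symm hjo) hij)
      have hne : ¬ L o i ⊔ L o j ≤ L e i ⊔ L e j := fun h => by
        refine hpl i e j o hie hij hio (Ne.symm hje) (Ne.symm hoe) hjo ?_
        rw [hsymm i o hio]
        refine (le_sup_left.trans h).trans (sup_le ?_ ?_)
        · rw [hsymm e i (Ne.symm hie)]; exact le_sup_left
        · exact hP i e j hie hij (Ne.symm hje)
      rw [← inf_le_of_planes hA.le (hdim i j hij) (hP o i j (Ne.symm hio) (Ne.symm hjo) hij)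
        (hP e i j (Ne.symm hie) (Ne.symm hje) hij) hne]
      refine Submodule.mem_inf.mpr ⟨?_, ?_⟩
      · exact sub_mem (Submodule.mem_sup_left (hwo i hio).1) (Submodule.mem_sup_right (hwo j hjo).1)
      · rw [show w i - w j = (w i - v1) - (w j - v1) by abel]
        exact sub_mem (Submodule.mem_sup_left (hwe i hie hio).1)
          (Submodule.mem_sup_right (hwe j hje hjo).1)
    · intro h0
      obtain ⟨hi, hi0⟩ := hwo i hio
      obtain ⟨hj, -⟩ := hwo j hjo
      exact hdist o i j (Ne.symm hio) (Ne.symm hjo) hij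
        (line_eq (hdim _ _ (Ne.symm hio)) (hdim _ _ (Ne.symm hjo)) hi0 hi (sub_eq_zero.mp h0 ▸ hj))
  -- equivariance
  have hact : ∀ (g : alternatingGroup (Fin r)) (u : (End k V)ˣ), ρ.Lift g u → ∃ l : k, l ≠ 0 ∧
      ∀ i, (u : End k V) (w i - w o) =
        l • (w ((g : Perm (Fin r)) i) - w ((g : Perm (Fin r)) o)) := by
    intro g u hu
    set σ : Perm (Fin r) := (g : Perm (Fin r))
    have hl : ∀ i j, i ≠ j → ∃ l : k, (u : End k V) (w i - w j) = l • (w (σ i) - w (σ j)) := by
      intro i j hij
      have h1 := hmap g u hu i j hij _ (hdiff i j hij).1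
      obtain ⟨h2, h3⟩ := hdiff _ _ (σ.injective.ne hij)
      haveI := Module.finite_of_finrank_pos (M := L (σ i) (σ j)) (R := k) (by
        rw [hdim _ _ (σ.injective.ne hij)]; omega)
      have : (k ∙ (w (σ i) - w (σ j))) = L (σ i) (σ j) := Submodule.eq_of_le_of_finrank_eq
        ((Submodule.span_singleton_le_iff_mem _ _).mpr h2)
        (by rw [hdim _ _ (σ.injective.ne hij), finrank_span_singleton h3])
      rw [← this] at h1
      obtain ⟨l, hl⟩ := Submodule.mem_span_singleton.mp h1
      exact ⟨l, hl.symm⟩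
    obtain ⟨l, hl1⟩ := hl e o (Ne.symm hoe)
    refine ⟨l, ?_, fun i => ?_⟩
    · rintro rfl
      rw [zero_smul] at hl1
      exact apply_ne_zero u (hdiff e o (Ne.symm hoe)).2 hl1
    by_cases hio : i = o
    · subst hio; simp
    by_cases hie : i = e
    · subst hie; exact hl1
    obtain ⟨m, hm⟩ := hl i o hio
    obtain ⟨q, hq⟩ := hl i e hie
    have hsum : m • (w (σ i) - w (σ o)) = q • (w (σ i) - w (σ e)) + l • (w (σ e) - w (σ o)) := by
      rw [← hm, ← hq, ← hl1, ← map_add, sub_add_sub_cancel]
    have h0 : (m - q) • (w (σ i) - w (σ o)) = (l - q) • (w (σ e) - w (σ o)) := by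
      rw [sub_smul, sub_smul, hsum]
      simp only [smul_sub]
      abel
    by_cases hmq : m = q
    · rw [hmq, sub_self, zero_smul, eq_comm, smul_eq_zero] at h0
      rw [hm, hmq, sub_eq_zero.mp (h0.resolve_right (hdiff _ _ (σ.injective.ne (Ne.symm hoe))).2)]
    · exfalso
      have hoi : σ o ≠ σ i := σ.injective.ne (Ne.symm hio)
      have hoe' : σ o ≠ σ e := σ.injective.ne hoe
      have h1 : (m - q) • (w (σ i) - w (σ o)) ∈ L (σ o) (σ i) :=
        Submodule.smul_mem _ _ (hsymm _ _ hoi ▸ (hdiff _ _ hoi.symm).1)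
      have h2 : (m - q) • (w (σ i) - w (σ o)) ∈ L (σ o) (σ e) := by
        rw [h0]
        exact Submodule.smul_mem _ _ (hsymm _ _ hoe' ▸ (hdiff _ _ hoe'.symm).1)
      exact hdist _ _ _ hoi hoe' (σ.injective.ne hie) (line_eq (hdim _ _ hoi) (hdim _ _ hoe')
        (smul_ne_zero (sub_ne_zero.mpr hmq) (hdiff _ _ hoi.symm).2) h1 h2)
  let T : (Fin r → k) →ₗ[k] k × V :=
    LinearMap.prod (∑ i, LinearMap.proj i) (∑ i, (LinearMap.proj i).smulRight (w i))
  have hT : ∀ c, T c = (∑ i, c i, ∑ i, c i • w i) := fun c => by simp [T]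
  have hperm : ∀ (g : alternatingGroup (Fin r)) (c : Fin r → k), T c = 0 →
      T (fun i => c ((g : Perm (Fin r)) i)) = 0 := by
    intro g c hc
    rw [hT, Prod.mk_eq_zero] at hc ⊢
    set σ : Perm (Fin r) := (g : Perm (Fin r))
    have h1 : ∑ i, c (σ i) = 0 := by rw [Equiv.sum_comp σ c]; exact hc.1
    refine ⟨h1, ?_⟩
    obtain ⟨u, hu⟩ := ρ.exists_lift g
    obtain ⟨l, hl, hlu⟩ := hact g u hu
    have hz : ∀ (f : Fin r → k) (z : V), ∑ i, f i = 0 → ∑ i, f i • w i = ∑ i, f i • (w i - z) := by
      intro f z hf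
      simp only [smul_sub, Finset.sum_sub_distrib, ← Finset.sum_smul, hf, zero_smul, sub_zero]
    have h2 : l • ∑ i, c (σ i) • (w (σ i) - w (σ o)) = 0 := by
      rw [Equiv.sum_comp σ (fun j => c j • (w j - w (σ o))), ← hz c _ hc.1, hc.2, smul_zero]
    have h3 : (u : End k V) (∑ i, c (σ i) • w i) = 0 := by
      rw [hz (fun i => c (σ i)) (w o) h1, map_sum, ← h2, Finset.smul_sum]
      exact Finset.sum_congr rfl fun i _ => by rw [map_smul, hlu, smul_comm]
    by_contra hne
    exact apply_ne_zero u hne h3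
  by_contra hlt
  have hker : finrank k (LinearMap.ker T) + (finrank k V + 1) ≥ r := by
    have h1 := T.finrank_range_add_finrank_ker
    have h2 := Submodule.finrank_le (LinearMap.range T)
    rw [Module.finrank_pi, Fintype.card_fin] at h1
    rw [Module.finrank_prod, Module.finrank_self] at h2
    omega
  by_cases hcon : ∀ c ∈ LinearMap.ker T, ∀ i j, c i = c j
  · have hle : LinearMap.ker T ≤ k ∙ (fun _ : Fin r => (1 : k)) := fun c hc =>
      Submodule.mem_span_singleton.mpr ⟨c o, by funext i; simp [hcon c hc i o]⟩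
    have h1 := (Submodule.finrank_mono hle).trans
      (finrank_span_singleton (fun h => one_ne_zero (congrFun h o) :
        (fun _ : Fin r => (1 : k)) ≠ 0)).le
    split_ifs at hlt with hpr
    · omega
    · have hbot : LinearMap.ker T = ⊥ := by
        rw [Submodule.eq_bot_iff]
        intro c hc
        have h0 : T c = 0 := hc
        rw [hT, Prod.mk_eq_zero, Finset.sum_congr rfl fun i _ => hcon c hc i o, Finset.sum_const,
          Finset.card_univ, Fintype.card_fin, nsmul_eq_mul, mul_eq_zero] at h0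
        funext i
        rw [hcon c hc i o]
        exact h0.1.resolve_left fun h => hpr ((CharP.cast_eq_zero_iff k p r).mp h)
      rw [hbot, finrank_bot] at hker
      omega
  · push Not at hcon
    obtain ⟨c, hc, a, b, hab⟩ := hcon
    obtain ⟨d, i, j, hd, hij, hdi, hdj, hd0⟩ := exists_single_relation (by omega)
      (fun c => T c = 0) (fun c d h h' => by rw [map_sub, h, h', sub_zero]) hperm hc hab
    rw [hT, Prod.mk_eq_zero] at hd
    have hsum : ∑ m, d m • w m = d i • (w i - w j) := by
      rw [Finset.sum_eq_add i j hij (fun m _ hm => by rw [hd0 m hm.1 hm.2, zero_smul])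
        (fun h => absurd (Finset.mem_univ i) h) (fun h => absurd (Finset.mem_univ j) h), hdj,
        neg_smul, smul_sub, sub_eq_add_neg]
    rw [hsum] at hd
    exact smul_ne_zero hdi (hdiff i j hij).2 hd.2

end CfsgLib.Perm.AltSection
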