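import Mathlib
import Cfsg.Agent.Lib.Perm.AltSection.Disp

/-!
Lifts of a four-group permuted cyclically by an element of order three.
-/

set_option autoImplicit false

namespace CfsgLib.Perm.AltSection

open Module

section Ring

variable {R : Type*} [Ring R]

/-- Two commuting involutions in a ring. -/
structure InvPair (a b : R) : Prop where
  ha : a * a = 1
  hb : b * b = 1
  hab : a * b = b * a

namespace InvPair

variable {a b : R} (h : InvPair a b)
include h

theorem rotate : InvPair b (a * b) :=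
  ⟨h.hb, by rw [mul_assoc, ← mul_assoc b, ← h.hab, mul_assoc a b b, h.hb, mul_one, h.ha],
    by rw [← mul_assoc, ← h.hab]⟩

theorem mul_rotate : b * (a * b) = a := by rw [h.hab, ← mul_assoc, h.hb, one_mul]

theorem comm_all : Commute ((1 - a) * (1 - b)) ((1 - b) * (1 - a * b)) ∧
    Commute ((1 - a) * (1 - b)) ((1 + a) * (1 + b)) := by
  have h1 : Commute a b := h.hab
  have ca : Commute (1 - a) (1 - b) :=
    (Commute.one_left _).sub_left ((Commute.one_right _).sub_right h1)
  have hA : ∀ x, Commute a x → Commute b x → Commute ((1 - a) * (1 - b)) x := fun x hx hy =>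
    ((Commute.one_left _).sub_left hx).mul_left ((Commute.one_left _).sub_left hy)
  have haa : Commute a (a * b) := (Commute.refl a).mul_right h1
  have hba : Commute b (a * b) := h1.symm.mul_right (Commute.refl b)
  exact ⟨hA _ (((Commute.one_right _).sub_right h1).mul_right
      ((Commute.one_right _).sub_right haa))
    (((Commute.one_right _).sub_right (Commute.refl b)).mul_right
      ((Commute.one_right _).sub_right hba)),
    hA _ (((Commute.one_right _).add_right (Commute.refl a)).mul_right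
      ((Commute.one_right _).add_right h1))
    (((Commute.one_right _).add_right h1.symm).mul_right
      ((Commute.one_right _).add_right (Commute.refl b)))⟩

theorem facts : (1 - a) * (1 - b) * ((1 - b) * (1 - a * b)) = 0 ∧
    (1 - a) * (1 - b) * ((1 + a) * (1 + b)) = 0 ∧
    (1 + a) * (1 + b) * ((1 + a) * (1 + b)) = 4 * ((1 + a) * (1 + b)) ∧
    (1 - a) * (1 - b) * ((1 - a) * (1 - b)) = 4 * ((1 - a) * (1 - b)) ∧
    (3 - a - b - a * b) = (1 - a) * (1 - b) + (1 - b) * (1 - a * b) + (1 - a * b) * (1 - a) ∧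
    (1 - a) * (1 - b) + (1 - a * b) * (1 - a) = (1 - a) + (1 - a) ∧
    (1 + b) * (1 + a * b) = (1 + a) * (1 + b) := by
  obtain ⟨ha, hb, hab⟩ := h
  have ha' : ∀ x, a * (a * x) = x := fun x => by rw [← mul_assoc, ha, one_mul]
  have hb' : ∀ x, b * (b * x) = x := fun x => by rw [← mul_assoc, hb, one_mul]
  have hba : ∀ x, b * (a * x) = a * (b * x) := fun x => by rw [← mul_assoc, ← hab, mul_assoc]
  refine ⟨?_, ?_, ?_, ?_, ?_, ?_, ?_⟩ <;>
    simp only [mul_add, add_mul, mul_sub, sub_mul, mul_one, one_mul, mul_assoc, ha, hb, ← hab, ha',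
      hb', hba, show (4 : R) = 1 + 1 + 1 + 1 by norm_num,
      show (3 : R) = 1 + 1 + 1 by norm_num] <;>
    abel

end InvPair

end Ring

variable {k V G : Type*} [Field k] [AddCommGroup V] [Module k V] [Group G] {ρ : PRep k V G}

/-- Lifts of an involution and of an element of order three cycling it through a four-group. -/
structure KleinDatum (u s : (End k V)ˣ) : Prop where
  pair : InvPair (s : End k V) ((u * s * u⁻¹ : (End k V)ˣ) : End k V)
  mul : s * (u * s * u⁻¹) = u * (u * s * u⁻¹) * u⁻¹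
  cube : u * (u * (u * s * u⁻¹) * u⁻¹) * u⁻¹ = s

theorem kleinDatum_of_fixed {q x : G} {u s : (End k V)ˣ} (hq : q * q = 1)
    (hrel : q * (x * q * x⁻¹) = x * (x * q * x⁻¹) * x⁻¹) (hx : x * x * x = 1) (hu : ρ.Lift x u)
    (hs : ρ.Lift q s) {v : V} (hv : v ≠ 0) {c : k} (huv : (u : End k V) v = c • v)
    (hsv : (s : End k V) v = v) : KleinDatum u s := by
  have hinv : (↑u⁻¹ : End k V) v = c⁻¹ • v ∧ c ≠ 0 := by
    have h := congrArg (fun T : End k V => T v) (Units.inv_mul u)
    simp only [Module.End.mul_apply, huv, map_smul, Module.End.one_apply] at h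
    have hc : c ≠ 0 := by rintro rfl; rw [zero_smul] at h; exact hv h.symm
    exact ⟨by conv_rhs => rw [← h, smul_smul, inv_mul_cancel₀ hc, one_smul], hc⟩
  have hconj : ∀ w : (End k V)ˣ, (w : End k V) v = v →
      ((u * w * u⁻¹ : (End k V)ˣ) : End k V) v = v := fun w hw => by
    simp only [Units.val_mul, Module.End.mul_apply, hinv.1, map_smul, hw, huv, smul_smul,
      inv_mul_cancel₀ hinv.2, one_smul]
  have hs' := PRep.conj hs hu
  have hs'' := PRep.conj hs' hu
  have v' := hconj s hsv
  have v'' := hconj _ v'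
  have hmulv : ∀ w w' : (End k V)ˣ, (w : End k V) v = v → (w' : End k V) v = v →
      ((w * w' : (End k V)ˣ) : End k V) v = v := fun w w' h h' => by
    rw [Units.val_mul, Module.End.mul_apply, h', h]
  have hq' : x * q * x⁻¹ * (x * q * x⁻¹) = 1 := by
    rw [show x * q * x⁻¹ * (x * q * x⁻¹) = x * (q * q) * x⁻¹ by group, hq]; group
  have hqq : q * (x * q * x⁻¹) = x * q * x⁻¹ * q := by
    have h2 : q * (x * q * x⁻¹) * (q * (x * q * x⁻¹)) = 1 := by
      rw [hrel, show x * (x * q * x⁻¹) * x⁻¹ * (x * (x * q * x⁻¹) * x⁻¹) =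
        x * x * (q * q) * x⁻¹ * x⁻¹ by group, hq]
      group
    calc q * (x * q * x⁻¹) = (q * (x * q * x⁻¹))⁻¹ := eq_inv_of_mul_eq_one_left h2
      _ = x * q * x⁻¹ * q := by
        rw [mul_inv_rev, ← eq_inv_of_mul_eq_one_left hq', ← eq_inv_of_mul_eq_one_left hq]
  refine ⟨⟨?_, ?_, ?_⟩,
    PRep.eq_of_apply (hrel ▸ ρ.mul hs hs') hs'' hv ((hmulv _ _ hsv v').trans v''.symm), ?_⟩
  · rw [← Units.val_mul, PRep.eq_one_of_apply (hq ▸ ρ.mul hs hs) hv (hmulv _ _ hsv hsv),
      Units.val_one]
  · rw [← Units.val_mul, PRep.eq_one_of_apply (hq' ▸ ρ.mul hs' hs') hv (hmulv _ _ v' v'),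
      Units.val_one]
  · rw [← Units.val_mul, ← Units.val_mul, PRep.eq_of_apply (hqq ▸ ρ.mul hs hs') (ρ.mul hs' hs) hv
      ((hmulv _ _ hsv v').trans (hmulv _ _ v' hsv).symm)]
  · refine PRep.eq_of_apply ?_ hs hv ((hconj _ v'').trans hsv.symm)
    have h3 : x * (x * (x * q * x⁻¹) * x⁻¹) * x⁻¹ = q := by
      rw [show x * (x * (x * q * x⁻¹) * x⁻¹) * x⁻¹ = x * x * x * q * (x * x * x)⁻¹ by group, hx]
      group
    exact h3 ▸ PRep.conj hs'' hu

/-- Conjugation of operators. -/
def cj (u : (End k V)ˣ) (T : End k V) : End k V := (u : End k V) * T * ↑u⁻¹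

theorem cj_mul (u : (End k V)ˣ) (A B : End k V) : cj u A * cj u B = cj u (A * B) := by
  simp only [cj, mul_assoc, Units.inv_mul_cancel_left]

theorem cj_one_sub (u a : (End k V)ˣ) :
    cj u (1 - (a : End k V)) = 1 - ((u * a * u⁻¹ : (End k V)ˣ) : End k V) := by
  simp only [cj, mul_sub, sub_mul, mul_one, Units.mul_inv, Units.val_mul]

theorem finrank_range_cj [FiniteDimensional k V] (u : (End k V)ˣ) (T : End k V) :
    finrank k (LinearMap.range (cj u T)) = finrank k (LinearMap.range T) := by
  have heq : LinearMap.range (cj u T) = (LinearMap.range T).map (u : End k V) := by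
    ext v
    constructor
    · rintro ⟨w, rfl⟩
      exact ⟨_, ⟨(↑u⁻¹ : End k V) w, rfl⟩, rfl⟩
    · rintro ⟨_, ⟨w, rfl⟩, rfl⟩
      refine ⟨(u : End k V) w, ?_⟩
      simp only [cj, Module.End.mul_apply]
      rw [← Module.End.mul_apply (↑u⁻¹ : End k V), Units.inv_mul, Module.End.one_apply]
  rw [heq]
  exact (Submodule.equivMapOfInjective (u : End k V)
    (Function.LeftInverse.injective (g := (↑u⁻¹ : End k V)) fun v => by
      rw [← Module.End.mul_apply, Units.inv_mul, Module.End.one_apply]) _).finrank_eq.symm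

namespace KleinDatum

variable {u s : (End k V)ˣ} (h : KleinDatum u s)

/-- Four times the projection on one nontrivial weight. -/
def proj1 (u s : (End k V)ˣ) : End k V :=
  (1 - (s : End k V)) * (1 - ((u * s * u⁻¹ : (End k V)ˣ) : End k V))

/-- Four times the projection off the fixed space. -/
def moved (u s : (End k V)ˣ) : End k V :=
  3 - (s : End k V) - ((u * s * u⁻¹ : (End k V)ˣ) : End k V) -
    (s : End k V) * ((u * s * u⁻¹ : (End k V)ˣ) : End k V)

include h

theorem cj_proj1 : cj u (proj1 u s) =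
    (1 - ((u * s * u⁻¹ : (End k V)ˣ) : End k V)) *
      (1 - (s : End k V) * ((u * s * u⁻¹ : (End k V)ˣ) : End k V)) := by
  rw [proj1, ← cj_mul, cj_one_sub, cj_one_sub, ← Units.val_mul (a := s), h.mul]

theorem cj2_proj1 : cj u (cj u (proj1 u s)) =
    (1 - (s : End k V) * ((u * s * u⁻¹ : (End k V)ˣ) : End k V)) * (1 - (s : End k V)) := by
  rw [proj1, ← cj_mul, ← cj_mul]
  simp only [cj_one_sub]
  rw [← Units.val_mul (a := s), h.cube, h.mul]

theorem cj3_proj1 : cj u (cj u (cj u (proj1 u s))) = proj1 u s := by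
  rw [proj1, ← cj_mul, ← cj_mul, ← cj_mul]
  simp only [cj_one_sub]
  rw [h.cube]

theorem eq_one (h2 : (2 : k) ≠ 0) (hP : proj1 u s = 0) : s = 1 := by
  obtain ⟨-, -, -, -, -, h6, -⟩ := h.pair.facts
  have h3 := h.cj2_proj1
  simp only [hP, cj, mul_zero, zero_mul] at h3
  rw [← h3, show (1 - (s : End k V)) * (1 - ((u * s * u⁻¹ : (End k V)ˣ) : End k V)) = 0 from hP,
    add_zero] at h6
  refine Units.ext (LinearMap.ext fun v => ?_)
  have h7 := congrArg (fun T : End k V => T v) h6
  simp only [LinearMap.zero_apply, LinearMap.add_apply, LinearMap.sub_apply,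
    Module.End.one_apply, ← two_smul k] at h7
  rw [Units.val_one, Module.End.one_apply]
  exact (sub_eq_zero.mp ((smul_eq_zero.mp h7.symm).resolve_left h2)).symm

theorem moved_eq : moved u s = proj1 u s + cj u (proj1 u s) + cj u (cj u (proj1 u s)) := by
  obtain ⟨-, -, -, -, h5, -, -⟩ := h.pair.facts
  rw [h.cj2_proj1, h.cj_proj1]
  exact h5

variable [FiniteDimensional k V]

theorem rank_moved : finrank k (LinearMap.range (moved u s)) ≤
    3 * finrank k (LinearMap.range (proj1 u s)) := by
  rw [h.moved_eq]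
  have hsum : ∀ A B : End k V, finrank k (LinearMap.range (A + B)) ≤
      finrank k (LinearMap.range A) + finrank k (LinearMap.range B) := fun A B =>
    (Submodule.finrank_mono (LinearMap.range_add_le A B)).trans
      (Submodule.finrank_add_le_finrank_add_finrank _ _)
  have h1 := hsum (proj1 u s + cj u (proj1 u s)) (cj u (cj u (proj1 u s)))
  have h2 := hsum (proj1 u s) (cj u (proj1 u s))
  simp only [finrank_range_cj] at h1 h2 ⊢
  omega

theorem rank_ineq (h2 : (2 : k) ≠ 0) (F : Submodule k V)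
    (hF : ∀ v ∈ F, (s : End k V) v = v ∧
      ((u * s * u⁻¹ : (End k V)ˣ) : End k V) v = v) :
    3 * finrank k (LinearMap.range (proj1 u s)) + finrank k F ≤ finrank k V := by
  have h4 : (4 : k) ≠ 0 := by
    rw [show (4 : k) = 2 * 2 by norm_num]; exact mul_ne_zero h2 h2
  have p1 := h.pair
  have p2 := p1.rotate
  have p3 := p2.rotate
  rw [p1.mul_rotate] at p3
  obtain ⟨h12, h10, h00, h11, -, -, hQ⟩ := p1.facts
  obtain ⟨h23, h20, -, h22, -, -, hQ2⟩ := p2.facts
  obtain ⟨h31, h30, -, h33, -, -, -⟩ := p3.facts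
  rw [p1.mul_rotate] at h23 hQ2
  have m2 := p2.mul_rotate
  rw [p1.mul_rotate] at m2
  rw [m2] at h31
  rw [hQ] at h20
  rw [hQ2, hQ] at h30
  obtain ⟨c12, c10⟩ := p1.comm_all
  obtain ⟨c23, c20⟩ := p2.comm_all
  obtain ⟨c31, c30⟩ := p3.comm_all
  rw [p1.mul_rotate] at c23
  rw [m2] at c31
  rw [hQ] at c20
  rw [hQ2, hQ] at c30
  set a : End k V := (s : End k V)
  set b : End k V := ((u * s * u⁻¹ : (End k V)ˣ) : End k V)
  let N : Fin 4 → End k V :=
    ![(1 - a) * (1 - b), (1 - b) * (1 - a * b), (1 - a * b) * (1 - a), (1 + a) * (1 + b)]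
  have hN : ∀ i j, i ≠ j → N i * N j = 0 := by
    intro i j hij
    fin_cases i <;> fin_cases j
    all_goals first
      | exact absurd rfl hij
      | exact h12 | exact h23 | exact h31 | exact h10 | exact h20 | exact h30
      | exact c12.eq.symm.trans h12 | exact c23.eq.symm.trans h23 | exact c31.eq.symm.trans h31
      | exact c10.eq.symm.trans h10 | exact c20.eq.symm.trans h20 | exact c30.eq.symm.trans h30
  have hsq : ∀ i, N i * N i = 4 * N i := by
    intro i
    fin_cases i
    · exact h11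
    · exact h22
    · exact h33
    · exact h00
  have hsum := sum_range_le N hN fun i v hv => by
    have h' := congrArg (fun T : End k V => T v) (hsq i)
    simp only [Module.End.mul_apply, hv] at h'
    rw [show (4 : End k V) = algebraMap k (End k V) 4 by rw [map_ofNat],
      Module.algebraMap_end_apply] at h'
    exact (smul_eq_zero.mp h'.symm).resolve_left h4
  rw [Fin.sum_univ_four] at hsum
  have hFQ : finrank k F ≤ finrank k (LinearMap.range ((1 + a) * (1 + b))) := by
    refine Submodule.finrank_mono fun v hv => ?_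
    obtain ⟨hs, hs'⟩ := hF v hv
    refine ⟨(4 : k)⁻¹ • v, ?_⟩
    simp only [map_smul, Module.End.mul_apply, LinearMap.add_apply, Module.End.one_apply,
      hs, hs', map_add]
    rw [show v + v + (v + v) = (4 : k) • v by
      rw [show (4 : k) = 1 + 1 + 1 + 1 by norm_num]; simp only [add_smul, one_smul]; abel,
      inv_smul_smul₀ h4]
  have e1 : finrank k (LinearMap.range ((1 - b) * (1 - a * b))) =
      finrank k (LinearMap.range ((1 - a) * (1 - b))) := by
    rw [← h.cj_proj1, finrank_range_cj]; rfl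
  have e2 : finrank k (LinearMap.range ((1 - a * b) * (1 - a))) =
      finrank k (LinearMap.range ((1 - a) * (1 - b))) := by
    rw [← h.cj2_proj1, finrank_range_cj, finrank_range_cj]; rfl
  simp only [N, Matrix.cons_val] at hsum
  have key : ∀ d e f g j c : ℕ, e = d → f = d → j ≤ g → d + e + f + g ≤ c → 3 * d + j ≤ c := by
    intros; omega
  exact key _ _ _ _ _ _ e1 e2 hFQ hsum

end KleinDatum

end CfsgLib.Perm.AltSection
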