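import Mathlib
import Cfsg.Agent.Lib.Perm.AltSection.Heart
import Cfsg.Agent.Lib.Perm.AltSection.Five
import Cfsg.Agent.Lib.Perm.AltSection.Klein
import Cfsg.Agent.Lib.Perm.AltSection.Dt

/-!
Four-groups on quadruples in characteristic three.
-/

set_option autoImplicit false

namespace CfsgLib.Perm.AltSection

open Module Equiv

variable {k V : Type*} [Field k] [AddCommGroup V] [Module k V] [Nontrivial V] [IsAlgClosed k]
  [FiniteDimensional k V] {r : ℕ} (ρ : PRep k V (alternatingGroup (Fin r)))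

/-- An injective four-tuple as an embedding. -/
def tup4 (a b c d : Fin r) (h : [a, b, c, d].Nodup) : Fin 4 ↪ Fin r :=
  ⟨![a, b, c, d], List.nodup_ofFn.mp (by simpa [List.ofFn_succ] using h)⟩

omit [Nontrivial V] [IsAlgClosed k] [FiniteDimensional k V] in
theorem nodup_of_emb (e : Fin 4 ↪ Fin r) : [e 0, e 1, e 2, e 3].Nodup := by
  simpa using (show [(0 : Fin 4), 1, 2, 3].Nodup by decide).map e.injective

theorem KleinDatum.fixed_of_scalar {u s : (End k V)ˣ} (h : KleinDatum u s) {v : V} (hv : v ≠ 0)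
    {l c : k} (hl : (u : End k V) v = l • v) (hc : (s : End k V) v = c • v) :
    (s : End k V) v = v ∧ ((u * s * u⁻¹ : (End k V)ˣ) : End k V) v = v := by
  have hl0 : l ≠ 0 := by rintro rfl; exact apply_ne_zero u hv (by rw [hl, zero_smul])
  have hinv : (↑u⁻¹ : End k V) v = l⁻¹ • v := by
    have h := congrArg (fun T : End k V => T v) (Units.inv_mul u)
    simp only [Module.End.mul_apply, hl, map_smul, Module.End.one_apply] at h
    conv_rhs => rw [← h, smul_smul, inv_mul_cancel₀ hl0, one_smul]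
  have hcj : ∀ (w : (End k V)ˣ) (e : k), (w : End k V) v = e • v →
      ((u * w * u⁻¹ : (End k V)ˣ) : End k V) v = e • v := fun w e hw => by
    simp only [Units.val_mul, Module.End.mul_apply, hinv, map_smul, hw, hl, smul_smul]
    congr 1
    field_simp
  have h1 := hcj s c hc
  have h2 := hcj _ c h1
  rw [← h.mul, Units.val_mul, Module.End.mul_apply, h1, map_smul, hc, smul_smul] at h2
  have hc0 : c ≠ 0 := by rintro rfl; exact apply_ne_zero s hv (by rw [hc, zero_smul])
  have hc1 : c = 1 := mul_eq_left₀ hc0 |>.mp (smul_left_injective k hv h2)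
  exact ⟨by rw [hc, hc1, one_smul], by rw [h1, hc1, one_smul]⟩

/-- A lift fixing the displacement spaces of the five-cycles fixed by the element. -/
def IsQ (q : alternatingGroup (Fin r)) (s : (End k V)ˣ) : Prop :=
  ρ.Lift q s ∧ ∀ y : ZMod 5 ↪ Fin r, (∀ x, (q : Perm (Fin r)) (y x) = y x) →
    ∀ v ∈ disp ρ y, (s : End k V) v = v

/-- The normalised lift of a double transposition. -/
noncomputable def Ls (q : alternatingGroup (Fin r)) : (End k V)ˣ := Classical.epsilon (IsQ ρ q)

/-- Four times the projection off the fixed space of a quadruple's four-group. -/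
noncomputable def K4 (a b c d : Fin r) : End k V :=
  3 - (Ls ρ (dt a b c d) : End k V) - (Ls ρ (dt a c d b) : End k V) -
    (Ls ρ (dt a d b c) : End k V)

/-- The hypotheses of the four-group analysis. -/
structure FourHyp : Prop where
  hr : 10 ≤ r
  hn : finrank k V + 2 ≤ r
  h5 : (5 : k) ≠ 0
  h2 : (2 : k) ≠ 0

omit [Nontrivial V] [IsAlgClosed k] [FiniteDimensional k V] in
theorem exists_five (hr : 10 ≤ r) (S : Finset (Fin r)) (hS : S.card + 5 ≤ r) :
    ∃ y : ZMod 5 ↪ Fin r, ∀ x, y x ∉ S := by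
  have hcard : Fintype.card (ZMod 5) ≤ Fintype.card {i // i ∉ S} := by
    rw [ZMod.card, Fintype.card_subtype_compl, Fintype.card_fin, Fintype.card_coe]
    omega
  obtain ⟨y0⟩ := Function.Embedding.nonempty_of_card_le hcard
  exact ⟨y0.trans (Function.Embedding.subtype _), fun x => (y0 x).2⟩

theorem exists_ne_zero_disp (hr : 7 ≤ r) (h5 : (5 : k) ≠ 0) (y : ZMod 5 ↪ Fin r) :
    ∃ v ∈ disp ρ y, v ≠ 0 := Submodule.exists_mem_ne_zero_of_ne_bot fun e => by
  have := four_le_finrank_disp ρ hr h5 y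
  rw [e, finrank_bot] at this
  omega

theorem exists_isQ (H : FourHyp (k := k) (V := V) (r := r)) {a b c d : Fin r}
    (hnd : [a, b, c, d].Nodup) : ∃ s, IsQ ρ (dt a b c d) s := by
  obtain ⟨y0, hy0⟩ := exists_five H.hr {a, b, c, d}
    (by have := Finset.card_le_four (a := a) (b := b) (c := c) (d := d); have := H.hr; omega)
  obtain ⟨-, -, hrel, hx3⟩ := dt_klein hnd
  obtain ⟨q1, q2, q3, q4, q5⟩ := dt_apply hnd
  have hn' := hnd
  simp only [List.nodup_cons, List.mem_cons, List.not_mem_nil, not_or, or_false, List.nodup_nil,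
    and_true, not_false_eq_true] at hn'
  obtain ⟨⟨hab, hac, had⟩, ⟨hbc, hbd⟩, hcd⟩ := hn'
  obtain ⟨-, -, -, x4⟩ := cyc_apply hbc hcd hbd
  have hout : ∀ i, (dt a b c d : Perm (Fin r)) i = i → i ≠ a ∧ i ≠ b ∧ i ≠ c ∧ i ≠ d :=
    fun i hi => ⟨fun e => hab (by rw [e] at hi; exact hi.symm.trans q1),
      fun e => hab (by rw [e] at hi; exact q2.symm.trans hi),
      fun e => hcd (by rw [e] at hi; exact hi.symm.trans q3),
      fun e => hcd (by rw [e] at hi; exact q4.symm.trans hi)⟩
  have hscal : ∀ y : ZMod 5 ↪ Fin r, (∀ x, (dt a b c d : Perm (Fin r)) (y x) = y x) →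
      ρ.ActsScalar (dt a b c d) (disp ρ y) ∧ ρ.ActsScalar (cyc b c d) (disp ρ y) := by
    intro y hy
    refine ⟨five_actsScalar ρ H.hr H.hn H.h5 y fun i hi => ?_,
      five_actsScalar ρ H.hr H.hn H.h5 y fun i hi => ?_⟩ <;>
      obtain ⟨x, -, rfl⟩ := Finset.mem_image.mp hi
    · exact hy x
    · obtain ⟨-, e2, e3, e4⟩ := hout _ (hy x)
      exact x4 _ e2 e3 e4
  have hy0fix : ∀ x, (dt a b c d : Perm (Fin r)) (y0 x) = y0 x := fun x => by
    have := hy0 x
    simp only [Finset.mem_insert, Finset.mem_singleton, not_or] at this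
    exact q5 _ this.1 this.2.1 this.2.2.1 this.2.2.2
  obtain ⟨v0, hv0, hv00⟩ := exists_ne_zero_disp ρ (by have := H.hr; omega) H.h5 y0
  obtain ⟨s0, hs0⟩ := ρ.exists_lift (dt a b c d)
  obtain ⟨u, hu⟩ := ρ.exists_lift (cyc b c d)
  obtain ⟨hS, hU⟩ := hscal y0 hy0fix
  obtain ⟨c0, hc0⟩ := hS s0 hs0
  obtain ⟨l0, hl0⟩ := hU u hu
  have hc00 : c0 ≠ 0 := by
    rintro rfl; exact apply_ne_zero s0 hv00 (by rw [hc0 v0 hv0, zero_smul])
  set s := sc (Units.mk0 c0 hc00)⁻¹ * s0 with hs
  have hLs : ρ.Lift (dt a b c d) s := PRep.smul hs0 _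
  have hsv : ∀ v ∈ disp ρ y0, (s : End k V) v = v := fun v hv => by
    simp only [hs, Units.val_mul, Module.End.mul_apply, sc_apply, hc0 v hv, smul_smul,
      Units.val_inv_eq_inv_val, Units.val_mk0, inv_mul_cancel₀ hc00, one_smul]
  have hK := kleinDatum_of_fixed (dt_mul_self hnd) hrel hx3 hu hLs hv00 (hl0 v0 hv0) (hsv v0 hv0)
  refine ⟨s, hLs, fun y hy v hv => ?_⟩
  rcases eq_or_ne v 0 with rfl | hv'
  · simp
  obtain ⟨hS', hU'⟩ := hscal y hy
  obtain ⟨c', hc'⟩ := hS' s hLs
  obtain ⟨l', hl'⟩ := hU' u hu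
  exact (hK.fixed_of_scalar hv' (hl' v hv) (hc' v hv)).1

theorem isQ_Ls (H : FourHyp (k := k) (V := V) (r := r)) {a b c d : Fin r}
    (hnd : [a, b, c, d].Nodup) : IsQ ρ (dt a b c d) (Ls ρ (dt a b c d)) :=
  Classical.epsilon_spec (exists_isQ ρ H hnd)

theorem isQ_unique (H : FourHyp (k := k) (V := V) (r := r)) {a b c d : Fin r}
    (hnd : [a, b, c, d].Nodup) {s : (End k V)ˣ} (hs : IsQ ρ (dt a b c d) s) :
    s = Ls ρ (dt a b c d) := by
  obtain ⟨y0, hy0⟩ := exists_five H.hr {a, b, c, d}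
    (by have := Finset.card_le_four (a := a) (b := b) (c := c) (d := d); have := H.hr; omega)
  have hy0fix : ∀ x, (dt a b c d : Perm (Fin r)) (y0 x) = y0 x := fun x => by
    have := hy0 x
    simp only [Finset.mem_insert, Finset.mem_singleton, not_or] at this
    exact (dt_apply hnd).2.2.2.2 _ this.1 this.2.1 this.2.2.1 this.2.2.2
  obtain ⟨v0, hv0, hv00⟩ := exists_ne_zero_disp ρ (by have := H.hr; omega) H.h5 y0
  exact PRep.eq_of_apply hs.1 (isQ_Ls ρ H hnd).1 hv00
    ((hs.2 y0 hy0fix v0 hv0).trans ((isQ_Ls ρ H hnd).2 y0 hy0fix v0 hv0).symm)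

theorem Ls_conj (H : FourHyp (k := k) (V := V) (r := r)) {g : alternatingGroup (Fin r)}
    {w : (End k V)ˣ} (hw : ρ.Lift g w) {a b c d : Fin r} (hnd : [a, b, c, d].Nodup) :
    w * Ls ρ (dt a b c d) * w⁻¹ =
      Ls ρ (dt ((g : Perm (Fin r)) a) ((g : Perm (Fin r)) b) ((g : Perm (Fin r)) c)
        ((g : Perm (Fin r)) d)) := by
  have hnd' : [(g : Perm (Fin r)) a, (g : Perm (Fin r)) b, (g : Perm (Fin r)) c,
      (g : Perm (Fin r)) d].Nodup := by simpa using hnd.map (g : Perm (Fin r)).injective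
  have hQ := isQ_Ls ρ H hnd
  refine isQ_unique ρ H hnd' ⟨dt_conj g a b c d ▸ PRep.conj hQ.1 hw, fun y hy v hv => ?_⟩
  let y' : ZMod 5 ↪ Fin r := y.trans ((g : Perm (Fin r))⁻¹).toEmbedding
  have hy' : ∀ x, (dt a b c d : Perm (Fin r)) (y' x) = y' x := fun x => by
    have h := hy x
    rw [← dt_conj, Subgroup.coe_mul, Subgroup.coe_mul, InvMemClass.coe_inv, Perm.mul_apply,
      Perm.mul_apply] at h
    show _ = ((g : Perm (Fin r))⁻¹) (y x)
    conv_rhs => rw [← h]
    simp [y']
  have hv' : (↑w⁻¹ : End k V) v ∈ disp ρ y' :=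
    disp_map_one ρ (cycCond_five (by have := H.hr; omega)) (PRep.inv hw) (fun x => rfl) hv
  rw [Units.val_mul, Units.val_mul, Module.End.mul_apply, Module.End.mul_apply,
    hQ.2 y' hy' _ hv', ← Module.End.mul_apply, Units.mul_inv, Module.End.one_apply]

theorem Ls_commute (H : FourHyp (k := k) (V := V) (r := r)) {a b c d a' b' c' d' : Fin r}
    (hnd : [a, b, c, d].Nodup) (hnd' : [a', b', c', d'].Nodup)
    (h : Commute (dt a b c d) (dt a' b' c' d')) :
    Commute (Ls ρ (dt a b c d)) (Ls ρ (dt a' b' c' d')) := by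
  have h1 := Ls_conj ρ H (isQ_Ls ρ H hnd).1 hnd'
  rw [← dt_conj, h.eq, mul_inv_cancel_right, mul_inv_eq_iff_eq_mul] at h1
  exact h1

theorem kleinDatum_Ls (H : FourHyp (k := k) (V := V) (r := r)) {a b c d : Fin r}
    (hnd : [a, b, c, d].Nodup) {u : (End k V)ˣ} (hu : ρ.Lift (cyc b c d) u) :
    KleinDatum u (Ls ρ (dt a b c d)) ∧
      u * Ls ρ (dt a b c d) * u⁻¹ = Ls ρ (dt a c d b) ∧
      Ls ρ (dt a b c d) * Ls ρ (dt a c d b) = Ls ρ (dt a d b c) ∧
      KleinDatum.moved u (Ls ρ (dt a b c d)) = K4 ρ a b c d := by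
  have hn' := hnd
  simp only [List.nodup_cons, List.mem_cons, List.not_mem_nil, not_or, or_false, List.nodup_nil,
    and_true, not_false_eq_true] at hn'
  obtain ⟨⟨hab, hac, had⟩, ⟨hbc, hbd⟩, hcd⟩ := hn'
  obtain ⟨x1, x2, x3, x4⟩ := cyc_apply hbc hcd hbd
  obtain ⟨-, -, hrel, hx3⟩ := dt_klein hnd
  obtain ⟨y0, hy0⟩ := exists_five H.hr {a, b, c, d}
    (by have := Finset.card_le_four (a := a) (b := b) (c := c) (d := d); have := H.hr; omega)
  have hy0' : ∀ x, y0 x ≠ a ∧ y0 x ≠ b ∧ y0 x ≠ c ∧ y0 x ≠ d := fun x => by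
    have := hy0 x
    simp only [Finset.mem_insert, Finset.mem_singleton, not_or] at this
    exact this
  obtain ⟨v0, hv0, hv00⟩ := exists_ne_zero_disp ρ (by have := H.hr; omega) H.h5 y0
  have hQ := isQ_Ls ρ H hnd
  have hsv := hQ.2 y0 (fun x => (dt_apply hnd).2.2.2.2 _ (hy0' x).1 (hy0' x).2.1 (hy0' x).2.2.1
    (hy0' x).2.2.2) v0 hv0
  obtain ⟨l, hl⟩ := five_actsScalar ρ H.hr H.hn H.h5 y0 (g := cyc b c d) (fun i hi => by
    obtain ⟨x, -, rfl⟩ := Finset.mem_image.mp hi
    exact x4 _ (hy0' x).2.1 (hy0' x).2.2.1 (hy0' x).2.2.2) u hu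
  have hK := kleinDatum_of_fixed (dt_mul_self hnd) hrel hx3 hu hQ.1 hv00 (hl v0 hv0) hsv
  have e1 : u * Ls ρ (dt a b c d) * u⁻¹ = Ls ρ (dt a c d b) := by
    rw [Ls_conj ρ H hu hnd, x4 a hab hac had, x1, x2, x3]
  have hnd1 : [a, c, d, b].Nodup := by
    simp [hac, had, hab, hcd, Ne.symm hbc, Ne.symm hbd]
  have e2 : u * Ls ρ (dt a c d b) * u⁻¹ = Ls ρ (dt a d b c) := by
    rw [Ls_conj ρ H hu hnd1, x4 a hab hac had, x1, x2, x3]
  have e3 : Ls ρ (dt a b c d) * Ls ρ (dt a c d b) = Ls ρ (dt a d b c) := by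
    rw [← e1, hK.mul, e1, e2]
  refine ⟨hK, e1, e3, ?_⟩
  rw [KleinDatum.moved, K4, e1, ← Units.val_mul, e3]

omit [FiniteDimensional k V] in
theorem fixed_of_apply_eq_zero {u s : (End k V)ˣ} (h : KleinDatum u s) (h2 : (2 : k) ≠ 0) {v : V}
    (hv : KleinDatum.moved u s v = 0) :
    (s : End k V) v = v ∧ ((u * s * u⁻¹ : (End k V)ˣ) : End k V) v = v := by
  have p := h.pair
  have h4 : (4 : k) ≠ 0 := by rw [show (4 : k) = 2 * 2 by norm_num]; exact mul_ne_zero h2 h2
  set a : End k V := (s : End k V)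
  set b : End k V := ((u * s * u⁻¹ : (End k V)ˣ) : End k V)
  have hav : ∀ z, a (a z) = z := fun z => by
    rw [← Module.End.mul_apply, p.ha, Module.End.one_apply]
  have hbv : ∀ z, b (b z) = z := fun z => by
    rw [← Module.End.mul_apply, p.hb, Module.End.one_apply]
  have hcom : ∀ z, b (a z) = a (b z) := fun z => by
    rw [← Module.End.mul_apply, ← p.hab, Module.End.mul_apply]
  have hv' : v + v + v - a v - b v - a (b v) = 0 := by
    rw [← hv, KleinDatum.moved]
    simp only [LinearMap.sub_apply, Module.End.mul_apply,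
      show (3 : End k V) = 1 + 1 + 1 by norm_num, LinearMap.add_apply, Module.End.one_apply]
    rfl
  constructor
  · have h1 : a (v + v + v - a v - b v - a (b v)) = 0 := by rw [hv', map_zero]
    simp only [map_add, map_sub, hav] at h1
    have h3 : (4 : k) • (a v - v) = 0 := by
      rw [show (4 : k) = 1 + 1 + 1 + 1 by norm_num]
      simp only [add_smul, one_smul]
      rw [show (0 : V) = (a v + a v + a v - v - a (b v) - b v) -
        (v + v + v - a v - b v - a (b v)) by rw [h1, hv', sub_zero]]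
      abel
    exact sub_eq_zero.mp ((smul_eq_zero.mp h3).resolve_left h4)
  · have h1 : b (v + v + v - a v - b v - a (b v)) = 0 := by rw [hv', map_zero]
    simp only [map_add, map_sub, hbv, hcom] at h1
    have h3 : (4 : k) • (b v - v) = 0 := by
      rw [show (4 : k) = 1 + 1 + 1 + 1 by norm_num]
      simp only [add_smul, one_smul]
      rw [show (0 : V) = (b v + b v + b v - a (b v) - v - a v) -
        (v + v + v - a v - b v - a (b v)) by rw [h1, hv', sub_zero]]
      abel
    exact sub_eq_zero.mp ((smul_eq_zero.mp h3).resolve_left h4)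

theorem K4_apply_of_fixed (H : FourHyp (k := k) (V := V) (r := r)) {a b c d : Fin r}
    (hnd : [a, b, c, d].Nodup) {v : V} (h1 : (Ls ρ (dt a b c d) : End k V) v = v)
    (h2 : (Ls ρ (dt a c d b) : End k V) v = v) : K4 ρ a b c d v = 0 := by
  obtain ⟨u, hu⟩ := ρ.exists_lift (cyc b c d)
  obtain ⟨-, -, e3, -⟩ := kleinDatum_Ls ρ H hnd hu
  simp only [K4, ← e3, Units.val_mul, LinearMap.sub_apply, Module.End.mul_apply, h2, h1,
    show (3 : End k V) = 1 + 1 + 1 by norm_num, LinearMap.add_apply, Module.End.one_apply]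
  abel

theorem disp_le_ker_K4 (H : FourHyp (k := k) (V := V) (r := r)) {a b c d : Fin r}
    (hnd : [a, b, c, d].Nodup) (y : ZMod 5 ↪ Fin r) (hy : ∀ x, y x ∉ ({a, b, c, d} : Finset (Fin r))) :
    disp ρ y ≤ LinearMap.ker (K4 ρ a b c d) := by
  intro v hv
  have hn' := hnd
  simp only [List.nodup_cons, List.mem_cons, List.not_mem_nil, not_or, or_false, List.nodup_nil,
    and_true, not_false_eq_true] at hn'
  obtain ⟨⟨hab, hac, had⟩, ⟨hbc, hbd⟩, hcd⟩ := hn'
  have hnd1 : [a, c, d, b].Nodup := by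
    simp [hac, had, hab, hcd, Ne.symm hbc, Ne.symm hbd]
  have hy' : ∀ x, y x ≠ a ∧ y x ≠ b ∧ y x ≠ c ∧ y x ≠ d := fun x => by
    have := hy x
    simp only [Finset.mem_insert, Finset.mem_singleton, not_or] at this
    exact this
  refine LinearMap.mem_ker.mpr (K4_apply_of_fixed ρ H hnd ?_ ?_)
  · exact (isQ_Ls ρ H hnd).2 y (fun x => (dt_apply hnd).2.2.2.2 _ (hy' x).1 (hy' x).2.1
      (hy' x).2.2.1 (hy' x).2.2.2) v hv
  · exact (isQ_Ls ρ H hnd1).2 y (fun x => (dt_apply hnd1).2.2.2.2 _ (hy' x).1 (hy' x).2.2.1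
      (hy' x).2.2.2 (hy' x).2.1) v hv

theorem rank_K4_add_four (H : FourHyp (k := k) (V := V) (r := r)) {a b c d : Fin r}
    (hnd : [a, b, c, d].Nodup) :
    finrank k (LinearMap.range (K4 ρ a b c d)) + 4 ≤ finrank k V := by
  obtain ⟨y0, hy0⟩ := exists_five H.hr {a, b, c, d}
    (by have := Finset.card_le_four (a := a) (b := b) (c := c) (d := d); have := H.hr; omega)
  have h1 := Submodule.finrank_mono (disp_le_ker_K4 ρ H hnd y0 hy0)
  have h2 := four_le_finrank_disp ρ (by have := H.hr; omega) H.h5 y0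
  have h3 := (K4 ρ a b c d).finrank_range_add_finrank_ker
  omega

theorem K4_map (H : FourHyp (k := k) (V := V) (r := r)) {g : alternatingGroup (Fin r)}
    {w : (End k V)ˣ} (hw : ρ.Lift g w) {a b c d : Fin r} (hnd : [a, b, c, d].Nodup) :
    cj w (K4 ρ a b c d) = K4 ρ ((g : Perm (Fin r)) a) ((g : Perm (Fin r)) b)
      ((g : Perm (Fin r)) c) ((g : Perm (Fin r)) d) := by
  have hn' := hnd
  simp only [List.nodup_cons, List.mem_cons, List.not_mem_nil, not_or, or_false, List.nodup_nil,
    and_true, not_false_eq_true] at hn'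
  obtain ⟨⟨hab, hac, had⟩, ⟨hbc, hbd⟩, hcd⟩ := hn'
  have hnd1 : [a, c, d, b].Nodup := by
    simp [hac, had, hab, hcd, Ne.symm hbc, Ne.symm hbd]
  have hnd2 : [a, d, b, c].Nodup := by
    simp [hac, had, hab, hbc, Ne.symm hbd, Ne.symm hcd]
  have h1 : ∀ x : (End k V)ˣ, (w : End k V) * (x : End k V) * ↑w⁻¹ =
      ((w * x * w⁻¹ : (End k V)ˣ) : End k V) := fun x => by simp only [Units.val_mul]
  rw [K4, K4, ← Ls_conj ρ H hw hnd, ← Ls_conj ρ H hw hnd1, ← Ls_conj ρ H hw hnd2, cj]
  simp only [mul_sub, sub_mul, h1, show (3 : End k V) = 1 + 1 + 1 by norm_num, mul_add, add_mul,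
    mul_one, Units.mul_inv]

theorem finrank_K4_eq (H : FourHyp (k := k) (V := V) (r := r)) {a b c d a' b' c' d' : Fin r}
    (hnd : [a, b, c, d].Nodup) (hnd' : [a', b', c', d'].Nodup) :
    finrank k (LinearMap.range (K4 ρ a b c d)) = finrank k (LinearMap.range (K4 ρ a' b' c' d')) := by
  obtain ⟨g, hg⟩ := exists_map_equiv (f := tup4 a b c d hnd) (g := tup4 a' b' c' d' hnd')
    (by have := H.hr; simp; omega)
  obtain ⟨w, hw⟩ := ρ.exists_lift g
  have h := K4_map ρ H hw hnd
  have g0 : (g : Perm (Fin r)) a = a' := hg 0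
  have g1 : (g : Perm (Fin r)) b = b' := hg 1
  have g2 : (g : Perm (Fin r)) c = c' := hg 2
  have g3 : (g : Perm (Fin r)) d = d' := hg 3
  rw [g0, g1, g2, g3] at h
  rw [← h, finrank_range_cj]

section Weights

variable {t : ℕ}

/-- The two generators of the four-group of each block. -/
noncomputable def quadOp (f : Fin t × Fin 4 ↪ Fin r) : Fin t × Fin 2 → End k V := fun p =>
  if p.2 = 0 then (Ls ρ (dt (f (p.1, 0)) (f (p.1, 1)) (f (p.1, 2)) (f (p.1, 3))) : End k V)
  else (Ls ρ (dt (f (p.1, 0)) (f (p.1, 2)) (f (p.1, 3)) (f (p.1, 1))) : End k V)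

theorem quadOp_zero (f : Fin t × Fin 4 ↪ Fin r) (i : Fin t) :
    quadOp ρ f (i, 0) =
      (Ls ρ (dt (f (i, 0)) (f (i, 1)) (f (i, 2)) (f (i, 3))) : End k V) := by
  rw [quadOp, if_pos rfl]

theorem quadOp_one (f : Fin t × Fin 4 ↪ Fin r) (i : Fin t) :
    quadOp ρ f (i, 1) =
      (Ls ρ (dt (f (i, 0)) (f (i, 2)) (f (i, 3)) (f (i, 1))) : End k V) := by
  rw [quadOp, if_neg Fin.zero_ne_one.symm]

/-- The weight attached to a vector of indices. -/
def quadVal (a : Fin t → Fin 4) : Fin t × Fin 2 → k := fun p =>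
  (![![1, 1], ![-1, -1], ![1, -1], ![-1, 1]] : Fin 4 → Fin 2 → k) (a p.1) p.2

omit [Nontrivial V] [IsAlgClosed k] [FiniteDimensional k V] in
theorem quad_nodup (f : Fin t × Fin 4 ↪ Fin r) (i : Fin t) :
    [f (i, 0), f (i, 1), f (i, 2), f (i, 3)].Nodup ∧
      [f (i, 0), f (i, 2), f (i, 3), f (i, 1)].Nodup := by
  constructor
  · simpa using (show [(0 : Fin 4), 1, 2, 3].Nodup by decide).map
      (f := fun x => f (i, x)) (fun _ _ h => (Prod.mk.inj (f.injective h)).2)
  · simpa using (show [(0 : Fin 4), 2, 3, 1].Nodup by decide).map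
      (f := fun x => f (i, x)) (fun _ _ h => (Prod.mk.inj (f.injective h)).2)

theorem quadWt_rotate (H : FourHyp (k := k) (V := V) (r := r)) (f : Fin t × Fin 4 ↪ Fin r)
    (i : Fin t) {a : Fin t → Fin 4} (ha : wsp (quadOp ρ f) (quadVal (k := k) a) ≠ ⊥) :
    wsp (quadOp ρ f) (quadVal (k := k) (Function.update a i (![0, 2, 3, 1] (a i)))) ≠ ⊥ := by
  obtain ⟨v, hv, hv0⟩ := Submodule.exists_mem_ne_zero_of_ne_bot ha
  obtain ⟨u, hu⟩ := ρ.exists_lift (cyc (f (i, 1)) (f (i, 2)) (f (i, 3)))
  intro hbot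
  have hmem : (u : End k V) v ∈
      wsp (quadOp ρ f) (quadVal (k := k) (Function.update a i (![0, 2, 3, 1] (a i)))) := by
    rw [mem_wsp]
    rintro ⟨j, e⟩
    have hne : ∀ x y : Fin 4, x ≠ y → f (i, x) ≠ f (i, y) := fun x y hxy h =>
      hxy (Prod.mk.inj (f.injective h)).2
    obtain ⟨hK, e1, e3, -⟩ := kleinDatum_Ls ρ H (quad_nodup f i).1 hu
    have hv1 := mem_wsp.mp hv (i, 0)
    have hv2 := mem_wsp.mp hv (i, 1)
    simp only [quadOp_zero, quadOp_one] at hv1 hv2
    by_cases hji : j = i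
    · subst hji
      have c1 : Ls ρ (dt (f (j, 0)) (f (j, 2)) (f (j, 3)) (f (j, 1))) * u =
          u * Ls ρ (dt (f (j, 0)) (f (j, 1)) (f (j, 2)) (f (j, 3))) := by
        rw [← e1]; group
      have c2 : Ls ρ (dt (f (j, 0)) (f (j, 1)) (f (j, 2)) (f (j, 3))) * u =
          u * (Ls ρ (dt (f (j, 0)) (f (j, 1)) (f (j, 2)) (f (j, 3))) *
            Ls ρ (dt (f (j, 0)) (f (j, 2)) (f (j, 3)) (f (j, 1)))) := by
        rw [← e1, hK.mul]
        conv_lhs => rw [← hK.cube]
        group
      have c1' := congrArg (fun z : (End k V)ˣ => (z : End k V) v) c1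
      have c2' := congrArg (fun z : (End k V)ˣ => (z : End k V) v) c2
      simp only [Units.val_mul, Module.End.mul_apply, hv1, hv2, map_smul, smul_smul] at c1' c2'
      obtain rfl | rfl : e = 0 ∨ e = 1 := by omega
      · simp only [quadOp_zero, c2', quadVal, Function.update_self]
        congr 1
        rcases a j with ⟨m, hm⟩
        interval_cases m <;> simp
      · simp only [quadOp_one, c1',
          quadVal, Function.update_self]
        congr 1
        rcases a j with ⟨m, hm⟩
        interval_cases m <;> simp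
    · have hfix : ∀ x, (cyc (f (i, 1)) (f (i, 2)) (f (i, 3)) : Perm (Fin r)) (f (j, x)) = f (j, x) := by
        intro x
        refine (cyc_apply (hne 1 2 (by decide)) (hne 2 3 (by decide)) (hne 1 3 (by decide))).2.2.2 _
          ?_ ?_ ?_ <;> exact fun h => hji (Prod.mk.inj (f.injective h)).1
      have hv3 := mem_wsp.mp hv (j, e)
      have hval : quadVal (k := k) (Function.update a i (![0, 2, 3, 1] (a i))) (j, e) =
          quadVal (k := k) a (j, e) := by
        simp only [quadVal, Function.update_of_ne hji]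
      rw [hval]
      obtain rfl | rfl : e = 0 ∨ e = 1 := by omega
      · have hc := Ls_conj ρ H hu (quad_nodup f j).1
        rw [hfix, hfix, hfix, hfix, mul_inv_eq_iff_eq_mul] at hc
        have hc' := congrArg (fun z : (End k V)ˣ => (z : End k V) v) hc
        simp only [Units.val_mul, Module.End.mul_apply] at hc'
        simp only [quadOp_zero] at hv3 ⊢
        rw [← hc', hv3, map_smul]
      · have hc := Ls_conj ρ H hu (quad_nodup f j).2
        rw [hfix, hfix, hfix, hfix, mul_inv_eq_iff_eq_mul] at hc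
        have hc' := congrArg (fun z : (End k V)ˣ => (z : End k V) v) hc
        simp only [Units.val_mul, Module.End.mul_apply] at hc'
        simp only [quadOp_one] at hv3 ⊢
        rw [← hc', hv3, map_smul]
  rw [hbot, Submodule.mem_bot] at hmem
  exact apply_ne_zero u hv0 hmem

theorem quadWt_perm (H : FourHyp (k := k) (V := V) (r := r)) (f : Fin t × Fin 4 ↪ Fin r)
    (π : Perm (Fin t)) {a : Fin t → Fin 4} (ha : wsp (quadOp ρ f) (quadVal (k := k) a) ≠ ⊥) :
    wsp (quadOp ρ f) (quadVal (k := k) (a ∘ π)) ≠ ⊥ := by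
  obtain ⟨v, hv, hv0⟩ := Submodule.exists_mem_ne_zero_of_ne_bot ha
  set P : Perm (Fin t × Fin 4) := Equiv.prodCongrLeft fun _ => π⁻¹
  have hP : Perm.sign P = 1 := by
    rw [Perm.sign_prodCongrLeft, Finset.prod_const, Finset.card_univ, Fintype.card_fin,
      show (4 : ℕ) = 2 * 2 from rfl, pow_mul, Int.units_sq]
    try exact one_pow 2
  obtain ⟨w, hw⟩ := ρ.exists_lift (embA f P)
  intro hbot
  have hmap : ∀ i x, (embA f P : Perm (Fin r)) (f (π i, x)) = f (i, x) := fun i x => by
    rw [embA_val hP, emb_apply]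
    simp [P]
  have hmem : (w : End k V) v ∈ wsp (quadOp ρ f) (quadVal (k := k) (a ∘ π)) := by
    rw [mem_wsp]
    rintro ⟨i, e⟩
    have hv3 := mem_wsp.mp hv (π i, e)
    change quadOp ρ f (i, e) _ = quadVal (k := k) a (π i, e) • _
    obtain rfl | rfl : e = 0 ∨ e = 1 := by omega
    · have hc := Ls_conj ρ H hw (quad_nodup f (π i)).1
      rw [hmap, hmap, hmap, hmap, mul_inv_eq_iff_eq_mul] at hc
      have hc' := congrArg (fun z : (End k V)ˣ => (z : End k V) v) hc
      simp only [Units.val_mul, Module.End.mul_apply] at hc'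
      simp only [quadOp_zero] at hv3 ⊢
      rw [← hc', hv3, map_smul]
    · have hc := Ls_conj ρ H hw (quad_nodup f (π i)).2
      rw [hmap, hmap, hmap, hmap, mul_inv_eq_iff_eq_mul] at hc
      have hc' := congrArg (fun z : (End k V)ˣ => (z : End k V) v) hc
      simp only [Units.val_mul, Module.End.mul_apply] at hc'
      simp only [quadOp_one] at hv3 ⊢
      rw [← hc', hv3, map_smul]
  rw [hbot, Submodule.mem_bot] at hmem
  exact apply_ne_zero w hv0 hmem

theorem quadWt_of_card (H : FourHyp (k := k) (V := V) (r := r)) (f : Fin t × Fin 4 ↪ Fin r)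
    {a b : Fin t → Fin 4} (ha : wsp (quadOp ρ f) (quadVal (k := k) a) ≠ ⊥)
    (h : (supp 0 a).card = (supp 0 b).card) : wsp (quadOp ρ f) (quadVal (k := k) b) ≠ ⊥ := by
  classical
  obtain ⟨π, hπ⟩ := exists_perm_of_card_supp 0 h
  suffices ∀ (S : Finset (Fin t)), wsp (quadOp ρ f)
      (quadVal (k := k) fun i => if i ∈ S then b i else a (π i)) ≠ ⊥ by
    simpa using this Finset.univ
  intro S
  induction S using Finset.induction_on with
  | empty => simpa [Function.comp_def] using quadWt_perm ρ H f π ha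
  | @insert i S hi ih =>
    set d := fun j => if j ∈ S then b j else a (π j) with hd
    have hdi : d i = a (π i) := by simp [hd, hi]
    have hnew : (fun j => if j ∈ insert i S then b j else a (π j)) = Function.update d i (b i) := by
      funext j
      by_cases hj : j = i
      · subst hj; simp
      · simp [hj, hd, Function.update_of_ne hj]
    rw [hnew]
    have key : ∀ x y : Fin 4, (y ≠ 0 ↔ x ≠ 0) →
        y = x ∨ y = (![0, 2, 3, 1] : Fin 4 → Fin 4) x ∨
          y = (![0, 2, 3, 1] : Fin 4 → Fin 4) ((![0, 2, 3, 1] : Fin 4 → Fin 4) x) := by decide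
    rcases key (d i) (b i) (hdi ▸ hπ i) with e | e | e
    · rw [e, Function.update_eq_self]; exact ih
    · rw [e]; exact quadWt_rotate ρ H f i ih
    · have := quadWt_rotate ρ H f i (quadWt_rotate ρ H f i ih)
      rw [Function.update_idem, Function.update_self] at this
      rw [e]; exact this

theorem quad_kill (H : FourHyp (k := k) (V := V) (r := r)) {a b c d a' b' c' d' : Fin r}
    (h : [a, b, c, d, a', b', c', d'].Nodup) :
    K4 ρ a b c d * K4 ρ a' b' c' d' = 0 := by
  classical
  have hnd : [a, b, c, d].Nodup := h.sublist (by simp)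
  have hnd' : [a', b', c', d'].Nodup :=
    h.sublist (List.sublist_append_right [a, b, c, d] [a', b', c', d'])
  have hdis : ∀ x y, tup4 a b c d hnd x ≠ tup4 a' b' c' d' hnd' y := by
    simp only [List.nodup_cons, List.mem_cons, List.not_mem_nil, not_or, or_false, List.nodup_nil,
      and_true, not_false_eq_true] at h
    intro x y
    fin_cases x <;> fin_cases y <;> simp_all [tup4]
  obtain ⟨t, ht⟩ : ∃ t, t = r / 4 := ⟨_, rfl⟩
  have ht2 : 2 ≤ t := by have := H.hr; omega
  obtain ⟨f, hf⟩ := exists_blocks (pairBlocks _ _ hdis) ht2 (by rw [Fintype.card_fin]; omega)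
  set i : Fin t := Fin.castLE ht2 (0 : Fin 2)
  set j : Fin t := Fin.castLE ht2 (1 : Fin 2)
  have hij : i ≠ j := by simp [i, j, Fin.ext_iff]
  have hK : ∀ l : Fin t, ∀ (w : Fin t → Fin 4), ∀ v ∈ wsp (quadOp ρ f) (quadVal (k := k) w),
      K4 ρ (f (l, 0)) (f (l, 1)) (f (l, 2)) (f (l, 3)) v =
        (if w l = 0 then (0 : k) else 4) • v := by
    intro l w v hv
    obtain ⟨u, hu⟩ := ρ.exists_lift (cyc (f (l, 1)) (f (l, 2)) (f (l, 3)))
    obtain ⟨-, -, e3, -⟩ := kleinDatum_Ls ρ H (quad_nodup f l).1 hu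
    have hv1 := mem_wsp.mp hv (l, 0)
    have hv2 := mem_wsp.mp hv (l, 1)
    simp only [quadOp_zero, quadOp_one] at hv1 hv2
    simp only [K4, ← e3, Units.val_mul, LinearMap.sub_apply, Module.End.mul_apply, hv1, hv2,
      map_smul, show (3 : End k V) = 1 + 1 + 1 by norm_num, LinearMap.add_apply,
      Module.End.one_apply, smul_smul, quadVal]
    rw [show (4 : k) = 1 + 1 + 1 + 1 by norm_num]
    rcases w l with ⟨m, hm⟩
    interval_cases m <;> simp [add_smul] <;> abel
  have hblk0 : ∀ x, f (i, x) = tup4 a b c d hnd x := fun x => by rw [hf, pairBlocks_zero]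
  have hblk1 : ∀ x, f (j, x) = tup4 a' b' c' d' hnd' x := fun x => by rw [hf, pairBlocks_one]
  have hXdef : K4 ρ a b c d * K4 ρ a' b' c' d' =
      K4 ρ (f (i, 0)) (f (i, 1)) (f (i, 2)) (f (i, 3)) *
        K4 ρ (f (j, 0)) (f (j, 1)) (f (j, 2)) (f (j, 3)) := by
    simp only [hblk0, hblk1]; rfl
  by_contra hne
  -- some weight moves both blocks
  obtain ⟨w, hw, hwi, hwj⟩ : ∃ w : Fin t → Fin 4,
      wsp (quadOp ρ f) (quadVal (k := k) w) ≠ ⊥ ∧ w i ≠ 0 ∧ w j ≠ 0 := by
    by_contra hcon
    push Not at hcon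
    refine hne ?_
    rw [hXdef, ← LinearMap.ker_eq_top, eq_top_iff]
    have hsq : ∀ p, quadOp ρ f p ^ 2 = 1 := by
      intro p
      obtain ⟨u, hu⟩ := ρ.exists_lift (cyc (f (p.1, 1)) (f (p.1, 2)) (f (p.1, 3)))
      obtain ⟨hKD, e1, -, -⟩ := kleinDatum_Ls ρ H (quad_nodup f p.1).1 hu
      rw [pow_two, quadOp]
      split_ifs
      · exact hKD.pair.ha
      · rw [← e1]; exact hKD.pair.hb
    have hcomm : ∀ p q, Commute (quadOp ρ f p) (quadOp ρ f q) := by
      intro p q
      have hgen : ∀ {x1 x2 x3 x4 y1 y2 y3 y4 : Fin 4} (l l' : Fin t),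
          [x1, x2, x3, x4].Nodup → [y1, y2, y3, y4].Nodup →
          Commute (dt x1 x2 x3 x4) (dt y1 y2 y3 y4) →
          Commute (Ls ρ (dt (f (l, x1)) (f (l, x2)) (f (l, x3)) (f (l, x4))))
            (Ls ρ (dt (f (l', y1)) (f (l', y2)) (f (l', y3)) (f (l', y4)))) := by
        intro x1 x2 x3 x4 y1 y2 y3 y4 l l' hx hy hc
        have hnx : [f (l, x1), f (l, x2), f (l, x3), f (l, x4)].Nodup := by
          simpa using hx.map (f := fun x => f (l, x)) fun _ _ h => (Prod.mk.inj (f.injective h)).2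
        have hny : [f (l', y1), f (l', y2), f (l', y3), f (l', y4)].Nodup := by
          simpa using hy.map (f := fun x => f (l', x)) fun _ _ h => (Prod.mk.inj (f.injective h)).2
        refine Ls_commute ρ H hnx hny ?_
        by_cases hll : l = l'
        · subst hll
          obtain ⟨p1, p2, p3, p4, p5⟩ := dt_apply hnx
          obtain ⟨r1, r2, r3, r4, r5⟩ := dt_apply hny
          obtain ⟨a1, a2, a3, a4, a5⟩ := dt_apply hx
          obtain ⟨b1, b2, b3, b4, b5⟩ := dt_apply hy
          have hxall : ∀ z, (dt (f (l, x1)) (f (l, x2)) (f (l, x3)) (f (l, x4)) : Perm (Fin r))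
              (f (l, z)) = f (l, (dt x1 x2 x3 x4 : Perm (Fin 4)) z) := by
            intro z
            by_cases h1 : z = x1
            · subst h1; rw [p1, a1]
            by_cases h2 : z = x2
            · subst h2; rw [p2, a2]
            by_cases h3 : z = x3
            · subst h3; rw [p3, a3]
            by_cases h4 : z = x4
            · subst h4; rw [p4, a4]
            rw [a5 z h1 h2 h3 h4]
            exact p5 _ (fun e => h1 (Prod.mk.inj (f.injective e)).2)
              (fun e => h2 (Prod.mk.inj (f.injective e)).2)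
              (fun e => h3 (Prod.mk.inj (f.injective e)).2)
              (fun e => h4 (Prod.mk.inj (f.injective e)).2)
          have hyall : ∀ z, (dt (f (l, y1)) (f (l, y2)) (f (l, y3)) (f (l, y4)) : Perm (Fin r))
              (f (l, z)) = f (l, (dt y1 y2 y3 y4 : Perm (Fin 4)) z) := by
            intro z
            by_cases h1 : z = y1
            · subst h1; rw [r1, b1]
            by_cases h2 : z = y2
            · subst h2; rw [r2, b2]
            by_cases h3 : z = y3
            · subst h3; rw [r3, b3]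
            by_cases h4 : z = y4
            · subst h4; rw [r4, b4]
            rw [b5 z h1 h2 h3 h4]
            exact r5 _ (fun e => h1 (Prod.mk.inj (f.injective e)).2)
              (fun e => h2 (Prod.mk.inj (f.injective e)).2)
              (fun e => h3 (Prod.mk.inj (f.injective e)).2)
              (fun e => h4 (Prod.mk.inj (f.injective e)).2)
          apply Subtype.ext
          ext z : 1
          simp only [Subgroup.coe_mul, Perm.mul_apply]
          by_cases hz : ∃ q, f (l, q) = z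
          · obtain ⟨q, rfl⟩ := hz
            rw [hyall, hxall, hxall, hyall]
            have := congrArg (fun g : alternatingGroup (Fin 4) => (g : Perm (Fin 4)) q) hc.eq
            simp only [Subgroup.coe_mul, Perm.mul_apply] at this
            rw [this]
          · push Not at hz
            rw [r5 z (hz _).symm (hz _).symm (hz _).symm (hz _).symm,
              p5 z (hz _).symm (hz _).symm (hz _).symm (hz _).symm,
              r5 z (hz _).symm (hz _).symm (hz _).symm (hz _).symm]
        · have hdj : ∀ x y, f (l, x) ≠ f (l', y) := fun x y e =>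
            hll (Prod.mk.inj (f.injective e)).1
          rw [commute_iff_eq, ← mul_inv_eq_iff_eq_mul, dt_conj]
          have p5 := (dt_apply hnx).2.2.2.2
          rw [p5 _ (hdj _ _).symm (hdj _ _).symm (hdj _ _).symm (hdj _ _).symm,
            p5 _ (hdj _ _).symm (hdj _ _).symm (hdj _ _).symm (hdj _ _).symm,
            p5 _ (hdj _ _).symm (hdj _ _).symm (hdj _ _).symm (hdj _ _).symm,
            p5 _ (hdj _ _).symm (hdj _ _).symm (hdj _ _).symm (hdj _ _).symm]
      simp only [quadOp]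
      split_ifs <;>
        exact (hgen _ _ (by decide) (by decide)
          (Subtype.ext (by decide))).map (Units.coeHom (End k V))
    rw [← iSup_wsp (quadOp ρ f) (ℓ := 2) (ζ := (-1 : k)) hsq hcomm
      (IsPrimitiveRoot.mk_of_lt _ (by norm_num) (neg_one_sq) fun m h0 h1 => by
        interval_cases m
        rw [pow_one]
        intro e
        exact H.h2 (by linear_combination -e))
      (by exact_mod_cast H.h2)]
    refine iSup₂_le fun z hz => ?_
    by_cases hbot : wsp (quadOp ρ f) z = ⊥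
    · rw [hbot]; exact bot_le
    have hex : ∀ l : Fin t, ∃ x : Fin 4,
        (![![1, 1], ![-1, -1], ![1, -1], ![-1, 1]] : Fin 4 → Fin 2 → k) x =
          fun e => z (l, e) := by
      intro l
      rcases sq_eq_one_iff.mp (hz (l, 0)) with h1 | h1 <;>
        rcases sq_eq_one_iff.mp (hz (l, 1)) with h2' | h2'
      · exact ⟨0, by funext e; fin_cases e <;> simp [h1, h2']⟩
      · exact ⟨2, by funext e; fin_cases e <;> simp [h1, h2']⟩
      · exact ⟨3, by funext e; fin_cases e <;> simp [h1, h2']⟩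
      · exact ⟨1, by funext e; fin_cases e <;> simp [h1, h2']⟩
    choose w hw using hex
    have hzw : z = quadVal (k := k) w := by
      funext ⟨l, e⟩
      exact (congrFun (hw l) e).symm
    rw [hzw] at hbot ⊢
    intro v hv
    rw [LinearMap.mem_ker, Module.End.mul_apply, hK j w v hv, map_smul, hK i w v hv]
    by_cases hwi : w i = 0
    · simp [hwi]
    · simp [hcon w hbot hwi]
  set S : Finset (Fin t → Fin 4) := Finset.univ.filter fun b => (supp 0 b).card = (supp 0 w).card
  have h4 : (4 : k) ≠ 0 := by rw [show (4 : k) = 2 * 2 by norm_num]; exact mul_ne_zero H.h2 H.h2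
  have hinj : Function.Injective (quadVal (k := k) : (Fin t → Fin 4) → Fin t × Fin 2 → k) := by
    intro p q e
    funext l
    have e0 := congrFun e (l, 0)
    have e1 := congrFun e (l, 1)
    have h11 : (1 : k) ≠ -1 := fun e => H.h2 (by linear_combination e)
    simp only [quadVal] at e0 e1
    revert e0 e1
    rcases p l with ⟨x, hx⟩
    rcases q l with ⟨y, hy⟩
    interval_cases x <;> interval_cases y <;> simp [h11, Ne.symm h11]
  have hScard : S.card = t.choose (supp 0 w).card * 3 ^ (supp 0 w).card := by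
    rw [show S = _ from rfl, card_supp_eq, Fintype.card_fin]
  have hm2 : 2 ≤ (supp 0 w).card := Finset.one_lt_card.mpr
    ⟨i, mem_supp.mpr hwi, j, mem_supp.mpr hwj, hij⟩
  have hmt : (supp 0 w).card ≤ t := (Finset.card_le_univ _).trans (by simp)
  have hwt : ∀ b ∈ S, wsp (quadOp ρ f) (quadVal (k := k) b) ≠ ⊥ := fun b hb =>
    quadWt_of_card ρ H f hw (Finset.mem_filter.mp hb).2.symm
  have hone : S.card ≤ ∑ b ∈ S, finrank k (wsp (quadOp ρ f) (quadVal (k := k) b)) := by
    rw [Finset.card_eq_sum_ones]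
    exact Finset.sum_le_sum fun b hb => Submodule.one_le_finrank_iff.mpr (hwt b hb)
  have hn := H.hn
  by_cases ht3 : 3 ≤ t
  · have h1 := sum_finrank_le (quadOp ρ f) (S.image (quadVal (k := k)))
    rw [Finset.sum_image fun p _ q _ e => hinj e] at h1
    rcases Nat.lt_or_eq_of_le hmt with h' | h'
    · have h5 := le_choose (by omega) h'
      have h6 : 3 ^ 2 ≤ 3 ^ (supp 0 w).card := Nat.pow_le_pow_right (by norm_num) hm2
      have h7 := Nat.mul_le_mul h5 h6
      omega
    · have hb : 9 * t ≤ 3 ^ t := by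
        clear_value i j
        induction t, ht3 using Nat.le_induction with
        | base => norm_num
        | succ m hm ih =>
          have : ∀ m : ℕ, 3 ≤ m → 9 * m ≤ 3 ^ m := fun m hm => by
            induction m, hm using Nat.le_induction with
            | base => norm_num
            | succ q hq ih => rw [pow_succ]; omega
          exact this _ (by omega)
      rw [h', Nat.choose_self, one_mul] at hScard
      omega
  · have hm : (supp 0 w).card = 2 := by omega
    have htt : t = 2 := by omega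
    have hU : ∀ z ∈ S.image (quadVal (k := k)), wsp (quadOp ρ f) z ≤
        LinearMap.range (K4 ρ (f (i, 0)) (f (i, 1)) (f (i, 2)) (f (i, 3))) := by
      intro z hz v hv
      obtain ⟨b, hb, rfl⟩ := Finset.mem_image.mp hz
      refine ⟨(4 : k)⁻¹ • v, ?_⟩
      have hbi : b i ≠ 0 := by
        have hcard := (Finset.mem_filter.mp hb).2
        have := Finset.eq_univ_of_card (supp 0 b) (by rw [hcard, hm, Fintype.card_fin, htt])
        exact mem_supp.mp (this ▸ Finset.mem_univ i)
      rw [map_smul, hK i b v hv, if_neg hbi, inv_smul_smul₀ h4]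
    have h1 := sum_finrank_le_of_le (quadOp ρ f) (S.image (quadVal (k := k))) _ hU
    rw [Finset.sum_image fun p _ q _ e => hinj e] at h1
    have h2 := rank_K4_add_four ρ H (quad_nodup f i).1
    have h9 : t.choose (supp 0 w).card * 3 ^ (supp 0 w).card = 9 := by rw [hm, htt]; rfl
    rw [h9] at hScard
    omega

end Weights

theorem finrank_K4 (H : FourHyp (k := k) (V := V) (r := r)) {a b c d : Fin r}
    (hnd : [a, b, c, d].Nodup) :
    finrank k (LinearMap.range (K4 ρ a b c d)) = 3 ∧ 6 ≤ finrank k V := by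
  obtain ⟨u, hu⟩ := ρ.exists_lift (cyc b c d)
  obtain ⟨hK, e1, e3, hmov⟩ := kleinDatum_Ls ρ H hnd hu
  have hup := hK.rank_moved
  rw [hmov] at hup
  have hlow := hK.rank_ineq H.h2 (LinearMap.ker (K4 ρ a b c d)) fun v hv =>
    fixed_of_apply_eq_zero hK H.h2 (by rw [hmov]; exact hv)
  have hrn := (K4 ρ a b c d).finrank_range_add_finrank_ker
  have hpos : 0 < finrank k (LinearMap.range (KleinDatum.proj1 u (Ls ρ (dt a b c d)))) := by
    by_contra h0
    have hP : KleinDatum.proj1 u (Ls ρ (dt a b c d)) = 0 := LinearMap.range_eq_bot.mp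
      (Submodule.finrank_eq_zero.mp (by omega))
    have hs1 := hK.eq_one H.h2 hP
    exact dt_ne_one hnd (PRep.eq_of_lift (hs1 ▸ (isQ_Ls ρ H hnd).1) ρ.one)
  obtain ⟨f⟩ := Function.Embedding.nonempty_of_card_le (α := Fin (r / 4) × Fin 4) (β := Fin r)
    (by simp; omega)
  have hsum := sum_range_le
    (fun l => K4 ρ (f (l, 0)) (f (l, 1)) (f (l, 2)) (f (l, 3)))
    (fun l l' hll => quad_kill ρ H (by
      have hne : ∀ x y, f (l, x) ≠ f (l', y) := fun x y e => hll (Prod.mk.inj (f.injective e)).1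
      have := (quad_nodup f l).1
      have := (quad_nodup f l').1
      simp_all))
    (fun l v hv => by
      obtain ⟨u', hu'⟩ := ρ.exists_lift (cyc (f (l, 1)) (f (l, 2)) (f (l, 3)))
      obtain ⟨hK', e1', -, hmov'⟩ := kleinDatum_Ls ρ H (quad_nodup f l).1 hu'
      obtain ⟨hf1, hf2⟩ := fixed_of_apply_eq_zero hK' H.h2 (by rw [hmov']; exact hv)
      rw [e1'] at hf2
      have h0 := K4_apply_of_fixed ρ H (quad_nodup f l).1 hf1 hf2
      obtain ⟨h12, h10, -, -, -, -, -⟩ := hK'.pair.facts
      have hKK : K4 ρ (f (l, 0)) (f (l, 1)) (f (l, 2)) (f (l, 3)) *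
          K4 ρ (f (l, 0)) (f (l, 1)) (f (l, 2)) (f (l, 3)) =
          4 * K4 ρ (f (l, 0)) (f (l, 1)) (f (l, 2)) (f (l, 3)) := by
        rw [← hmov', KleinDatum.moved]
        obtain ⟨ha, hb, hab⟩ := hK'.pair
        set A : End k V := (Ls ρ (dt (f (l, 0)) (f (l, 1)) (f (l, 2)) (f (l, 3))) : End k V)
        set B : End k V :=
          ((u' * Ls ρ (dt (f (l, 0)) (f (l, 1)) (f (l, 2)) (f (l, 3))) * u'⁻¹ : (End k V)ˣ) : End k V)
        have ha' : ∀ x, A * (A * x) = x := fun x => by rw [← mul_assoc, ha, one_mul]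
        have hb' : ∀ x, B * (B * x) = x := fun x => by rw [← mul_assoc, hb, one_mul]
        have hba : ∀ x, B * (A * x) = A * (B * x) := fun x => by
          rw [← mul_assoc, ← hab, mul_assoc]
        simp only [mul_sub, sub_mul, mul_add, add_mul, mul_one, one_mul, mul_assoc, ha, hb, ← hab,
          ha', hb', hba, show (4 : End k V) = 1 + 1 + 1 + 1 by norm_num,
          show (3 : End k V) = 1 + 1 + 1 by norm_num]
        abel
      have h5 := congrArg (fun T : End k V => T v) hKK
      simp only [Module.End.mul_apply, hv] at h5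
      rw [show (4 : End k V) = algebraMap k (End k V) 4 by rw [map_ofNat],
        Module.algebraMap_end_apply] at h5
      exact (smul_eq_zero.mp h5.symm).resolve_left
        (by rw [show (4 : k) = 2 * 2 by norm_num]; exact mul_ne_zero H.h2 H.h2))
  rw [Finset.sum_congr rfl fun l _ => finrank_K4_eq ρ H (quad_nodup f l).1 hnd, Finset.sum_const,
    Finset.card_univ, Fintype.card_fin, smul_eq_mul] at hsum
  have hn := H.hn
  have hr := H.hr
  have hR : finrank k (LinearMap.range (K4 ρ a b c d)) =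
      3 * finrank k (LinearMap.range (KleinDatum.proj1 u (Ls ρ (dt a b c d)))) := by omega
  have hP1 : finrank k (LinearMap.range (KleinDatum.proj1 u (Ls ρ (dt a b c d)))) = 1 := by
    by_contra hne
    have := Nat.mul_le_mul_left (r / 4) (show 6 ≤ finrank k (LinearMap.range (K4 ρ a b c d)) by omega)
    omega
  rw [hP1] at hR
  rw [hR] at hsum
  omega

theorem Ls_fix_range (H : FourHyp (k := k) (V := V) (r := r)) {a b c d a' b' c' d' : Fin r}
    (h : [a, b, c, d, a', b', c', d'].Nodup) {v : V}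
    (hv : v ∈ LinearMap.range (K4 ρ a' b' c' d')) : (Ls ρ (dt a b c d) : End k V) v = v := by
  have hnd : [a, b, c, d].Nodup := h.sublist (by simp)
  obtain ⟨w, rfl⟩ := hv
  have h0 : K4 ρ a b c d (K4 ρ a' b' c' d' w) = 0 := by
    rw [← Module.End.mul_apply, quad_kill ρ H h, LinearMap.zero_apply]
  obtain ⟨u, hu⟩ := ρ.exists_lift (cyc b c d)
  obtain ⟨hK, -, -, hmov⟩ := kleinDatum_Ls ρ H hnd hu
  exact (fixed_of_apply_eq_zero hK H.h2 (by rw [hmov]; exact h0)).1

theorem four_actsScalar (H : FourHyp (k := k) (V := V) (r := r)) {a b c d : Fin r}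
    (hnd : [a, b, c, d].Nodup) {g : alternatingGroup (Fin r)}
    (hg : Fixes ({a, b, c, d} : Finset (Fin r)) g) :
    ρ.ActsScalar g (LinearMap.range (K4 ρ a b c d)) := by
  refine fixes_induction (P := fun g => ρ.ActsScalar g (LinearMap.range (K4 ρ a b c d)))
    (PRep.actsScalar_one _) (fun g g' => PRep.actsScalar_mul)
    (fun x y z hxy hyz hxz hx hy hz => ?_) hg
  have hcard : 1 < (Finset.univ \ ({a, b, c, d} ∪ {x, y, z} : Finset (Fin r))).card := by
    have h1 := Finset.card_union_le ({a, b, c, d} : Finset (Fin r)) {x, y, z}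
    have h2 : ({x, y, z} : Finset (Fin r)).card ≤ 3 := Finset.card_le_three
    have h3 : ({a, b, c, d} : Finset (Fin r)).card ≤ 4 := Finset.card_le_four
    have := H.hr
    rw [Finset.card_univ_sdiff, Fintype.card_fin]
    omega
  obtain ⟨p, hp, q, hq, hpq⟩ := Finset.one_lt_card.mp hcard
  simp only [Finset.mem_sdiff, Finset.mem_univ, Finset.mem_union, Finset.mem_insert,
    Finset.mem_singleton, not_or, true_and] at hp hq hx hy hz
  have h5 : [x, y, z, p, q].Nodup := by
    simp [hxy, hxz, hyz, hpq, Ne.symm hp.2.1, Ne.symm hp.2.2.1, Ne.symm hp.2.2.2, Ne.symm hq.2.1,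
      Ne.symm hq.2.2.1, Ne.symm hq.2.2.2]
  rw [cyc_eq_dt_mul_dt h5]
  have key : ∀ {i j : Fin r}, [i, j, p, q, a, b, c, d].Nodup →
      ρ.ActsScalar (dt i j p q) (LinearMap.range (K4 ρ a b c d)) := fun hnd8 =>
    PRep.actsScalar_of_exists (isQ_Ls ρ H (hnd8.sublist (by simp))).1 (c := 1) fun v hv => by
      rw [one_smul]; exact Ls_fix_range ρ H hnd8 hv
  simp only [List.nodup_cons, List.mem_cons, List.not_mem_nil, not_or, or_false, List.nodup_nil,
    and_true, not_false_eq_true] at hnd h5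
  refine PRep.actsScalar_mul (key ?_) (key ?_) <;>
  · simp only [List.nodup_cons, List.mem_cons, List.not_mem_nil, not_or, or_false, List.nodup_nil,
      and_true, not_false_eq_true]
    grind

end CfsgLib.Perm.AltSection
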