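import Mathlib
import Cfsg.Agent.Lib.Perm.AltSection.Four

/-!
The lines attached to pairs in characteristic three.
-/

set_option autoImplicit false

namespace CfsgLib.Perm.AltSection

open Module Equiv

variable {k V : Type*} [Field k] [AddCommGroup V] [Module k V] [Nontrivial V] [IsAlgClosed k]
  [FiniteDimensional k V] {r : ℕ} (ρ : PRep k V (alternatingGroup (Fin r)))

/-- The moved space of a double transposition. -/
noncomputable def M4 (a b e f : Fin r) : Submodule k V :=
  eig (Ls ρ (dt a b e f) : End k V) (-1)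

omit [FiniteDimensional k V] [IsAlgClosed k] [Nontrivial V] in
theorem K4_swap (ρ : PRep k V (alternatingGroup (Fin r))) {a b c d : Fin r}
    (h : [a, b, c, d].Nodup) : K4 ρ b a c d = K4 ρ a b c d ∧ K4 ρ a b d c = K4 ρ a b c d ∧
      K4 ρ a c d b = K4 ρ a b c d := by
  have h' := h
  simp only [List.nodup_cons, List.mem_cons, List.not_mem_nil, not_or, or_false, List.nodup_nil,
    and_true, not_false_eq_true] at h'
  obtain ⟨⟨hab, hac, had⟩, ⟨hbc, hbd⟩, hcd⟩ := h'
  have e1 : dt b c d a = dt a d b c := by
    rw [← dt_swap_right, ← dt_pairs_comm (a := a) (b := d) (c := b) (d := c)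
      (by simp [had, hab, hac, hbc, Ne.symm hbd, Ne.symm hcd])]
  have e2 : dt b d a c = dt a c d b := by
    rw [← dt_pairs_comm (a := a) (b := c) (c := d) (d := b)
      (by simp [hac, had, hab, hcd, Ne.symm hbc, Ne.symm hbd]), dt_swap_left]
  refine ⟨?_, ?_, ?_⟩
  · rw [K4, K4, dt_swap_left a b c d, e1, e2]
    abel
  · rw [K4, K4, dt_swap_right a b c d, dt_swap_right a d b c, dt_swap_right a c d b]
    abel
  · rw [K4, K4]
    abel

theorem M4_le_range (H : FourHyp (k := k) (V := V) (r := r)) {a b e f : Fin r}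
    (h : [a, b, e, f].Nodup) : M4 ρ a b e f ≤ LinearMap.range (K4 ρ a b e f) := by
  intro v hv
  obtain ⟨u, hu⟩ := ρ.exists_lift (cyc b e f)
  obtain ⟨hK, e1, e3, -⟩ := kleinDatum_Ls ρ H h hu
  have hv' : (Ls ρ (dt a b e f) : End k V) v = -v := by
    rw [mem_eig.mp hv, neg_one_smul]
  have h4 : (4 : k) ≠ 0 := by rw [show (4 : k) = 2 * 2 by norm_num]; exact mul_ne_zero H.h2 H.h2
  have hcom := hK.pair.hab
  rw [e1] at hcom
  have hK4 : K4 ρ a b e f v = (4 : k) • v := by
    have hs : (Ls ρ (dt a b e f) : End k V) ((Ls ρ (dt a e f b) : End k V) v) =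
        -(Ls ρ (dt a e f b) : End k V) v := by
      rw [← Module.End.mul_apply, hcom, Module.End.mul_apply, hv', map_neg]
    simp only [K4, ← e3, Units.val_mul, LinearMap.sub_apply, Module.End.mul_apply, hv', hs,
      show (3 : End k V) = 1 + 1 + 1 by norm_num, LinearMap.add_apply, Module.End.one_apply,
      show (4 : k) = 1 + 1 + 1 + 1 by norm_num, add_smul, one_smul]
    abel
  exact ⟨(4 : k)⁻¹ • v, by rw [map_smul, hK4, inv_smul_smul₀ h4]⟩

theorem finrank_M4_le (H : FourHyp (k := k) (V := V) (r := r)) {a b e f : Fin r}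
    (h : [a, b, e, f].Nodup) : finrank k (M4 ρ a b e f) ≤ 2 := by
  obtain ⟨u, hu⟩ := ρ.exists_lift (cyc b e f)
  obtain ⟨hK, e1, e3, hmov⟩ := kleinDatum_Ls ρ H h hu
  obtain ⟨h3, -⟩ := finrank_K4 ρ H h
  have hlt : M4 ρ a b e f < LinearMap.range (K4 ρ a b e f) := by
    refine lt_of_le_of_ne (M4_le_range ρ H h) fun heq => ?_
    have hP : KleinDatum.proj1 u (Ls ρ (dt a b e f)) ≠ 0 := fun hP =>
      dt_ne_one h (PRep.eq_of_lift (hK.eq_one H.h2 hP ▸ (isQ_Ls ρ H h).1) ρ.one)
    have hP2 : cj u (KleinDatum.proj1 u (Ls ρ (dt a b e f))) ≠ 0 := fun h0 => hP (by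
      rw [← hK.cj3_proj1, h0]; simp [cj])
    obtain ⟨x, hx⟩ := not_forall.mp fun hall => hP2 (LinearMap.ext hall)
    rw [LinearMap.zero_apply] at hx
    set z := cj u (KleinDatum.proj1 u (Ls ρ (dt a b e f))) x with hz
    rw [hK.cj_proj1] at hz
    obtain ⟨ha, hb, hab⟩ := hK.pair
    set A : End k V := (Ls ρ (dt a b e f) : End k V) with hA
    set B : End k V := ((u * Ls ρ (dt a b e f) * u⁻¹ : (End k V)ˣ) : End k V) with hB
    have ha' : ∀ x, A * (A * x) = x := fun x => by rw [← mul_assoc, ha, one_mul]
    have hb' : ∀ x, B * (B * x) = x := fun x => by rw [← mul_assoc, hb, one_mul]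
    have hba : ∀ x, B * (A * x) = A * (B * x) := fun x => by rw [← mul_assoc, ← hab, mul_assoc]
    have hfixA : A * ((1 - B) * (1 - A * B)) = (1 - B) * (1 - A * B) := by
      simp only [mul_sub, sub_mul, mul_one, one_mul, mul_assoc, ha', hb', hba, hb, ha]
      abel
    have hKK : (3 - A - B - A * B) * ((1 - B) * (1 - A * B)) = 4 * ((1 - B) * (1 - A * B)) := by
      simp only [mul_sub, sub_mul, mul_one, one_mul, mul_assoc, ha, hb, ← hab, ha', hb', hba,
        show (4 : End k V) = 1 + 1 + 1 + 1 by norm_num, show (3 : End k V) = 1 + 1 + 1 by norm_num,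
        add_mul]
      abel
    have h4 : (4 : k) ≠ 0 := by
      rw [show (4 : k) = 2 * 2 by norm_num]; exact mul_ne_zero H.h2 H.h2
    have hzR : z ∈ LinearMap.range (K4 ρ a b e f) := by
      refine ⟨(4 : k)⁻¹ • z, ?_⟩
      have h5 := congrArg (fun T : End k V => T x) hKK
      simp only [Module.End.mul_apply] at h5
      rw [show (4 : End k V) = algebraMap k (End k V) 4 by rw [map_ofNat],
        Module.algebraMap_end_apply] at h5
      rw [← hmov, map_smul, KleinDatum.moved, hz, Module.End.mul_apply, h5, inv_smul_smul₀ h4]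
    have hAz : A z = z := by
      have h5 := congrArg (fun T : End k V => T x) hfixA
      simp only [Module.End.mul_apply] at h5
      rw [hz, Module.End.mul_apply]
      exact h5
    rw [← heq, M4, mem_eig] at hzR
    change A z = _ at hzR
    rw [hAz, neg_one_smul] at hzR
    have h6 : (2 : k) • z = 0 := by rw [two_smul]; nth_rw 2 [hzR]; exact add_neg_cancel z
    exact hx ((smul_eq_zero.mp h6).resolve_left H.h2)
  have := Submodule.finrank_lt_finrank_of_lt hlt
  omega

theorem four_bound {p : ℕ} [CharP k p] (H : FourHyp (k := k) (V := V) (r := r))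
    (hirr : ρ.Irred) : r - 1 - (if p ∣ r then 1 else 0) ≤ finrank k V := by
  classical
  have hr := H.hr
  have hnd_of : ∀ {l : List (Fin r)}, l.Nodup → ∀ (g : alternatingGroup (Fin r)),
      (l.map (g : Perm (Fin r))).Nodup := fun hl g => hl.map (g : Perm (Fin r)).injective
  have htr : ∀ {m : ℕ} (x y : Fin m → Fin r), Function.Injective x → Function.Injective y →
      m + 2 ≤ r → ∃ g : alternatingGroup (Fin r), ∀ i, (g : Perm (Fin r)) (x i) = y i :=
    fun x y hx hy hm => exists_map x y hx hy hm
  have hinj : ∀ {m : ℕ} {x : Fin m → Fin r}, (List.ofFn x).Nodup → Function.Injective x :=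
    fun h => List.nodup_ofFn.mp h
  have hMmap : ∀ {g : alternatingGroup (Fin r)} {w : (End k V)ˣ}, ρ.Lift g w →
      ∀ {a b e f : Fin r}, [a, b, e, f].Nodup → ∀ v ∈ M4 ρ a b e f,
      (w : End k V) v ∈ M4 ρ ((g : Perm (Fin r)) a) ((g : Perm (Fin r)) b) ((g : Perm (Fin r)) e)
        ((g : Perm (Fin r)) f) := by
    intro g w hw a b e f h v hv
    have h1 := Ls_conj ρ H hw h
    rw [mul_inv_eq_iff_eq_mul] at h1
    have h2 := congrArg (fun z : (End k V)ˣ => (z : End k V) v) h1
    simp only [Units.val_mul, Module.End.mul_apply, mem_eig.mp hv, map_smul] at h2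
    exact mem_eig.mpr h2.symm
  have hinjw : ∀ w : (End k V)ˣ, Function.Injective (w : End k V) := fun w x y hxy => by
    by_contra hne
    exact apply_ne_zero w (sub_ne_zero.mpr hne) (by rw [map_sub, hxy, sub_self])
  have hMdim : ∀ {a b e f a' b' e' f' : Fin r}, [a, b, e, f].Nodup → [a', b', e', f'].Nodup →
      finrank k (M4 ρ a b e f) ≤ finrank k (M4 ρ a' b' e' f') := by
    intro a b e f a' b' e' f' h h'
    obtain ⟨g, hg⟩ := htr ![a, b, e, f] ![a', b', e', f']
      (hinj (by simpa [List.ofFn_succ] using h)) (hinj (by simpa [List.ofFn_succ] using h'))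
      (by omega)
    have g0 : (g : Perm (Fin r)) a = a' := hg 0
    have g1 : (g : Perm (Fin r)) b = b' := hg 1
    have g2 : (g : Perm (Fin r)) e = e' := hg 2
    have g3 : (g : Perm (Fin r)) f = f' := hg 3
    obtain ⟨w, hw⟩ := ρ.exists_lift g
    refine LinearMap.finrank_le_finrank_of_injective
      (f := (w : End k V).restrict (q := M4 ρ a' b' e' f') fun v hv => by
        have := hMmap hw h v hv
        rwa [g0, g1, g2, g3] at this) fun x y hxy => Subtype.ext (hinjw w ?_)
    simpa [LinearMap.restrict_apply] using congrArg Subtype.val hxy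
  -- adjacent moved spaces differ
  have hMne : ∀ a b c d e, [a, b, c, d, e].Nodup → M4 ρ a b c d ≠ M4 ρ a b c e := by
    intro a b c d e h heq
    have hall : ∀ c' d' e', [a, b, c', d', e'].Nodup → M4 ρ a b c' d' = M4 ρ a b c' e' := by
      intro c' d' e' h'
      obtain ⟨g, hg⟩ := htr ![a, b, c, d, e] ![a, b, c', d', e']
        (hinj (by simpa [List.ofFn_succ] using h)) (hinj (by simpa [List.ofFn_succ] using h'))
        (by omega)
      have g0 : (g : Perm (Fin r)) a = a := hg 0
      have g1 : (g : Perm (Fin r)) b = b := hg 1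
      have g2 : (g : Perm (Fin r)) c = c' := hg 2
      have g3 : (g : Perm (Fin r)) d = d' := hg 3
      have g4 : (g : Perm (Fin r)) e = e' := hg 4
      obtain ⟨w, hw⟩ := ρ.exists_lift g
      have hle : ∀ {x y x' y' : Fin r}, [a, b, x, y].Nodup → [a, b, x', y'].Nodup →
          (g : Perm (Fin r)) x = x' → (g : Perm (Fin r)) y = y' →
          (M4 ρ a b x y).map (w : End k V) = M4 ρ a b x' y' := by
        intro x y x' y' hx hx' ex ey
        refine Submodule.eq_of_le_of_finrank_le (Submodule.map_le_iff_le_comap.mpr fun v hv => ?_) ?_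
        · have := hMmap hw hx v hv
          rwa [g0, g1, ex, ey] at this
        · rw [← (Submodule.equivMapOfInjective (w : End k V) (hinjw w) _).finrank_eq]
          exact hMdim hx' hx
      have e1 := hle (h.sublist (by simp)) (h'.sublist (by simp)) g2 g3
      have e2 := hle (h.sublist (by simp)) (h'.sublist (by simp)) g2 g4
      rw [← e1, heq, e2]
    obtain ⟨f, hf⟩ : ∃ f, f ∉ ({a, b, c, d, e} : Finset (Fin r)) := by
      by_contra hcon
      push Not at hcon
      have h1 := Finset.card_le_card (fun x (_ : x ∈ Finset.univ) => hcon x)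
      have h2 : ({a, b, c, d, e} : Finset (Fin r)).card ≤ 5 := Finset.card_le_five
      rw [Finset.card_univ, Fintype.card_fin] at h1
      omega
    simp only [Finset.mem_insert, Finset.mem_singleton, not_or] at hf
    have h' := h
    simp only [List.nodup_cons, List.mem_cons, List.not_mem_nil, not_or, or_false, List.nodup_nil,
      and_true, not_false_eq_true] at h'
    have hn1 : [a, b, c, d].Nodup := h.sublist (by simp)
    have hn2 : [a, b, e, f].Nodup := by
      simp only [List.nodup_cons, List.mem_cons, List.not_mem_nil, not_or, or_false, List.nodup_nil,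
        and_true, not_false_eq_true]
      grind
    have hn3 : [a, b, e, c, f].Nodup := by
      simp only [List.nodup_cons, List.mem_cons, List.not_mem_nil, not_or, or_false, List.nodup_nil,
        and_true, not_false_eq_true]
      grind
    have heq' : M4 ρ a b c d = M4 ρ a b e f := by
      rw [hall c d e h, ← hall e c f hn3]
      rw [M4, M4, dt_swap_right a b c e]
    have hcomm : Commute (dt a b c d) (dt a b e f) := by
      rw [commute_iff_eq, ← mul_inv_eq_iff_eq_mul, dt_conj]
      obtain ⟨q1, q2, q3, q4, q5⟩ := dt_apply hn1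
      rw [q1, q2, q5 e (by tauto) (by tauto) (by tauto) (by tauto), q5 f hf.1 hf.2.1 hf.2.2.1
        hf.2.2.2.1, dt_swap_left]
    have hC := Ls_commute ρ H hn1 hn2 hcomm
    obtain ⟨u1, hu1⟩ := ρ.exists_lift (cyc b c d)
    obtain ⟨u2, hu2⟩ := ρ.exists_lift (cyc b e f)
    have ha := (kleinDatum_Ls ρ H hn1 hu1).1.pair.ha
    have hb := (kleinDatum_Ls ρ H hn2 hu2).1.pair.ha
    set A : End k V := (Ls ρ (dt a b c d) : End k V) with hA
    set B : End k V := (Ls ρ (dt a b e f) : End k V) with hB
    have hAB : A * B = B * A := by rw [hA, hB, ← Units.val_mul, hC.eq, Units.val_mul]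
    have hkey : ∀ v, A v = B v := by
      intro v
      have hp : B (v + A v) - (v + A v) ∈ eig B (-1) := by
        rw [mem_eig, map_sub, ← Module.End.mul_apply, hb, Module.End.one_apply, neg_one_smul]
        abel
      have hm : v - A v ∈ eig A (-1) := by
        rw [mem_eig, map_sub, ← Module.End.mul_apply, ha, Module.End.one_apply, neg_one_smul]
        abel
      have hp' : A (B (v + A v) - (v + A v)) = B (v + A v) - (v + A v) := by
        have h1 : A (v + A v) = v + A v := by
          rw [map_add, ← Module.End.mul_apply, ha, Module.End.one_apply, add_comm]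
        rw [map_sub, ← Module.End.mul_apply, hAB, Module.End.mul_apply, h1]
      change M4 ρ a b c d = _ at heq'
      have hpA : B (v + A v) - (v + A v) ∈ eig A (-1) := by
        have : eig B (-1 : k) = eig A (-1) := heq'.symm
        rw [← this]; exact hp
      rw [mem_eig, hp', neg_one_smul] at hpA
      have h0 : B (v + A v) - (v + A v) = 0 := by
        have h2' : (2 : k) • (B (v + A v) - (v + A v)) = 0 := by
          rw [two_smul]; nth_rw 2 [hpA]; exact add_neg_cancel _
        exact (smul_eq_zero.mp h2').resolve_left H.h2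
      have hmB : v - A v ∈ eig B (-1) := by
        have : eig B (-1 : k) = eig A (-1) := heq'.symm
        rw [this]; exact hm
      rw [mem_eig, map_sub, neg_one_smul] at hmB
      rw [map_add] at h0
      have h3 : (2 : k) • (B v - A v) = 0 := by
        rw [two_smul, show B v - A v + (B v - A v) = (B v + B (A v) - (v + A v)) +
          (B v - B (A v) - -(v - A v)) by abel, h0, hmB, sub_self, add_zero]
      exact (sub_eq_zero.mp ((smul_eq_zero.mp h3).resolve_left H.h2)).symm
    have hunit : Ls ρ (dt a b c d) = Ls ρ (dt a b e f) := Units.ext (LinearMap.ext hkey)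
    have hq := PRep.eq_of_lift (isQ_Ls ρ H hn1).1 (hunit ▸ (isQ_Ls ρ H hn2).1)
    have := congrArg (fun q : alternatingGroup (Fin r) => (q : Perm (Fin r)) e) hq
    simp only [(dt_apply hn2).2.2.1,
      (dt_apply hn1).2.2.2.2 e (by tauto) (by tauto) (by tauto) (by tauto)] at this
    exact hf.2.2.2.2 this.symm
  -- the candidate vectors
  have hvec : ∀ a b g h, [a, b, g, h].Nodup → ∃ v : V, v ≠ 0 ∧
      ∀ e f, [a, b, g, h, e, f].Nodup → v ∈ M4 ρ a b e f := by
    intro a b g h hq
    obtain ⟨e0, f0, h6⟩ : ∃ e f, [a, b, g, h, e, f].Nodup := by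
      have h1 : 1 < (Finset.univ \ ({a, b, g, h} : Finset (Fin r))).card := by
        have h2 : ({a, b, g, h} : Finset (Fin r)).card ≤ 4 := Finset.card_le_four
        rw [Finset.card_univ_sdiff, Fintype.card_fin]; omega
      obtain ⟨e, he, f, hf, hef⟩ := Finset.one_lt_card.mp h1
      simp only [Finset.mem_sdiff, Finset.mem_univ, Finset.mem_insert, Finset.mem_singleton, not_or,
        true_and] at he hf
      refine ⟨e, f, ?_⟩
      simp only [List.nodup_cons, List.mem_cons, List.not_mem_nil, not_or, or_false, List.nodup_nil,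
        and_true, not_false_eq_true] at hq ⊢
      grind
    obtain ⟨u, hu⟩ := ρ.exists_lift (cyc b g h)
    obtain ⟨hK, e1, e3, hmov⟩ := kleinDatum_Ls ρ H hq hu
    have hP : KleinDatum.proj1 u (Ls ρ (dt a b g h)) ≠ 0 := fun hP =>
      dt_ne_one hq (PRep.eq_of_lift (hK.eq_one H.h2 hP ▸ (isQ_Ls ρ H hq).1) ρ.one)
    obtain ⟨x, hx⟩ := not_forall.mp fun hall => hP (LinearMap.ext hall)
    rw [LinearMap.zero_apply] at hx
    set z := KleinDatum.proj1 u (Ls ρ (dt a b g h)) x with hz
    obtain ⟨ha, hb, hab⟩ := hK.pair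
    rw [e1] at hb hab
    set A : End k V := (Ls ρ (dt a b g h) : End k V) with hA
    set B : End k V := (Ls ρ (dt a g h b) : End k V) with hB
    have hz' : z = ((1 - A) * (1 - B)) x := by rw [hz, KleinDatum.proj1, e1]
    have ha' : ∀ v, A (A v) = v := fun v => by
      rw [← Module.End.mul_apply, ha, Module.End.one_apply]
    have hb' : ∀ v, B (B v) = v := fun v => by
      rw [← Module.End.mul_apply, hb, Module.End.one_apply]
    have hba : ∀ v, B (A v) = A (B v) := fun v => by
      rw [← Module.End.mul_apply, ← hab, Module.End.mul_apply]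
    have hAz : A z = -z := by
      simp only [hz', Module.End.mul_apply, LinearMap.sub_apply, Module.End.one_apply, map_sub, ha']
      abel
    have hBz : B z = -z := by
      simp only [hz', Module.End.mul_apply, LinearMap.sub_apply, Module.End.one_apply, map_sub, hb',
        hba]
      abel
    have h4 : (4 : k) ≠ 0 := by rw [show (4 : k) = 2 * 2 by norm_num]; exact mul_ne_zero H.h2 H.h2
    have hzR : z ∈ LinearMap.range (K4 ρ a b g h) := by
      refine ⟨(4 : k)⁻¹ • z, ?_⟩
      rw [map_smul, inv_smul_eq_iff₀ h4]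
      simp only [K4, ← e3, Units.val_mul, LinearMap.sub_apply, Module.End.mul_apply, ← hA, ← hB,
        hAz, hBz, map_neg, show (3 : End k V) = 1 + 1 + 1 by norm_num, LinearMap.add_apply,
        Module.End.one_apply, show (4 : k) = 1 + 1 + 1 + 1 by norm_num, add_smul, one_smul]
      abel
    have hsub : ∀ {e f : Fin r}, [a, b, g, h, e, f].Nodup →
        [a, b, e, f].Nodup := fun h' => h'.sublist (by simp)
    set w := Ls ρ (dt a b e0 f0) with hw
    have hLw : ρ.Lift (dt a b e0 f0) w := (isQ_Ls ρ H (hsub h6)).1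
    obtain ⟨q1, q2, q3, q4, q5⟩ := dt_apply (hsub h6)
    have h6' := h6
    simp only [List.nodup_cons, List.mem_cons, List.not_mem_nil, not_or, or_false, List.nodup_nil,
      and_true, not_false_eq_true] at h6'
    have hg' : (dt a b e0 f0 : Perm (Fin r)) g = g := q5 g (by tauto) (by tauto) (by tauto) (by tauto)
    have hh' : (dt a b e0 f0 : Perm (Fin r)) h = h := q5 h (by tauto) (by tauto) (by tauto) (by tauto)
    have hwR : (w : End k V) z ∈ LinearMap.range (K4 ρ a b g h) := by
      obtain ⟨y, hy⟩ := hzR
      have hmap := K4_map ρ H hLw hq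
      rw [q1, q2, hg', hh', (K4_swap ρ hq).1] at hmap
      refine ⟨(w : End k V) y, ?_⟩
      rw [← hy]
      conv_lhs => rw [← hmap]
      simp only [cj, Module.End.mul_apply]
      rw [← Module.End.mul_apply (↑w⁻¹ : End k V), Units.inv_mul, Module.End.one_apply]
    have hne : z - (w : End k V) z ≠ 0 := by
      intro h0
      rw [sub_eq_zero] at h0
      have hq2 : [a, g, h, b].Nodup := by
        simp only [List.nodup_cons, List.mem_cons, List.not_mem_nil, not_or, or_false,
          List.nodup_nil, and_true, not_false_eq_true]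
        grind
      have hc := Ls_conj ρ H hLw hq2
      rw [q1, hg', hh', q2, mul_inv_eq_iff_eq_mul] at hc
      have hq3 : dt b g h a = dt a h b g := by
        rw [← dt_swap_right, ← dt_pairs_comm (a := a) (b := h) (c := b) (d := g)
          (by simp only [List.nodup_cons, List.mem_cons, List.not_mem_nil, not_or, or_false,
                List.nodup_nil, and_true, not_false_eq_true]
              grind), dt_swap_right]
      rw [hq3] at hc
      have hc' := congrArg (fun y : (End k V)ˣ => (y : End k V) z) hc
      simp only [Units.val_mul, Module.End.mul_apply, ← hB, hBz, map_neg, ← h0, ← e3, ← hA, hAz,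
        neg_neg] at hc'
      have h2' : (2 : k) • z = 0 := by rw [two_smul]; nth_rw 1 [← hc']; exact neg_add_cancel z
      exact hx ((smul_eq_zero.mp h2').resolve_left H.h2)
    refine ⟨z - (w : End k V) z, hne, fun e f hef => ?_⟩
    obtain ⟨τ, hτ⟩ := htr ![a, b, g, h, e0, f0] ![a, b, g, h, e, f]
      (hinj (by simpa [List.ofFn_succ] using h6)) (hinj (by simpa [List.ofFn_succ] using hef))
      (by omega)
    have t0 : (τ : Perm (Fin r)) a = a := hτ 0
    have t1 : (τ : Perm (Fin r)) b = b := hτ 1
    have t2 : (τ : Perm (Fin r)) g = g := hτ 2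
    have t3 : (τ : Perm (Fin r)) h = h := hτ 3
    have t4 : (τ : Perm (Fin r)) e0 = e := hτ 4
    have t5 : (τ : Perm (Fin r)) f0 = f := hτ 5
    obtain ⟨v', hv'⟩ := ρ.exists_lift τ
    obtain ⟨c, hc⟩ := four_actsScalar ρ H hq (g := τ) (fun i hi => by
      simp only [Finset.mem_insert, Finset.mem_singleton] at hi
      rcases hi with rfl | rfl | rfl | rfl
      · exact t0
      · exact t1
      · exact t2
      · exact t3) v' hv'
    have hconj := Ls_conj ρ H hv' (hsub h6)
    rw [t0, t1, t4, t5, mul_inv_eq_iff_eq_mul] at hconj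
    have hc' := congrArg (fun y : (End k V)ˣ => (y : End k V) z) hconj
    simp only [Units.val_mul, Module.End.mul_apply, hc _ hwR, hc _ hzR, map_smul, ← hw] at hc'
    have hc0 : c ≠ 0 := by
      rintro rfl
      exact apply_ne_zero v' hx (by rw [hc z hzR, zero_smul])
    have hwz : (Ls ρ (dt a b e f) : End k V) z = (w : End k V) z :=
      (smul_right_injective V hc0 hc').symm
    obtain ⟨u2, hu2⟩ := ρ.exists_lift (cyc b e f)
    have hsq := (kleinDatum_Ls ρ H (hsub hef) hu2).1.pair.ha
    have hsz : (Ls ρ (dt a b e f) : End k V) ((w : End k V) z) = z := by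
      rw [← hwz, ← Module.End.mul_apply (Ls ρ (dt a b e f) : End k V), hsq, Module.End.one_apply]
    rw [M4, mem_eig, map_sub, neg_one_smul, hwz, hsz, neg_sub]
  let L : Fin r → Fin r → Submodule k V := fun a b =>
    ⨅ (e) (f) (_ : [a, b, e, f].Nodup), M4 ρ a b e f
  have hLle : ∀ a b e f, [a, b, e, f].Nodup → L a b ≤ M4 ρ a b e f := fun a b e f h =>
    iInf_le_of_le e (iInf_le_of_le f (iInf_le_of_le h le_rfl))
  have hfresh : ∀ S : Finset (Fin r), S.card + 2 ≤ r → ∃ x y, x ≠ y ∧ x ∉ S ∧ y ∉ S := by
    intro S hS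
    have h1 : 1 < (Finset.univ \ S).card := by
      rw [Finset.card_univ_sdiff, Fintype.card_fin]; omega
    obtain ⟨x, hx, y, hy, hxy⟩ := Finset.one_lt_card.mp h1
    exact ⟨x, y, hxy, (Finset.mem_sdiff.mp hx).2, (Finset.mem_sdiff.mp hy).2⟩
  have hLdim : ∀ a b, a ≠ b → finrank k (L a b) = 1 := by
    intro a b hab
    obtain ⟨g, h, hgh, hg, hh⟩ := hfresh {a, b} (by rw [Finset.card_pair hab]; omega)
    simp only [Finset.mem_insert, Finset.mem_singleton, not_or] at hg hh
    have hq : [a, b, g, h].Nodup := by
      simp [hab, hgh, Ne.symm hg.1, Ne.symm hg.2, Ne.symm hh.1, Ne.symm hh.2]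
    obtain ⟨v, hv0, hv⟩ := hvec a b g h hq
    have hmem : v ∈ L a b := by
      simp only [L, Submodule.mem_iInf]
      intro e f hef
      obtain ⟨g', h', hgh', hg', hh'⟩ := hfresh {a, b, e, f, g, h} (by
        have : ({a, b, e, f, g, h} : Finset (Fin r)).card ≤ 6 := Finset.card_le_six
        omega)
      simp only [Finset.mem_insert, Finset.mem_singleton, not_or] at hg' hh'
      obtain ⟨c, d, hcd, hc, hd⟩ := hfresh {a, b, g, h, g', h'} (by
        have : ({a, b, g, h, g', h'} : Finset (Fin r)).card ≤ 6 := Finset.card_le_six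
        omega)
      obtain ⟨x, hx⟩ : ∃ x, x ∉ ({a, b, g, h, g', h', c, d} : Finset (Fin r)) := by
        by_contra hcon
        push Not at hcon
        have h1 := Finset.card_le_card (fun x (_ : x ∈ Finset.univ) => hcon x)
        have h2 : ({a, b, g, h, g', h', c, d} : Finset (Fin r)).card ≤ 9 := by
          refine (Finset.card_insert_le _ _).trans ?_
          refine Nat.succ_le_succ ((Finset.card_insert_le _ _).trans ?_)
          exact Nat.succ_le_succ (Finset.card_le_six.trans (by norm_num))
        rw [Finset.card_univ, Fintype.card_fin] at h1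
        omega
      simp only [Finset.mem_insert, Finset.mem_singleton, not_or] at hc hd hx
      simp only [List.nodup_cons, List.mem_cons, List.not_mem_nil, not_or, or_false, List.nodup_nil,
        and_true, not_false_eq_true] at hef
      obtain ⟨v', hv0', hv'⟩ := hvec a b g' h' (by
        simp only [List.nodup_cons, List.mem_cons, List.not_mem_nil, not_or, or_false,
          List.nodup_nil, and_true, not_false_eq_true]
        grind)
      have hn5 : [a, b, c, d, x].Nodup := by
        simp only [List.nodup_cons, List.mem_cons, List.not_mem_nil, not_or, or_false,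
          List.nodup_nil, and_true, not_false_eq_true]
        grind
      have h6 : ∀ {p q i j : Fin r}, [a, b, p, q].Nodup → i ≠ j → i ≠ a ∧ i ≠ b ∧ i ≠ p ∧ i ≠ q →
          j ≠ a ∧ j ≠ b ∧ j ≠ p ∧ j ≠ q → [a, b, p, q, i, j].Nodup := by
        intro p q i j h1 h2 h3 h4
        simp only [List.nodup_cons, List.mem_cons, List.not_mem_nil, not_or, or_false,
          List.nodup_nil, and_true, not_false_eq_true] at h1 ⊢
        grind
      set U := M4 ρ a b c d ⊓ M4 ρ a b c x
      have hvU : v ∈ U := ⟨hv c d (h6 hq hcd (by grind) (by grind)),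
        hv c x (h6 hq (by grind) (by grind) (by grind))⟩
      have hq' : [a, b, g', h'].Nodup := by
        simp only [List.nodup_cons, List.mem_cons, List.not_mem_nil, not_or, or_false,
          List.nodup_nil, and_true, not_false_eq_true]
        grind
      have hvU' : v' ∈ U := ⟨hv' c d (h6 hq' hcd (by grind) (by grind)),
        hv' c x (h6 hq' (by grind) (by grind) (by grind))⟩
      have hU : finrank k U ≤ 1 := by
        have h1 := finrank_M4_le ρ H (hn5.sublist (by simp : [a, b, c, d].Sublist _))
        have hlt : U < M4 ρ a b c d := lt_of_le_of_ne inf_le_left fun he =>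
          hMne a b c d x hn5 (Submodule.eq_of_le_of_finrank_le (inf_eq_left.mp he)
            (hMdim (hn5.sublist (by simp)) (hn5.sublist (by simp))))
        have := Submodule.finrank_lt_finrank_of_lt hlt
        omega
      have hspan : (k ∙ v') = U := Submodule.eq_of_le_of_finrank_le
        ((Submodule.span_singleton_le_iff_mem _ _).mpr hvU')
        (by rw [finrank_span_singleton hv0']; exact hU)
      rw [← hspan] at hvU
      obtain ⟨l, rfl⟩ := Submodule.mem_span_singleton.mp hvU
      exact Submodule.smul_mem _ _ (hv' e f (h6 hq' (by tauto) (by grind) (by grind)))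
    refine le_antisymm ?_ (Submodule.one_le_finrank_iff.mpr fun hbot => hv0 (by
      rw [hbot, Submodule.mem_bot] at hmem; exact hmem))
    obtain ⟨c, d, hcd, hc, hd⟩ := hfresh {a, b} (by rw [Finset.card_pair hab]; omega)
    obtain ⟨x, y, hxy, hx, -⟩ := hfresh {a, b, c, d} (by
      have : ({a, b, c, d} : Finset (Fin r)).card ≤ 4 := Finset.card_le_four
      omega)
    simp only [Finset.mem_insert, Finset.mem_singleton, not_or] at hc hd hx
    have hn5 : [a, b, c, d, x].Nodup := by
      simp only [List.nodup_cons, List.mem_cons, List.not_mem_nil, not_or, or_false,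
        List.nodup_nil, and_true, not_false_eq_true]
      grind
    have hle : L a b ≤ M4 ρ a b c d ⊓ M4 ρ a b c x :=
      le_inf (hLle _ _ _ _ (hn5.sublist (by simp))) (hLle _ _ _ _ (hn5.sublist (by simp)))
    have h1 := finrank_M4_le ρ H (hn5.sublist (by simp : [a, b, c, d].Sublist _))
    have hlt : M4 ρ a b c d ⊓ M4 ρ a b c x < M4 ρ a b c d := lt_of_le_of_ne inf_le_left fun he =>
      hMne a b c d x hn5 (Submodule.eq_of_le_of_finrank_le (inf_eq_left.mp he)
        (hMdim (hn5.sublist (by simp)) (hn5.sublist (by simp))))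
    have := Submodule.finrank_lt_finrank_of_lt hlt
    have := Submodule.finrank_mono hle
    omega
  -- adjacent quadruples have different spaces
  have hRne : ∀ a b c d e, [a, b, c, d, e].Nodup →
      LinearMap.range (K4 ρ a b c d) ≠ LinearMap.range (K4 ρ a b c e) := by
    intro a b c d e h heq
    have hall : ∀ a' b' c' d' e', [a', b', c', d', e'].Nodup →
        LinearMap.range (K4 ρ a' b' c' d') = LinearMap.range (K4 ρ a' b' c' e') := by
      intro a' b' c' d' e' h'
      obtain ⟨g, hg⟩ := htr ![a, b, c, d, e] ![a', b', c', d', e']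
        (hinj (by simpa [List.ofFn_succ] using h)) (hinj (by simpa [List.ofFn_succ] using h'))
        (by omega)
      have g0 : (g : Perm (Fin r)) a = a' := hg 0
      have g1 : (g : Perm (Fin r)) b = b' := hg 1
      have g2 : (g : Perm (Fin r)) c = c' := hg 2
      have g3 : (g : Perm (Fin r)) d = d' := hg 3
      have g4 : (g : Perm (Fin r)) e = e' := hg 4
      obtain ⟨w, hw⟩ := ρ.exists_lift g
      have e1 := K4_map ρ H hw (h.sublist (by simp : [a, b, c, d].Sublist _))
      have e2 := K4_map ρ H hw (h.sublist (by simp : [a, b, c, e].Sublist _))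
      rw [g0, g1, g2, g3] at e1
      rw [g0, g1, g2, g4] at e2
      have hr' : ∀ T : End k V, LinearMap.range (cj w T) = (LinearMap.range T).map (w : End k V) := by
        intro T
        ext v
        constructor
        · rintro ⟨y, rfl⟩
          exact ⟨_, ⟨(↑w⁻¹ : End k V) y, rfl⟩, rfl⟩
        · rintro ⟨_, ⟨y, rfl⟩, rfl⟩
          refine ⟨(w : End k V) y, ?_⟩
          simp only [cj, Module.End.mul_apply]
          rw [← Module.End.mul_apply (↑w⁻¹ : End k V), Units.inv_mul, Module.End.one_apply]
      rw [← e1, ← e2, hr', hr', heq]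
    obtain ⟨q⟩ := Function.Embedding.nonempty_of_card_le (α := Fin 8) (β := Fin r)
      (by simp; omega)
    have hnd : ∀ l : List (Fin 8), l.Nodup → (l.map q).Nodup := fun l hl => hl.map q.injective
    have hperm : ∀ {a b c d : Fin r}, [a, b, c, d].Nodup →
        K4 ρ b c d a = K4 ρ a b c d := by
      intro a b c d h
      rw [(K4_swap ρ (a := a) (b := b) (c := c) (d := d) h).2.2.symm]
      have h2 : [a, c, d, b].Nodup := by
        simp only [List.nodup_cons, List.mem_cons, List.not_mem_nil, not_or, or_false,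
          List.nodup_nil, and_true, not_false_eq_true] at h ⊢
        grind
      have h3 : [b, a, c, d].Nodup := by
        simp only [List.nodup_cons, List.mem_cons, List.not_mem_nil, not_or, or_false,
          List.nodup_nil, and_true, not_false_eq_true] at h ⊢
        grind
      rw [(K4_swap ρ h).2.2, ← (K4_swap ρ h).1, (K4_swap ρ h3).2.2]
    have s1 := hall (q 0) (q 1) (q 2) (q 3) (q 4) (hnd [0, 1, 2, 3, 4] (by decide))
    have s2 := hall (q 4) (q 0) (q 1) (q 2) (q 5) (hnd [4, 0, 1, 2, 5] (by decide))
    have s3 := hall (q 5) (q 4) (q 0) (q 1) (q 6) (hnd [5, 4, 0, 1, 6] (by decide))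
    have s4 := hall (q 6) (q 5) (q 4) (q 0) (q 7) (hnd [6, 5, 4, 0, 7] (by decide))
    rw [hperm (hnd [4, 0, 1, 2] (by decide))] at s1
    rw [hperm (hnd [5, 4, 0, 1] (by decide))] at s2
    rw [hperm (hnd [6, 5, 4, 0] (by decide))] at s3
    have hfin : LinearMap.range (K4 ρ (q 0) (q 1) (q 2) (q 3)) =
        LinearMap.range (K4 ρ (q 6) (q 5) (q 4) (q 7)) := by
      rw [s1, s2, s3, s4]
    have hq : [q 0, q 1, q 2, q 3].Nodup := hnd [0, 1, 2, 3] (by decide)
    have h8 : [q 0, q 1, q 2, q 3, q 6, q 5, q 4, q 7].Nodup :=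
      hnd [0, 1, 2, 3, 6, 5, 4, 7] (by decide)
    have hzero : ∀ v ∈ LinearMap.range (K4 ρ (q 6) (q 5) (q 4) (q 7)), v = 0 := by
      intro v hv
      obtain ⟨y, hy⟩ := hfin ▸ hv
      have hs := Ls_fix_range ρ H h8 hv
      obtain ⟨u, hu⟩ := ρ.exists_lift (cyc (q 1) (q 2) (q 3))
      obtain ⟨hK, e1, e3, hmov⟩ := kleinDatum_Ls ρ H hq hu
      have hn8 : [q 0, q 2, q 3, q 1, q 6, q 5, q 4, q 7].Nodup :=
        hnd [0, 2, 3, 1, 6, 5, 4, 7] (by decide)
      have hs2 := Ls_fix_range ρ H hn8 hv
      have h0 := K4_apply_of_fixed ρ H hq hs hs2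
      obtain ⟨ha, hb, hab⟩ := hK.pair
      have hKK : K4 ρ (q 0) (q 1) (q 2) (q 3) * K4 ρ (q 0) (q 1) (q 2) (q 3) =
          4 * K4 ρ (q 0) (q 1) (q 2) (q 3) := by
        rw [← hmov, KleinDatum.moved]
        set A : End k V := (Ls ρ (dt (q 0) (q 1) (q 2) (q 3)) : End k V)
        set B : End k V :=
          ((u * Ls ρ (dt (q 0) (q 1) (q 2) (q 3)) * u⁻¹ : (End k V)ˣ) : End k V)
        have ha' : ∀ x, A * (A * x) = x := fun x => by rw [← mul_assoc, ha, one_mul]
        have hb' : ∀ x, B * (B * x) = x := fun x => by rw [← mul_assoc, hb, one_mul]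
        have hba : ∀ x, B * (A * x) = A * (B * x) := fun x => by
          rw [← mul_assoc, ← hab, mul_assoc]
        simp only [mul_sub, sub_mul, mul_add, add_mul, mul_one, one_mul, mul_assoc, ha, hb, ← hab,
          ha', hb', hba, show (4 : End k V) = 1 + 1 + 1 + 1 by norm_num,
          show (3 : End k V) = 1 + 1 + 1 by norm_num]
        abel
      have h5 := congrArg (fun T : End k V => T y) hKK
      simp only [Module.End.mul_apply, hy, h0] at h5
      rw [show (4 : End k V) = algebraMap k (End k V) 4 by rw [map_ofNat],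
        Module.algebraMap_end_apply] at h5
      exact (smul_eq_zero.mp h5.symm).resolve_left
        (by rw [show (4 : k) = 2 * 2 by norm_num]; exact mul_ne_zero H.h2 H.h2)
    have h3 := (finrank_K4 ρ H (hnd [6, 5, 4, 7] (by decide) : [q 6, q 5, q 4, q 7].Nodup)).1
    rw [(Submodule.eq_bot_iff _).mpr hzero, finrank_bot] at h3
    omega
  obtain ⟨i0, hi0⟩ : ∃ q : Fin 4 ↪ Fin r, True :=
    ⟨(Function.Embedding.nonempty_of_card_le (by simp; omega)).some, trivial⟩
  have hn6 := (finrank_K4 ρ H (nodup_of_emb i0)).2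
  refine heart (p := p) (by omega) ρ hirr (by omega) L (fun a b hab => ?_) hLdim
    (fun g w hw a b hab v hv => ?_) (fun a b c hab hac hbc => ?_)
  · have key : ∀ a b, L a b ≤ L b a := fun a b => by
      simp only [L, le_iInf_iff]
      intro e f hef
      have h' : [a, b, e, f].Nodup := by
        simp only [List.nodup_cons, List.mem_cons, List.not_mem_nil, not_or, or_false,
          List.nodup_nil, and_true, not_false_eq_true] at hef ⊢
        grind
      refine (hLle a b e f h').trans (le_of_eq ?_)
      rw [M4, M4, dt_swap_left a b e f]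
    exact le_antisymm (key a b) (key b a)
  · simp only [L, Submodule.mem_iInf]
    intro e f hef
    set σ : Perm (Fin r) := (g : Perm (Fin r))
    have hn : [a, b, σ⁻¹ e, σ⁻¹ f].Nodup := by
      have := hef.map (σ⁻¹ : Perm (Fin r)).injective
      simpa [σ] using this
    have := hMmap hw hn v (hLle _ _ _ _ hn hv)
    simpa [σ] using this
  · obtain ⟨d, e, hde, hd, he⟩ := hfresh {a, b, c} (by
      have : ({a, b, c} : Finset (Fin r)).card ≤ 3 := Finset.card_le_three
      omega)
    simp only [Finset.mem_insert, Finset.mem_singleton, not_or] at hd he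
    have hn5 : [a, b, c, d, e].Nodup := by
      simp [hab, hac, hbc, hde, Ne.symm hd.1, Ne.symm hd.2.1, Ne.symm hd.2.2, Ne.symm he.1,
        Ne.symm he.2.1, Ne.symm he.2.2]
    have hle : ∀ x, [a, b, c, x].Nodup → L a b ⊔ L a c ⊔ L b c ≤
        LinearMap.range (K4 ρ a b c x) := by
      intro x hx
      have hx1 : [a, c, b, x].Nodup := by
        simp only [List.nodup_cons, List.mem_cons, List.not_mem_nil, not_or, or_false,
          List.nodup_nil, and_true, not_false_eq_true] at hx ⊢
        grind
      have hx2 : [b, c, a, x].Nodup := by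
        simp only [List.nodup_cons, List.mem_cons, List.not_mem_nil, not_or, or_false,
          List.nodup_nil, and_true, not_false_eq_true] at hx ⊢
        grind
      have hx3 : [a, b, x, c].Nodup := by
        simp only [List.nodup_cons, List.mem_cons, List.not_mem_nil, not_or, or_false,
          List.nodup_nil, and_true, not_false_eq_true] at hx ⊢
        grind
      have hx4 : [b, a, c, x].Nodup := by
        simp only [List.nodup_cons, List.mem_cons, List.not_mem_nil, not_or, or_false,
          List.nodup_nil, and_true, not_false_eq_true] at hx ⊢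
        grind
      have e1 : K4 ρ a c b x = K4 ρ a b c x :=
        (K4_swap ρ hx1).2.1.symm.trans (K4_swap ρ hx).2.2
      have e2 : K4 ρ b c a x = K4 ρ a b c x :=
        (K4_swap ρ hx2).2.1.symm.trans ((K4_swap ρ hx4).2.2.trans (K4_swap ρ hx).1)
      refine sup_le (sup_le ?_ ?_) ?_
      · exact (hLle a b c x hx).trans (M4_le_range ρ H hx)
      · rw [← e1]; exact (hLle a c b x hx1).trans (M4_le_range ρ H hx1)
      · rw [← e2]; exact (hLle b c a x hx2).trans (M4_le_range ρ H hx2)
    have hd' : [a, b, c, d].Nodup := hn5.sublist (by simp)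
    have he' : [a, b, c, e].Nodup := hn5.sublist (by simp)
    have hlt : LinearMap.range (K4 ρ a b c d) ⊓ LinearMap.range (K4 ρ a b c e) <
        LinearMap.range (K4 ρ a b c d) := lt_of_le_of_ne inf_le_left fun h =>
      hRne a b c d e hn5 (Submodule.eq_of_le_of_finrank_eq (inf_eq_left.mp h)
        (by rw [(finrank_K4 ρ H hd').1, (finrank_K4 ρ H he').1]))
    have h1 := Submodule.finrank_lt_finrank_of_lt hlt
    have h2 := Submodule.finrank_mono (le_inf (hle d hd') (hle e he'))
    have h3 := (finrank_K4 ρ H hd').1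
    omega

end CfsgLib.Perm.AltSection
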