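import Mathlib
import Cfsg.Agent.Lib.Perm.AltSection.Five
import Cfsg.Agent.Lib.Perm.AltSection.Heart
import Cfsg.Agent.Lib.Perm.AltSection.Klein
import Cfsg.Agent.Lib.Perm.AltSection.Dt

/-!
Nine letters in characteristic three.
-/

set_option autoImplicit false

namespace CfsgLib.Perm.AltSection

open Module Equiv

variable {k V : Type*} [Field k] [AddCommGroup V] [Module k V] [Nontrivial V] [IsAlgClosed k]
  [FiniteDimensional k V] {r : ℕ} (ρ : PRep k V (alternatingGroup (Fin r)))

omit [Nontrivial V] [IsAlgClosed k] [FiniteDimensional k V] in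
theorem scalar_of_commute {u T : (End k V)ˣ} (h : Commute u T) {c : k}
    (hline : finrank k (eig (T : End k V) c) = 1) {v : V} (hv : v ∈ eig (T : End k V) c)
    (hv0 : v ≠ 0) : ∃ l : k, (u : End k V) v = l • v := by
  haveI := Module.finite_of_finrank_pos (M := eig (T : End k V) c) (R := k) (by omega)
  have hspan : (k ∙ v) = eig (T : End k V) c :=
    Submodule.eq_of_le_of_finrank_eq ((Submodule.span_singleton_le_iff_mem _ _).mpr hv)
      (by rw [finrank_span_singleton hv0, hline])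
  have h2 := congrArg (fun z : (End k V)ˣ => (z : End k V) v) h.eq
  simp only [Units.val_mul, Module.End.mul_apply, mem_eig.mp hv, map_smul] at h2
  have hmem : (u : End k V) v ∈ eig (T : End k V) c := mem_eig.mpr h2.symm
  rw [← hspan] at hmem
  obtain ⟨l, hl⟩ := Submodule.mem_span_singleton.mp hmem
  exact ⟨l, hl.symm⟩

/-- No representation of degree at most six on nine letters in characteristic three. -/
theorem not_nine [CharP k 3] (ρ : PRep k V (alternatingGroup (Fin r))) (hr : r = 9)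
    (hn : finrank k V ≤ 6) : False := by
  subst hr
  have h5 : ((5 : ℕ) : k) ≠ 0 := fun h => by
    have := (CharP.cast_eq_zero_iff k 3 5).mp h
    omega
  have h2 : (2 : k) ≠ 0 := fun h => by
    have := (CharP.cast_eq_zero_iff k 3 2).mp (by exact_mod_cast h)
    omega
  obtain ⟨ζ, hζ⟩ := exists_primitive (k := k) (by norm_num : 0 < 5) h5
  have hc : CycCond 5 9 := cycCond_five (by norm_num)
  let y : ZMod 5 ↪ Fin 9 := (Fin.castLEEmb (by norm_num : 5 ≤ 9) : Fin 5 ↪ Fin 9)
  obtain ⟨μ, hμ, hdim, heig⟩ := exists_range_dim ρ hc hζ h5 y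
  have hμ1 : μ = 1 := by
    have := Submodule.finrank_le (LinearMap.range ((Lr ρ y : End k V) - 1))
    rw [hdim] at this
    omega
  subst hμ1
  have hnd : [(5 : Fin 9), 6, 7, 8].Nodup := by decide
  obtain ⟨hconj, -, hrel, hx3⟩ := dt_klein hnd
  have hfix : ∀ g : alternatingGroup (Fin 9),
      (∀ i : Fin 9, i.val < 5 → (g : Perm (Fin 9)) i = i) → ρ.Com g (rot y 1) := by
    intro g hg
    refine com_rot ρ hc y (commute_of_fixes hc.odd y fun i hi => ?_)
    obtain ⟨x, -, rfl⟩ := Finset.mem_image.mp hi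
    exact hg _ (x : Fin 5).isLt
  obtain ⟨u, hu⟩ := ρ.exists_lift (cyc (6 : Fin 9) 7 8)
  obtain ⟨s0, hs0⟩ := ρ.exists_lift (dt (5 : Fin 9) 6 7 8)
  have hlt : ∀ i : Fin 9, i.val < 5 → i ≠ 5 ∧ i ≠ 6 ∧ i ≠ 7 ∧ i ≠ 8 := by decide
  have hcu : Commute u (Lr ρ y) :=
    hfix _ (fun i hi => (cyc_apply (by decide) (by decide) (by decide)).2.2.2 i (hlt i hi).2.1
      (hlt i hi).2.2.1 (hlt i hi).2.2.2) _ _ hu (norm_Lr ρ hc y).1
  have hcs : Commute s0 (Lr ρ y) :=
    hfix _ (fun i hi => (dt_apply hnd).2.2.2.2 i (hlt i hi).1 (hlt i hi).2.1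
      (hlt i hi).2.2.1 (hlt i hi).2.2.2) _ _ hs0 (norm_Lr ρ hc y).1
  obtain ⟨v0, hv0, hv00⟩ :=
    Submodule.exists_mem_ne_zero_of_ne_bot (ne_bot_of_line (heig 1 one_ne_zero))
  obtain ⟨lu, hlu⟩ := scalar_of_commute hcu (heig 1 one_ne_zero) hv0 hv00
  obtain ⟨ls, hls⟩ := scalar_of_commute hcs (heig 1 one_ne_zero) hv0 hv00
  have hls0 : ls ≠ 0 := by rintro rfl; exact apply_ne_zero s0 hv00 (by rw [hls, zero_smul])
  set s := sc (Units.mk0 ls hls0)⁻¹ * s0 with hs
  have hLs : ρ.Lift (dt (5 : Fin 9) 6 7 8) s := PRep.smul hs0 _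
  have hsv0 : (s : End k V) v0 = v0 := by
    simp only [hs, Units.val_mul, Module.End.mul_apply, sc_apply, hls, smul_smul,
      Units.val_inv_eq_inv_val, Units.val_mk0, inv_mul_cancel₀ hls0, one_smul]
  have hcs' : Commute s (Lr ρ y) := Commute.mul_left (sc_comm _ _) hcs
  have hK : KleinDatum u s :=
    kleinDatum_of_fixed (dt_mul_self hnd) hrel hx3 hu hLs hv00 hlu hsv0
  set F : Submodule k V := LinearMap.range ((Lr ρ y : End k V) - 1)
  have hF : ∀ v ∈ F, (s : End k V) v = v ∧ ((u * s * u⁻¹ : (End k V)ˣ) : End k V) v = v := by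
    have key : ∀ a : ZMod 5, a ≠ 0 → ∀ v ∈ eig (Lr ρ y : End k V) (ζ ^ a.val),
        (s : End k V) v = v ∧ ((u * s * u⁻¹ : (End k V)ˣ) : End k V) v = v := by
      intro a ha v hv
      rcases eq_or_ne v 0 with rfl | hv0'
      · simp
      obtain ⟨l, hl⟩ := scalar_of_commute hcu (heig a ha) hv hv0'
      obtain ⟨c, hcv⟩ := scalar_of_commute hcs' (heig a ha) hv hv0'
      have hl0 : l ≠ 0 := by rintro rfl; exact apply_ne_zero u hv0' (by rw [hl, zero_smul])
      have hinv : (↑u⁻¹ : End k V) v = l⁻¹ • v := by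
        have h := congrArg (fun T : End k V => T v) (Units.inv_mul u)
        simp only [Module.End.mul_apply, hl, map_smul, Module.End.one_apply] at h
        conv_rhs => rw [← h, smul_smul, inv_mul_cancel₀ hl0, one_smul]
      have hcj : ∀ (w : (End k V)ˣ) (e : k), (w : End k V) v = e • v →
          ((u * w * u⁻¹ : (End k V)ˣ) : End k V) v = e • v := fun w e hw => by
        simp only [Units.val_mul, Module.End.mul_apply, hinv, map_smul, hw, hl, smul_smul]
        congr 1
        field_simp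
      have h1 := hcj s c hcv
      have h2 := hcj _ c h1
      rw [← hK.mul, Units.val_mul, Module.End.mul_apply, h1, map_smul, hcv, smul_smul] at h2
      have hc0 : c ≠ 0 := by rintro rfl; exact apply_ne_zero s hv0' (by rw [hcv, zero_smul])
      have hc1 : c = 1 := mul_eq_left₀ hc0 |>.mp (smul_left_injective k hv0' h2)
      exact ⟨by rw [hcv, hc1, one_smul], by rw [h1, hc1, one_smul]⟩
    rintro _ ⟨v, rfl⟩
    rw [← sum_proj (t := (Lr ρ y : End k V)) hζ h5 v, map_sum]
    refine Finset.sum_induction _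
      (fun z => (s : End k V) z = z ∧ ((u * s * u⁻¹ : (End k V)ˣ) : End k V) z = z)
      (fun a b ha hb => ⟨by rw [map_add, ha.1, hb.1], by rw [map_add, ha.2, hb.2]⟩) (by simp)
      fun i hi => ?_
    rw [LinearMap.sub_apply, Module.End.one_apply]
    have hmem := proj_mem_eig ρ hc hζ y (Finset.mem_range.mp hi) v
    by_cases hi0 : i = 0
    · subst hi0
      rw [mem_eig.mp hmem, Nat.cast_zero, ZMod.val_zero, pow_zero, one_smul, sub_self]
      simp
    · have hk := key _ (natCast_ne_zero (Finset.mem_range.mp hi) hi0) _ hmem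
      rw [mem_eig.mp hmem]
      constructor
      · rw [map_sub, map_smul, hk.1]
      · rw [map_sub, map_smul, hk.2]
  have hrank := hK.rank_ineq h2 F hF
  rw [hdim] at hrank
  have hP : KleinDatum.proj1 u s = 0 := LinearMap.range_eq_bot.mp
    (Submodule.finrank_eq_zero.mp (by omega))
  have hs1 := hK.eq_one h2 hP
  exact dt_ne_one hnd (PRep.eq_of_lift hLs (hs1 ▸ ρ.one))

end CfsgLib.Perm.AltSection
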