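import Mathlib
import Cfsg.Agent.Lib.Perm.AltSection.Heart
import Cfsg.Agent.Lib.Perm.AltSection.Five

/-!
Three-cycles in characteristic different from three: planes on triples.
-/

set_option autoImplicit false

namespace CfsgLib.Perm.AltSection

open Module Equiv

variable {k V : Type*} [Field k] [AddCommGroup V] [Module k V] [Nontrivial V] [IsAlgClosed k]
  [FiniteDimensional k V] {r : ℕ} (ρ : PRep k V (alternatingGroup (Fin r)))

/-- Displacements of disjoint three-cycles kill each other. -/
def ThreeGood : Prop :=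
  ∀ f f' : ZMod 3 ↪ Fin r, (∀ x y, f x ≠ f' y) →
    ((Lr ρ f : End k V) - 1) * ((Lr ρ f' : End k V) - 1) = 0

omit [Nontrivial V] [IsAlgClosed k] [FiniteDimensional k V] in
theorem sign_neg_three : Perm.sign ((-1 : (ZMod 3)ˣ).mulLeft) = -1 := by decide

omit [Nontrivial V] [IsAlgClosed k] [FiniteDimensional k V] in
theorem oddStab_of_zero {t : ℕ} {a : Fin t → ZMod 3} {j : Fin t} (hj : a j = 0) : OddStab a := by
  classical
  refine ⟨1, Function.update 1 j (-1), ?_, fun i => ?_⟩
  · rw [sign_mono, map_one, one_pow, one_mul, Finset.prod_eq_single j (fun i _ hi => ?_)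
      (fun h => absurd (Finset.mem_univ j) h), Function.update_self, sign_neg_three]
    rw [Function.update_of_ne hi, Pi.one_apply,
      show (1 : (ZMod 3)ˣ).mulLeft = (1 : Perm (ZMod 3)) by ext x; simp, map_one]
  · by_cases hi : i = j
    · subst hi; simp [hj]
    · simp [Function.update_of_ne hi]

theorem two_pow_bound {t : ℕ} (ht : 4 ≤ t) : 3 * t + 1 ≤ 2 ^ t := by
  induction t, ht using Nat.le_induction with
  | base => norm_num
  | succ t _ ih => rw [pow_succ]; omega

/-- Either disjoint three-cycles behave, or we are in the small exceptional configuration. -/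
theorem three_alternative (hr : 9 ≤ r) (hn : finrank k V + 2 ≤ r) (h3 : (3 : k) ≠ 0) :
    ThreeGood ρ ∨ (8 ≤ finrank k V ∧ r ≤ 11 ∧ ∃ (ζ : k) (F : Fin 3 × ZMod 3 ↪ Fin r),
      IsPrimitiveRoot ζ 3 ∧ (∃ a, IsWt ρ F ζ a ∧ (supp 0 a).card = 3) ∧
      ∀ a, IsWt ρ F ζ a → (supp 0 a).card = 0 ∨ (supp 0 a).card = 3) := by
  classical
  by_cases hg : ThreeGood ρ
  · exact Or.inl hg
  right
  simp only [ThreeGood, not_forall] at hg
  obtain ⟨f, f', hdis, hne⟩ := hg
  have hc : CycCond 3 r := cycCond_three (by omega)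
  have hℓk : ((3 : ℕ) : k) ≠ 0 := by exact_mod_cast h3
  obtain ⟨ζ, hζ⟩ := exists_primitive (k := k) (by norm_num : 0 < 3) hℓk
  obtain ⟨t, ht⟩ : ∃ t, t = r / 3 := ⟨_, rfl⟩
  obtain ⟨F, hF⟩ := exists_blocks (pairBlocks f f' hdis) (t := t) (by omega)
    (by rw [ZMod.card]; omega)
  set i : Fin t := Fin.castLE (by omega) (0 : Fin 2)
  set j : Fin t := Fin.castLE (by omega) (1 : Fin 2)
  have hfi : blk F i = f := by ext x : 1; rw [blk_apply, hF, pairBlocks_zero]
  have hfj : blk F j = f' := by ext x : 1; rw [blk_apply, hF, pairBlocks_one]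
  have hij : i ≠ j := by simp [i, j, Fin.ext_iff]
  obtain ⟨a, ha, hai, haj⟩ : ∃ a, IsWt ρ F ζ a ∧ a i ≠ 0 ∧ a j ≠ 0 := by
    by_contra hcon
    push Not at hcon
    refine hne ?_
    have := mul_eq_zero_of_disjoint ρ hc hζ hℓk F (i := i) (j := j) fun a ha => by
      by_cases h : a i = 0
      · exact Or.inl h
      · exact Or.inr (hcon a ha h)
    rwa [blockOp, blockOp, hfi, hfj] at this
  set m := (supp 0 a).card with hm
  have hm2 : 2 ≤ m := Finset.one_lt_card.mpr ⟨i, mem_supp.mpr hai, j, mem_supp.mpr haj, hij⟩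
  have hmt : m ≤ t := (Finset.card_le_univ _).trans (by simp)
  have hcount := count_le ρ hc hζ F {m} fun q hq => by
    rw [Finset.mem_singleton] at hq
    exact ⟨a, ha, oddStab_of_two hc.odd hij hai haj, hq.symm⟩
  rw [Finset.sum_singleton] at hcount
  simp only [show (3 - 1 : ℕ) = 2 from rfl] at hcount
  have hmeq : m = t := by
    by_contra hlt
    have h1 := le_choose (j := m) (t := t) (by omega) (by omega)
    have h2 : 2 ^ 2 ≤ 2 ^ m := Nat.pow_le_pow_right (by norm_num) hm2
    have h4 := Nat.mul_le_mul h1 h2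
    omega
  rw [hmeq, Nat.choose_self, one_mul] at hcount
  have ht3 : t = 3 := by
    by_contra h
    have := two_pow_bound (t := t) (by omega)
    omega
  subst ht3
  refine ⟨by omega, by omega, ?_⟩
  refine ⟨ζ, F, hζ, ⟨a, ha, by omega⟩, fun b hb => ?_⟩
  by_contra hbad
  push Not at hbad
  have hb3 : (supp 0 b).card ≤ 3 := (Finset.card_le_univ _).trans (by simp)
  obtain ⟨z, hz⟩ : ∃ z, b z = 0 := by
    by_contra hcon
    push Not at hcon
    refine hbad.2 ?_
    rw [show supp 0 b = Finset.univ from Finset.eq_univ_of_forall fun q => mem_supp.mpr (hcon q),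
      Finset.card_univ, Fintype.card_fin]
  have hsum := count_le ρ hc hζ F {(supp 0 b).card, 3} fun q hq => by
    rcases Finset.mem_insert.mp hq with rfl | hq
    · exact ⟨b, hb, oddStab_of_zero hz, rfl⟩
    · rw [Finset.mem_singleton] at hq
      exact ⟨a, ha, oddStab_of_two hc.odd hij hai haj, by omega⟩
  rw [Finset.sum_pair hbad.2] at hsum
  have hcases : (supp 0 b).card = 1 ∨ (supp 0 b).card = 2 := by omega
  rcases hcases with h | h <;> rw [h] at hsum <;>
    norm_num [Nat.choose_two_right] at hsum <;> omega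

theorem disp_fixed (hgood : ThreeGood ρ) (f f' : ZMod 3 ↪ Fin r) (h : ∀ x y, f x ≠ f' y) {v : V}
    (hv : v ∈ disp ρ f') : (Lr ρ f : End k V) v = v :=
  fixed_of_mul_eq_zero (hgood f f' h) hv

omit [FiniteDimensional k V] in
theorem three_actsScalar (hr : 8 ≤ r) (hgood : ThreeGood ρ) (f : ZMod 3 ↪ Fin r)
    {g : alternatingGroup (Fin r)} (hg : Fixes (Finset.univ.image f) g) :
    ρ.ActsScalar g (disp ρ f) := by
  refine fixes_induction (P := fun g => ρ.ActsScalar g (disp ρ f)) (PRep.actsScalar_one _)
    (fun g g' => PRep.actsScalar_mul) (fun a b c hab hbc hac ha hb hc => ?_) hg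
  refine PRep.actsScalar_of_exists (u := Lr ρ (tup3 a b c (nodup3 hab hbc hac)))
    (rot_tup3 (nodup3 hab hbc hac) ▸ (norm_Lr ρ (cycCond_three hr) _).1) (c := 1) fun v hv => ?_
  rw [one_smul]
  refine fixed_of_mul_eq_zero (hgood _ _ fun x y e => ?_) hv
  rcases (tup3_mem (nodup3 hab hbc hac) (f y)).mp
    (Finset.mem_image.mpr ⟨x, Finset.mem_univ _, e⟩) with e' | e' | e'
  · exact ha (e' ▸ Finset.mem_image_of_mem _ (Finset.mem_univ _))
  · exact hb (e' ▸ Finset.mem_image_of_mem _ (Finset.mem_univ _))
  · exact hc (e' ▸ Finset.mem_image_of_mem _ (Finset.mem_univ _))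

/-- The displacement space of a triple. -/
noncomputable def W3 (a b c : Fin r) : Submodule k V :=
  if h : [a, b, c].Nodup then disp ρ (tup3 a b c h) else ⊥

omit [FiniteDimensional k V] in
theorem W3_rotate (a b c : Fin r) : W3 ρ b c a = W3 ρ a b c := by
  by_cases h : [a, b, c].Nodup
  · have h' : [b, c, a].Nodup := by
      simp only [List.nodup_cons, List.mem_cons, List.not_mem_nil, not_or, or_false,
        List.nodup_nil, and_true, not_false_eq_true] at h ⊢
      grind
    rw [W3, dif_pos h', W3, dif_pos h, disp, disp, Lr_congr ρ (f' := tup3 a b c h)]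
    rw [rot_tup3, rot_tup3]
    simp only [List.nodup_cons, List.mem_cons, List.not_mem_nil, not_or, or_false,
      List.nodup_nil, and_true, not_false_eq_true] at h
    exact cyc_rotate h.1.1 h.2 h.1.2
  · have h' : ¬ [b, c, a].Nodup := fun h' => h (by
      simp only [List.nodup_cons, List.mem_cons, List.not_mem_nil, not_or, or_false,
        List.nodup_nil, and_true, not_false_eq_true] at h' ⊢
      grind)
    rw [W3, dif_neg h', W3, dif_neg h]

omit [FiniteDimensional k V] in
theorem W3_swap (hr : 8 ≤ r) (a b c : Fin r) : W3 ρ b a c = W3 ρ a b c := by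
  by_cases h : [a, b, c].Nodup
  · have h' : [c, b, a].Nodup := by
      simp only [List.nodup_cons, List.mem_cons, List.not_mem_nil, not_or, or_false,
        List.nodup_nil, and_true, not_false_eq_true] at h ⊢
      grind
    rw [W3_rotate ρ c b a, W3, dif_pos h', W3, dif_pos h]
    refine disp_inv ρ (cycCond_three hr) ?_
    rw [rot_tup3, rot_tup3]
    simp only [List.nodup_cons, List.mem_cons, List.not_mem_nil, not_or, or_false,
      List.nodup_nil, and_true, not_false_eq_true] at h
    exact cyc_reverse h.1.1 h.2 h.1.2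
  · have h' : ¬ [b, a, c].Nodup := fun h' => h (by
      simp only [List.nodup_cons, List.mem_cons, List.not_mem_nil, not_or, or_false,
        List.nodup_nil, and_true, not_false_eq_true] at h' ⊢
      grind)
    rw [W3, dif_neg h', W3, dif_neg h]

omit [FiniteDimensional k V] in
theorem W3_map (hr : 8 ≤ r) {g : alternatingGroup (Fin r)} {u : (End k V)ˣ} (hu : ρ.Lift g u)
    {a b c : Fin r} {v : V} (hv : v ∈ W3 ρ a b c) :
    (u : End k V) v ∈
      W3 ρ ((g : Perm (Fin r)) a) ((g : Perm (Fin r)) b) ((g : Perm (Fin r)) c) := by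
  by_cases h : [a, b, c].Nodup
  · have h' : [(g : Perm (Fin r)) a, (g : Perm (Fin r)) b, (g : Perm (Fin r)) c].Nodup := by
      have := h.map (g : Perm (Fin r)).injective
      simpa using this
    rw [W3, dif_pos h] at hv
    rw [W3, dif_pos h']
    refine disp_map_one ρ (cycCond_three hr) hu (fun x => ?_) hv
    revert x
    show ∀ x : Fin 3, (_ : Fin r) = _
    intro x
    fin_cases x <;> rfl
  · rw [W3, dif_neg h, Submodule.mem_bot] at hv
    rw [hv, map_zero]
    exact zero_mem _

theorem finrank_disp_eq (hr : 9 ≤ r) (hn : finrank k V + 2 ≤ r) (h3 : (3 : k) ≠ 0)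
    (hgood : ThreeGood ρ) (f : ZMod 3 ↪ Fin r) :
    finrank k (disp ρ f) = 2 ∧ 6 ≤ finrank k V := by
  have hc : CycCond 3 r := cycCond_three (by omega)
  have hℓk : ((3 : ℕ) : k) ≠ 0 := by exact_mod_cast h3
  obtain ⟨ζ, hζ⟩ := exists_primitive (k := k) (by norm_num : 0 < 3) hℓk
  obtain ⟨F⟩ := Function.Embedding.nonempty_of_card_le (α := Fin (r / 3) × ZMod 3) (β := Fin r)
    (by simp [ZMod.card]; omega)
  have heq : ∀ i, finrank k (disp ρ (blk F i)) = finrank k (disp ρ f) := by
    intro i
    have key : ∀ a b : ZMod 3 ↪ Fin r, finrank k (disp ρ a) ≤ finrank k (disp ρ b) := by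
      intro a b
      obtain ⟨g, hg⟩ := exists_map_equiv (f := a) (g := b) (by rw [ZMod.card]; omega)
      obtain ⟨u, hu⟩ := ρ.exists_lift g
      refine LinearMap.finrank_le_finrank_of_injective
        (f := (u : End k V).restrict fun v hv => disp_map_one ρ hc hu hg hv) ?_
      intro v w h
      apply Subtype.ext
      have h2 := congrArg (fun x : disp ρ b => (↑u⁻¹ : End k V) (x : V)) h
      have h4 : ∀ x : V, (↑u⁻¹ : End k V) ((u : End k V) x) = x := fun x => by
        rw [← Module.End.mul_apply, Units.inv_mul, Module.End.one_apply]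
      simpa [LinearMap.restrict_apply, h4] using h2
    exact le_antisymm (key _ _) (key _ _)
  have hsum := sum_range_le (fun i => (Lr ρ (blk F i) : End k V) - 1)
    (fun i j hij => hgood _ _ fun x y e => hij (Prod.mk.inj (F.injective e)).1)
    (fun i v hv => eq_zero_of_fixed_image (Lr_pow ρ hc _) hℓk hv)
  change ∑ i, finrank k (disp ρ (blk F i)) ≤ finrank k V at hsum
  rw [Finset.sum_congr rfl fun i _ => heq i, Finset.sum_const, Finset.card_univ, Fintype.card_fin,
    smul_eq_mul] at hsum
  obtain ⟨μ, hμ, hdim, -⟩ := exists_range_dim ρ hc hζ hℓk f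
  change finrank k (disp ρ f) = (3 - 1) * μ at hdim
  rw [hdim] at hsum ⊢
  have hμ1 : μ = 1 := by
    by_contra hne
    have := Nat.mul_le_mul_left (r / 3) (show 4 ≤ (3 - 1) * μ by omega)
    omega
  subst hμ1
  omega

theorem three_good_bound {p : ℕ} [CharP k p] (hr : 9 ≤ r) (hn : finrank k V + 2 ≤ r)
    (h3 : (3 : k) ≠ 0) (hirr : ρ.Irred) (hgood : ThreeGood ρ) :
    r - 1 - (if p ∣ r then 1 else 0) ≤ finrank k V := by
  classical
  have hc : CycCond 3 r := cycCond_three (by omega)
  have hℓk : ((3 : ℕ) : k) ≠ 0 := by exact_mod_cast h3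
  have hW : ∀ a b c : Fin r, [a, b, c].Nodup → finrank k (W3 ρ a b c) = 2 := fun a b c h => by
    rw [W3, dif_pos h]; exact (finrank_disp_eq ρ hr hn h3 hgood _).1
  obtain ⟨F0⟩ := Function.Embedding.nonempty_of_card_le (α := ZMod 3) (β := Fin r)
    (by simp [ZMod.card]; omega)
  have hn6 : 6 ≤ finrank k V := (finrank_disp_eq ρ hr hn h3 hgood F0).2
  have hmapeq : ∀ (g : alternatingGroup (Fin r)) u, ρ.Lift g u → ∀ a b c : Fin r, [a, b, c].Nodup →
      (W3 ρ a b c).map (u : End k V) =
        W3 ρ ((g : Perm (Fin r)) a) ((g : Perm (Fin r)) b) ((g : Perm (Fin r)) c) := by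
    intro g u hu a b c h
    refine Submodule.eq_of_le_of_finrank_eq
      (Submodule.map_le_iff_le_comap.mpr fun v hv => W3_map ρ (by omega) hu hv) ?_
    have h' : [(g : Perm (Fin r)) a, (g : Perm (Fin r)) b, (g : Perm (Fin r)) c].Nodup := by
      have := h.map (g : Perm (Fin r)).injective
      simpa using this
    rw [hW _ _ _ h', ← hW a b c h]
    exact (Submodule.equivMapOfInjective (u : End k V) (fun v w e => by
      by_contra hne
      exact apply_ne_zero u (sub_ne_zero.mpr hne) (by rw [map_sub, e, sub_self])) _).finrank_eq.symm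
  have htr : ∀ {a b c d a' b' c' d' : Fin r}, [a, b, c, d].Nodup → [a', b', c', d'].Nodup →
      ∃ g : alternatingGroup (Fin r), (g : Perm (Fin r)) a = a' ∧ (g : Perm (Fin r)) b = b' ∧
        (g : Perm (Fin r)) c = c' ∧ (g : Perm (Fin r)) d = d' := by
    intro a b c d a' b' c' d' h h'
    obtain ⟨g, hg⟩ := exists_map ![a, b, c, d] ![a', b', c', d']
      (List.nodup_ofFn.mp (by simpa [List.ofFn_succ] using h))
      (List.nodup_ofFn.mp (by simpa [List.ofFn_succ] using h')) (by omega)
    exact ⟨g, hg 0, hg 1, hg 2, hg 3⟩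
  -- adjacent planes differ
  have hdist : ∀ a b c d, [a, b, c, d].Nodup → W3 ρ a b c ≠ W3 ρ a b d := by
    intro a b c d h he
    have hall : ∀ a' b' c' d', [a', b', c', d'].Nodup → W3 ρ a' b' c' = W3 ρ a' b' d' := by
      intro a' b' c' d' h'
      obtain ⟨g, g1, g2, g3, g4⟩ := htr h h'
      obtain ⟨u, hu⟩ := ρ.exists_lift g
      have e1 := hmapeq g u hu a b c (h.sublist (by simp))
      have e2 := hmapeq g u hu a b d (h.sublist (by simp))
      rw [g1, g2, g3] at e1
      rw [g1, g2, g4] at e2
      rw [← e1, he, e2]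
    obtain ⟨q⟩ := Function.Embedding.nonempty_of_card_le (α := Fin 6) (β := Fin r)
      (by simp; omega)
    have hnd : ∀ i j l m : Fin 6, [i, j, l, m].Nodup → [q i, q j, q l, q m].Nodup := fun i j l m h =>
      by simpa using h.map q.injective
    have e1 := hall _ _ _ _ (hnd 0 1 2 5 (by decide))
    have e2 := hall _ _ _ _ (hnd 0 5 1 4 (by decide))
    have e3 := hall _ _ _ _ (hnd 5 4 0 3 (by decide))
    have hW012 : W3 ρ (q 0) (q 1) (q 2) = W3 ρ (q 5) (q 4) (q 3) := by
      rw [e1, ← e3, ← W3_rotate ρ (q 0) (q 1) (q 5), ← W3_rotate ρ (q 1) (q 5) (q 0), W3_swap ρ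
        (by omega) (q 0) (q 5) (q 1)] at *
      rw [W3_rotate ρ (q 0) (q 5) (q 4)] at *
      exact e2
    have hfix : ∀ v ∈ W3 ρ (q 0) (q 1) (q 2), v = 0 := by
      intro v hv
      have hn1 : [q 0, q 1, q 2].Nodup := by simpa using (show [(0:Fin 6), 1, 2].Nodup by decide).map q.injective
      have hn2 : [q 5, q 4, q 3].Nodup := by simpa using (show [(5:Fin 6), 4, 3].Nodup by decide).map q.injective
      have hv2 := hW012 ▸ hv
      rw [W3, dif_pos hn1] at hv
      rw [W3, dif_pos hn2] at hv2
      have hdis : ∀ x y, tup3 _ _ _ hn2 x ≠ tup3 _ _ _ hn1 y := by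
        show ∀ x y : Fin 3, (![q 5, q 4, q 3] x : Fin r) ≠ ![q 0, q 1, q 2] y
        intro x y
        fin_cases x <;> fin_cases y <;> simp
      have hf := disp_fixed ρ hgood _ _ hdis hv
      obtain ⟨w, rfl⟩ := hv2
      refine eq_zero_of_fixed_image (Lr_pow ρ hc _) hℓk (v := w) ?_
      rw [LinearMap.sub_apply, Module.End.one_apply, hf, sub_self]
    have h2 := hW (q 0) (q 1) (q 2) (by simpa using (show [(0:Fin 6), 1, 2].Nodup by decide).map q.injective)
    rw [(Submodule.eq_bot_iff _).mpr hfix, finrank_bot] at h2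
    omega
  -- adjacent planes meet
  have hmeet : ∀ a b c d, [a, b, c, d].Nodup → W3 ρ a b c ⊓ W3 ρ a b d ≠ ⊥ := by
    intro a0 b0 c0 d0 h0 hbot
    have hall : ∀ a b c d, [a, b, c, d].Nodup →
        finrank k (W3 ρ a b c ⊔ W3 ρ a b d : Submodule k V) = 4 := by
      intro a b c d h
      obtain ⟨g, g1, g2, g3, g4⟩ := htr h h0
      obtain ⟨u, hu⟩ := ρ.exists_lift g
      have hz : W3 ρ a b c ⊓ W3 ρ a b d = ⊥ := by
        rw [Submodule.eq_bot_iff]
        intro v hv
        by_contra hv0
        have h1 := W3_map ρ (by omega) hu hv.1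
        have h2 := W3_map ρ (by omega) hu hv.2
        rw [g1, g2, g3] at h1
        rw [g1, g2, g4] at h2
        have : (u : End k V) v ∈ W3 ρ a0 b0 c0 ⊓ W3 ρ a0 b0 d0 := ⟨h1, h2⟩
        rw [hbot, Submodule.mem_bot] at this
        exact apply_ne_zero u hv0 this
      have := Submodule.finrank_sup_add_finrank_inf_eq (W3 ρ a b c) (W3 ρ a b d)
      rw [hz, finrank_bot, hW a b c (h.sublist (by simp)), hW a b d (h.sublist (by simp))] at this
      omega
    have hfive : ∀ a b c d e, [a, b, c, d, e].Nodup →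
        W3 ρ c d e ≤ W3 ρ a b c ⊔ W3 ρ a b d ∧ W3 ρ a d e ≤ W3 ρ a b c ⊔ W3 ρ a b d ∧
          W3 ρ a b e ≤ W3 ρ a b c ⊔ W3 ρ a b d := by
      intro a b c d e h
      have h4 : [a, b, c, d].Nodup := h.sublist (by simp)
      have habc : [a, b, c].Nodup := h.sublist (by simp)
      have hcde : [c, d, e].Nodup := h.sublist (by simp)
      set U := W3 ρ a b c ⊔ W3 ρ c d e
      have hinv : ∀ {x y z : Fin r} (hx : [x, y, z].Nodup), W3 ρ x y z ≤ U → ∀ v ∈ U,
          (Lr ρ (tup3 x y z hx) : End k V) v ∈ U := by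
        intro x y z hx hle v hv
        have h1 : ((Lr ρ (tup3 x y z hx) : End k V) - 1) v ∈ U := hle (by
          rw [W3, dif_pos hx]; exact ⟨v, rfl⟩)
        simpa using add_mem h1 hv
      have hL : ∀ {x y z : Fin r} (hx : [x, y, z].Nodup),
          ρ.Lift (cyc x y z) (Lr ρ (tup3 x y z hx)) := fun hx =>
        rot_tup3 hx ▸ (norm_Lr ρ hc _).1
      have himg : ∀ {x y z : Fin r} (hx : [x, y, z].Nodup), W3 ρ x y z ≤ U → ∀ i j l,
          [i, j, l].Nodup → W3 ρ i j l ≤ U →
          W3 ρ ((cyc x y z : Perm (Fin r)) i) ((cyc x y z : Perm (Fin r)) j)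
            ((cyc x y z : Perm (Fin r)) l) ≤ U := by
        intro x y z hx hle i j l hn hle'
        rw [← hmapeq _ _ (hL hx) i j l hn]
        exact Submodule.map_le_iff_le_comap.mpr fun v hv => hinv hx hle v (hle' hv)
      have hn' := h
      simp only [List.nodup_cons, List.mem_cons, List.not_mem_nil, not_or, or_false,
        List.nodup_nil, and_true, not_false_eq_true] at hn'
      obtain ⟨⟨hab, hac, had, hae⟩, ⟨hbc, hbd, hbe⟩, ⟨hcd, hce⟩, hde⟩ := hn'
      obtain ⟨x1, x2, x3, x4⟩ := cyc_apply hab hbc hac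
      obtain ⟨y1, y2, y3, y4⟩ := cyc_apply hcd hde hce
      have hade : W3 ρ a d e ≤ U := by
        have := himg habc le_sup_left c d e hcde le_sup_right
        rwa [x3, x4 d (Ne.symm had) (Ne.symm hbd) (Ne.symm hcd),
          x4 e (Ne.symm hae) (Ne.symm hbe) (Ne.symm hce)] at this
      have habd : W3 ρ a b d ≤ U := by
        have := himg hcde le_sup_right a b c habc le_sup_left
        rwa [y4 a hac had hae, y4 b hbc hbd hbe, y1] at this
      have habe : W3 ρ a b e ≤ U := by
        have := himg hcde le_sup_right a b d (h4.sublist (by simp)) habd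
        rwa [y4 a hac had hae, y4 b hbc hbd hbe, y2] at this
      have hXU : W3 ρ a b c ⊔ W3 ρ a b d = U := by
        refine Submodule.eq_of_le_of_finrank_le (sup_le le_sup_left habd) ?_
        have h2 := Submodule.finrank_sup_add_finrank_inf_eq (W3 ρ a b c) (W3 ρ c d e)
        rw [hW a b c habc, hW c d e hcde] at h2
        rw [hall a b c d h4]
        change finrank k (W3 ρ a b c ⊔ W3 ρ c d e : Submodule k V) ≤ 4
        omega
      rw [hXU]
      exact ⟨le_sup_right, hade, habe⟩
    set X := W3 ρ a0 b0 c0 ⊔ W3 ρ a0 b0 d0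
    have hab0 : a0 ≠ b0 := fun e => by simp [e] at h0
    have hpair : ∀ z, z ≠ a0 → z ≠ b0 → W3 ρ a0 b0 z ≤ X := by
      intro z hza hzb
      by_cases hzc : z = c0
      · subst hzc; exact le_sup_left
      by_cases hzd : z = d0
      · subst hzd; exact le_sup_right
      refine (hfive a0 b0 c0 d0 z ?_).2.2
      simp only [List.nodup_cons, List.mem_cons, List.not_mem_nil, not_or, or_false,
        List.nodup_nil, and_true, not_false_eq_true] at h0 ⊢
      grind
    have hXeq : ∀ z w, [a0, b0, z, w].Nodup → W3 ρ a0 b0 z ⊔ W3 ρ a0 b0 w = X := by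
      intro z w hzw
      have hh := hzw
      simp only [List.nodup_cons, List.mem_cons, List.not_mem_nil, not_or, or_false,
        List.nodup_nil, and_true, not_false_eq_true] at hh
      exact Submodule.eq_of_le_of_finrank_eq
        (sup_le (hpair z (Ne.symm hh.1.2.1) (Ne.symm hh.2.1.1))
          (hpair w (Ne.symm hh.1.2.2) (Ne.symm hh.2.1.2)))
        (by rw [hall _ _ _ _ hzw, hall _ _ _ _ h0])
    have hone : ∀ z w, [a0, b0, z, w].Nodup → W3 ρ a0 z w ≤ X ∧ W3 ρ b0 z w ≤ X := by
      intro z w hzw
      obtain ⟨e, he⟩ : ∃ e, e ∉ ({a0, b0, z, w} : Finset (Fin r)) := by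
        by_contra hcon
        push Not at hcon
        have h1 := Finset.card_le_card (fun x (_ : x ∈ Finset.univ) => hcon x)
        have h2 : ({a0, b0, z, w} : Finset (Fin r)).card ≤ 4 := Finset.card_le_four
        rw [Finset.card_univ, Fintype.card_fin] at h1
        omega
      simp only [Finset.mem_insert, Finset.mem_singleton, not_or] at he
      simp only [List.nodup_cons, List.mem_cons, List.not_mem_nil, not_or, or_false,
        List.nodup_nil, and_true, not_false_eq_true] at hzw
      have hn1 : [a0, b0, e, z, w].Nodup := by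
        simp only [List.nodup_cons, List.mem_cons, List.not_mem_nil, not_or, or_false,
          List.nodup_nil, and_true, not_false_eq_true]
        grind
      have hn2 : [b0, a0, e, z, w].Nodup := by
        simp only [List.nodup_cons, List.mem_cons, List.not_mem_nil, not_or, or_false,
          List.nodup_nil, and_true, not_false_eq_true]
        grind
      have hn4 : [a0, b0, e, z].Nodup := hn1.sublist (by simp)
      refine ⟨(hfive a0 b0 e z w hn1).2.1.trans (hXeq e z hn4).le,
        (hfive b0 a0 e z w hn2).2.1.trans ?_⟩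
      rw [W3_swap ρ (by omega) a0 b0 e, W3_swap ρ (by omega) a0 b0 z, hXeq e z hn4]
    have hevery : ∀ x y z, [x, y, z].Nodup → W3 ρ x y z ≤ X := by
      intro x y z hn3
      simp only [List.nodup_cons, List.mem_cons, List.not_mem_nil, not_or, or_false,
        List.nodup_nil, and_true, not_false_eq_true] at hn3
      obtain ⟨⟨hxy, hxz⟩, hyz⟩ := hn3
      -- move `a0` and `b0` to the front
      have hA : ∀ y z, y ≠ z → a0 ≠ y → a0 ≠ z → W3 ρ a0 y z ≤ X := by
        intro y z hyz hy hz
        by_cases hyb : y = b0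
        · subst hyb; exact hpair z (Ne.symm hz) (Ne.symm hyz)
        by_cases hzb : z = b0
        · subst hzb
          rw [← W3_swap ρ (by omega) a0 y z, ← W3_rotate ρ y a0 z]
          exact hpair y (Ne.symm hy) hyb
        refine (hone y z ?_).1
        simp only [List.nodup_cons, List.mem_cons, List.not_mem_nil, not_or, or_false,
          List.nodup_nil, and_true, not_false_eq_true]
        grind
      by_cases hxa : x = a0
      · subst hxa; exact hA y z hyz hxy hxz
      by_cases hya : y = a0
      · subst hya; rw [← W3_rotate ρ x y z]; exact hA z x (Ne.symm hxz) hyz (Ne.symm hxy)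
      by_cases hza : z = a0
      · subst hza; rw [← W3_rotate ρ x y z, ← W3_rotate ρ y z x]
        exact hA x y hxy (Ne.symm hxz) (Ne.symm hyz)
      by_cases hxb : x = b0
      · subst hxb
        refine (hone y z ?_).2
        simp only [List.nodup_cons, List.mem_cons, List.not_mem_nil, not_or, or_false,
          List.nodup_nil, and_true, not_false_eq_true]
        grind
      by_cases hyb : y = b0
      · subst hyb
        rw [← W3_rotate ρ x y z]
        refine (hone z x ?_).2
        simp only [List.nodup_cons, List.mem_cons, List.not_mem_nil, not_or, or_false,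
          List.nodup_nil, and_true, not_false_eq_true]
        grind
      by_cases hzb : z = b0
      · subst hzb
        rw [← W3_rotate ρ x y z, ← W3_rotate ρ y z x]
        refine (hone x y ?_).2
        simp only [List.nodup_cons, List.mem_cons, List.not_mem_nil, not_or, or_false,
          List.nodup_nil, and_true, not_false_eq_true]
        grind
      have hn5 : [a0, b0, x, y, z].Nodup := by
        simp only [List.nodup_cons, List.mem_cons, List.not_mem_nil, not_or, or_false,
          List.nodup_nil, and_true, not_false_eq_true]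
        grind
      exact (hfive a0 b0 x y z hn5).1.trans (hXeq x y (hn5.sublist (by simp))).le
    have hinv := hirr X fun g u hu v hv => by
      obtain ⟨v1, hv1, v2, hv2, rfl⟩ := Submodule.mem_sup.mp hv
      rw [map_add]
      have hmapn : ∀ x y z : Fin r, [x, y, z].Nodup →
          [(g : Perm (Fin r)) x, (g : Perm (Fin r)) y, (g : Perm (Fin r)) z].Nodup := fun x y z h =>
        by simpa using h.map (g : Perm (Fin r)).injective
      exact add_mem (hevery _ _ _ (hmapn _ _ _ (h0.sublist (by simp))) (W3_map ρ (by omega) hu hv1))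
        (hevery _ _ _ (hmapn _ _ _ (h0.sublist (by simp))) (W3_map ρ (by omega) hu hv2))
    have h4 := hall _ _ _ _ h0
    rcases hinv with h | h
    · change finrank k X = 4 at h4; rw [h, finrank_bot] at h4; omega
    · change finrank k X = 4 at h4; rw [h, finrank_top] at h4; omega
  have hone : ∀ a b c d, [a, b, c, d].Nodup →
      finrank k (W3 ρ a b c ⊓ W3 ρ a b d : Submodule k V) = 1 := by
    intro a b c d h
    have h1 := Submodule.one_le_finrank_iff.mpr (hmeet a b c d h)
    have h2 := hW a b c (h.sublist (by simp))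
    have h3 : finrank k (W3 ρ a b c ⊓ W3 ρ a b d : Submodule k V) < finrank k (W3 ρ a b c) := by
      refine Submodule.finrank_lt_finrank_of_lt (lt_of_le_of_ne inf_le_left fun e => ?_)
      refine hdist a b c d h (Submodule.eq_of_le_of_finrank_eq (inf_eq_left.mp e) ?_)
      rw [h2, hW a b d (h.sublist (by simp))]
    omega
  have hindep : ∀ a b c d e, [a, b, c, d].Nodup → [a, b, e].Nodup →
      W3 ρ a b c ⊓ W3 ρ a b d ≤ W3 ρ a b e := by
    intro a b c d e h he v hv
    by_cases hec : e = c
    · exact hec ▸ hv.1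
    by_cases hed : e = d
    · exact hed ▸ hv.2
    have h' : [a, b, c, e].Nodup := by
      simp only [List.nodup_cons, List.mem_cons, List.not_mem_nil, not_or, or_false,
        List.nodup_nil, and_true, not_false_eq_true] at h he ⊢
      grind
    obtain ⟨g, g1, g2, g3, g4⟩ := htr h h'
    obtain ⟨u, hu⟩ := ρ.exists_lift g
    have habc : [a, b, c].Nodup := h.sublist (by simp)
    have hfix : Fixes (Finset.univ.image (tup3 a b c habc)) g := fun i hi => by
      rcases (tup3_mem habc i).mp hi with rfl | rfl | rfl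
      · exact g1
      · exact g2
      · exact g3
    obtain ⟨l, hl⟩ := three_actsScalar ρ (by omega) hgood _ hfix u hu
    have hv1 : (u : End k V) v = l • v := hl v (by have := hv.1; rwa [W3, dif_pos habc] at this)
    have hv2 := W3_map ρ (by omega) hu hv.2
    rw [g1, g2, g4, hv1] at hv2
    rcases eq_or_ne v 0 with rfl | hv0
    · exact zero_mem _
    have hl0 : l ≠ 0 := fun e' => apply_ne_zero u hv0 (by rw [hv1, e', zero_smul])
    exact (Submodule.smul_mem_iff _ hl0).mp hv2
  let L : Fin r → Fin r → Submodule k V := fun a b => ⨅ (c) (_ : [a, b, c].Nodup), W3 ρ a b c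
  have hpick : ∀ a b : Fin r, a ≠ b → ∃ c d, [a, b, c, d].Nodup := by
    intro a b hab
    have h1 : 1 < (Finset.univ \ ({a, b} : Finset (Fin r))).card := by
      rw [Finset.card_univ_sdiff, Finset.card_pair hab, Fintype.card_fin]; omega
    obtain ⟨c, hc', d, hd, hcd⟩ := Finset.one_lt_card.mp h1
    simp only [Finset.mem_sdiff, Finset.mem_univ, Finset.mem_insert, Finset.mem_singleton, not_or,
      true_and] at hc' hd
    exact ⟨c, d, by simp [hab, hcd, Ne.symm hc'.1, Ne.symm hc'.2, Ne.symm hd.1, Ne.symm hd.2]⟩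
  have hL : ∀ a b c d, [a, b, c, d].Nodup → L a b = W3 ρ a b c ⊓ W3 ρ a b d := by
    intro a b c d h
    refine le_antisymm (le_inf ?_ ?_) (le_iInf₂ fun e he => hindep a b c d e h he)
    · exact iInf₂_le c (h.sublist (by simp))
    · exact iInf₂_le d (h.sublist (by simp))
  refine heart (p := p) (by omega) ρ hirr (by omega) L (fun a b hab => ?_) (fun a b hab => ?_)
    (fun g u hu a b hab v hv => ?_) (fun a b c hab hac hbc => ?_)
  · refine le_antisymm (le_iInf₂ fun c hc' => ?_) (le_iInf₂ fun c hc' => ?_)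
    · rw [← W3_swap ρ (by omega) b a c]
      exact iInf₂_le c (by
        simp only [List.nodup_cons, List.mem_cons, List.not_mem_nil, not_or, or_false,
          List.nodup_nil, and_true, not_false_eq_true] at hc' ⊢
        grind)
    · rw [← W3_swap ρ (by omega) a b c]
      exact iInf₂_le c (by
        simp only [List.nodup_cons, List.mem_cons, List.not_mem_nil, not_or, or_false,
          List.nodup_nil, and_true, not_false_eq_true] at hc' ⊢
        grind)
  · obtain ⟨c, d, h⟩ := hpick a b hab
    rw [hL a b c d h, hone a b c d h]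
  · obtain ⟨c, d, h⟩ := hpick a b hab
    rw [hL a b c d h] at hv
    have h' : [(g : Perm (Fin r)) a, (g : Perm (Fin r)) b, (g : Perm (Fin r)) c,
        (g : Perm (Fin r)) d].Nodup := by simpa using h.map (g : Perm (Fin r)).injective
    rw [hL _ _ _ _ h']
    exact ⟨W3_map ρ (by omega) hu hv.1, W3_map ρ (by omega) hu hv.2⟩
  · have h1 : [a, b, c].Nodup := nodup3 hab hbc hac
    refine (Submodule.finrank_mono (sup_le (sup_le ?_ ?_) ?_)).trans (hW a b c h1).le
    · exact iInf₂_le c h1
    · rw [← W3_swap ρ (by omega) a b c, ← W3_rotate ρ b a c]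
      exact iInf₂_le b (by simp [hab, hac, Ne.symm hbc])
    · rw [← W3_rotate ρ a b c]
      exact iInf₂_le a (by simp [Ne.symm hab, Ne.symm hac, hbc])

end CfsgLib.Perm.AltSection
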