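import Mathlib
import Cfsg.Agent.Lib.Perm.AltSection.Three
import Cfsg.Agent.Lib.Perm.AltSection.Klein
import Cfsg.Agent.Lib.Perm.AltSection.Dt

/-!
The exceptional weight configuration of three-cycles is impossible.
-/

set_option autoImplicit false

namespace CfsgLib.Perm.AltSection

open Module Equiv

variable {k V : Type*} [Field k] [AddCommGroup V] [Module k V] [Nontrivial V] [IsAlgClosed k]
  [FiniteDimensional k V] {r : ℕ} (ρ : PRep k V (alternatingGroup (Fin r)))

instance fact_prime_seven : Fact (Nat.Prime 7) := ⟨by norm_num⟩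

omit [FiniteDimensional k V] in
theorem fix_map (hc : CycCond 3 r) {f f' : ZMod 3 ↪ Fin r} {g : alternatingGroup (Fin r)}
    {u : (End k V)ˣ} (hu : ρ.Lift g u) (h : ∀ x, (g : Perm (Fin r)) (f x) = f' x) {v : V}
    (hv : (Lr ρ f : End k V) v = v) :
    (Lr ρ f' : End k V) ((u : End k V) v) = (u : End k V) v := by
  have h1 := Lr_conj ρ hc hu (m := 1) (f' := f') (fun x => by simpa using h x)
  rw [Units.val_one, ZMod.val_one, pow_one] at h1
  have h2 := congrArg (fun z : (End k V)ˣ => (z : End k V) v)
    (show u * Lr ρ f = Lr ρ f' * u by rw [← h1]; group)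
  simp only [Units.val_mul, Module.End.mul_apply, hv] at h2
  exact h2.symm

omit [FiniteDimensional k V] in
/-- In the exceptional configuration all block fixed spaces agree. -/
theorem special_fix_eq (hr : 8 ≤ r) (h3 : (3 : k) ≠ 0) {ζ : k} (hζ : IsPrimitiveRoot ζ 3)
    (F : Fin 3 × ZMod 3 ↪ Fin r)
    (hall : ∀ a, IsWt ρ F ζ a → (supp 0 a).card = 0 ∨ (supp 0 a).card = 3) (i j : Fin 3) {v : V}
    (hv : (Lr ρ (blk F i) : End k V) v = v) : (Lr ρ (blk F j) : End k V) v = v := by
  have hc : CycCond 3 r := cycCond_three hr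
  have hℓk : ((3 : ℕ) : k) ≠ 0 := by exact_mod_cast h3
  have hX := eq_zero_of_weights ρ hc hζ hℓk F
    ((blockOp ρ F j - 1) * (1 + blockOp ρ F i + blockOp ρ F i * blockOp ρ F i)) fun a ha w hw => by
    have hi := mem_wsp.mp hw i
    simp only [Module.End.mul_apply, LinearMap.add_apply, Module.End.one_apply, hi, map_smul,
      map_add, apply_sub_one ρ F hw, smul_smul, ← add_smul]
    by_cases hai : a i = 0
    · have h0 : (supp 0 a).card = 0 := by
        refine (hall a ha).resolve_right fun h => ?_
        have := Finset.eq_univ_of_card (supp 0 a) (by rw [h, Fintype.card_fin])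
        exact (mem_supp.mp (this ▸ Finset.mem_univ i)) hai
      have haj : a j = 0 := by
        by_contra hne
        exact Finset.notMem_empty j (Finset.card_eq_zero.mp h0 ▸ mem_supp.mpr hne)
      simp [haj]
    · set c := ζ ^ (a i).val
      have hc3 : c ^ 3 = 1 := by
        rw [← pow_mul, mul_comm, pow_mul, hζ.pow_eq_one, one_pow]
      have hc1 : c ≠ 1 := fun h => hai (by
        have := hζ.pow_inj (ZMod.val_lt (a i)) (by norm_num : 0 < 3) (h.trans (pow_zero ζ).symm)
        exact (ZMod.val_eq_zero _).mp this)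
      have hsum : 1 + c + c * c = 0 := by
        refine (mul_eq_zero.mp ?_).resolve_left (sub_ne_zero.mpr hc1)
        linear_combination hc3
      rw [show ζ ^ (a j).val - 1 + c * (ζ ^ (a j).val - 1) + c * c * (ζ ^ (a j).val - 1) =
        (1 + c + c * c) * (ζ ^ (a j).val - 1) by ring, hsum, zero_mul, zero_smul]
  have h := congrArg (fun T : End k V => T v) hX
  simp only [blockOp, Module.End.mul_apply, LinearMap.add_apply, Module.End.one_apply, hv,
    map_add, LinearMap.sub_apply, LinearMap.zero_apply] at h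
  have h' : (3 : k) • ((Lr ρ (blk F j) : End k V) v - v) = 0 := by
    rw [show (3 : k) = 1 + 1 + 1 by norm_num, add_smul, add_smul, one_smul]
    exact h
  exact sub_eq_zero.mp ((smul_eq_zero.mp h').resolve_left h3)

/-- Eight weights and the common fixed space are independent. -/
theorem special_fix_dim (hr : 8 ≤ r) (h3 : (3 : k) ≠ 0) {ζ : k} (hζ : IsPrimitiveRoot ζ 3)
    (F : Fin 3 × ZMod 3 ↪ Fin r) (hex : ∃ a, IsWt ρ F ζ a ∧ (supp 0 a).card = 3)
    (hall : ∀ a, IsWt ρ F ζ a → (supp 0 a).card = 0 ∨ (supp 0 a).card = 3) :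
    8 + finrank k (LinearMap.ker ((Lr ρ (blk F 0) : End k V) - 1)) ≤ finrank k V := by
  classical
  obtain ⟨a, ha, hcard⟩ := hex
  have hc : CycCond 3 r := cycCond_three hr
  have huniv := Finset.eq_univ_of_card (supp 0 a) (by rw [hcard, Fintype.card_fin])
  have ha0 : ∀ i, a i ≠ 0 := fun i => mem_supp.mp (huniv ▸ Finset.mem_univ i)
  let S : Finset (Fin 3 → ZMod 3) := Finset.univ.filter fun b => (supp 0 b).card = 3
  have hinj : Function.Injective fun (b : Fin 3 → ZMod 3) (i : Fin 3) => ζ ^ (b i).val :=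
    fun b c h => funext fun i => ZMod.val_injective 3
      (hζ.pow_inj (ZMod.val_lt _) (ZMod.val_lt _) (congrFun h i))
  have hS0 : (0 : Fin 3 → ZMod 3) ∉ S := by simp [S, supp]
  have h1 := sum_finrank_le (blockOp ρ F) ((insert 0 S).image fun b i => ζ ^ (b i).val)
  rw [Finset.sum_image (fun b _ c _ h => hinj h), Finset.sum_insert hS0] at h1
  have h2 : S.card ≤ ∑ b ∈ S, finrank k (wsp (blockOp ρ F) fun i => ζ ^ (b i).val) := by
    rw [Finset.card_eq_sum_ones]
    exact Finset.sum_le_sum fun b hb => Submodule.one_le_finrank_iff.mpr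
      (isWt_of_card_supp ρ hc hζ F ha (oddStab_of_two hc.odd (show (0 : Fin 3) ≠ 1 by decide)
        (ha0 0) (ha0 1)) (by rw [hcard, (Finset.mem_filter.mp hb).2]))
  have h8 : S.card = 8 := by
    rw [show S = _ from rfl, card_supp_eq, ZMod.card]; rfl
  have h0 : finrank k (LinearMap.ker ((Lr ρ (blk F 0) : End k V) - 1)) ≤
      finrank k (wsp (blockOp ρ F) fun i => ζ ^ ((0 : Fin 3 → ZMod 3) i).val) := by
    refine Submodule.finrank_mono fun v hv => ?_
    rw [mem_wsp]
    intro i
    rw [Pi.zero_apply, ZMod.val_zero, pow_zero, one_smul]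
    exact special_fix_eq ρ hr h3 hζ F hall 0 i (sub_eq_zero.mp (LinearMap.mem_ker.mp hv))
  omega

/-- The exceptional configuration contradicts the bound. -/
theorem not_special {p : ℕ} [CharP k p] (h3 : (3 : k) ≠ 0) (hn : finrank k V + 2 ≤ r)
    (hlt : finrank k V < r - 1 - (if p ∣ r then 1 else 0)) (h8 : 8 ≤ finrank k V) (hr11 : r ≤ 11)
    {ζ : k} (hζ : IsPrimitiveRoot ζ 3) (F : Fin 3 × ZMod 3 ↪ Fin r)
    (hex : ∃ a, IsWt ρ F ζ a ∧ (supp 0 a).card = 3)
    (hall : ∀ a, IsWt ρ F ζ a → (supp 0 a).card = 0 ∨ (supp 0 a).card = 3) : False := by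
  classical
  have hdim := special_fix_dim ρ (by omega) h3 hζ F hex hall
  have hc : CycCond 3 r := cycCond_three (by omega)
  by_cases h5 : (5 : k) ≠ 0
  · -- a disjoint five-cycle gives a large fixed space
    have hcard : Fintype.card (ZMod 5) ≤ Fintype.card {i // i ∉ Finset.univ.image (blk F 0)} := by
      rw [ZMod.card, Fintype.card_subtype_compl, Fintype.card_fin, Fintype.card_coe,
        Finset.card_image_of_injective _ (blk F 0).injective, Finset.card_univ, ZMod.card]
      omega
    obtain ⟨y0⟩ := Function.Embedding.nonempty_of_card_le hcard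
    let y : ZMod 5 ↪ Fin r := y0.trans (Function.Embedding.subtype _)
    have h4 := four_le_finrank_disp ρ (by omega) h5 y
    have hle := Submodule.finrank_mono (three_fix_five ρ (by omega) hn h5 (f := blk F 0) (y := y)
      fun x z e => (y0 z).2 (Finset.mem_image.mpr ⟨x, Finset.mem_univ _, e⟩))
    omega
  -- characteristic five
  push Not at h5
  have hp : p = 5 := by
    have h := (CharP.cast_eq_zero_iff k p 5).mp (by exact_mod_cast h5)
    rcases (Nat.dvd_prime (by norm_num)).mp h with h | h
    · exact absurd h (CharP.ringChar_ne_one ∘ fun e => by rw [ringChar.eq k p, e])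
    · exact h
  subst hp
  have hr : r = 11 := by
    by_contra hne
    have hr10 : r = 10 := by omega
    subst hr10
    norm_num at hlt
    omega
  subst hr
  have h7 : ((7 : ℕ) : k) ≠ 0 := fun h => by
    have := (CharP.cast_eq_zero_iff k 5 7).mp h
    omega
  obtain ⟨ζ7, hζ7⟩ := exists_primitive (k := k) (by norm_num : 0 < 7) h7
  -- the points
  obtain ⟨d, hd, h, hh, hdh⟩ := Finset.one_lt_card.mp
    (show 1 < (Finset.univ \ Finset.univ.image F).card by
      rw [Finset.card_univ_sdiff, Finset.card_image_of_injective _ F.injective, Finset.card_univ]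
      simp [ZMod.card])
  simp only [Finset.mem_sdiff, Finset.mem_univ, Finset.mem_image, true_and, not_exists] at hd hh
  set a := F (0, 0) with ha
  set b := F (0, 1) with hb
  set c := F (0, 2) with hcdef
  have hab : a ≠ b := fun e => absurd (F.injective e) (by decide)
  have hbc : b ≠ c := fun e => absurd (F.injective e) (by decide)
  have hac : a ≠ c := fun e => absurd (F.injective e) (by decide)
  have had : a ≠ d := hd _
  have hbd : b ≠ d := hd _
  have hcd : c ≠ d := hd _
  have hblk : blk F 0 = tup3 a b c (nodup3 hab hbc hac) := by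
    ext x : 1
    revert x
    show ∀ x : Fin 3, (_ : Fin 11) = _
    intro x
    fin_cases x <;> rfl
  let F' : Fin 3 × ZMod 3 ↪ Fin 11 :=
    F.trans (Equiv.swap c d).toEmbedding
  have hF'1 : blk F' 1 = blk F 1 := by
    ext x : 1
    show Equiv.swap c d (F (1, x)) = F (1, x)
    exact Equiv.swap_apply_of_ne_of_ne (fun e => absurd (Prod.mk.inj (F.injective e)).1 (by decide))
      (hd (1, x))
  have hF'0 : blk F' 0 = tup3 a b d (nodup3 hab hbd had) := by
    ext x : 1
    revert x
    show ∀ x : Fin 3, (_ : Fin 11) = _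
    intro x
    fin_cases x
    · exact Equiv.swap_apply_of_ne_of_ne hac had
    · exact Equiv.swap_apply_of_ne_of_ne hbc hbd
    · exact Equiv.swap_apply_left c d
  obtain ⟨τ, hτ⟩ := exists_map_equiv (f := F) (g := F') (by simp [ZMod.card])
  obtain ⟨w, hw⟩ := ρ.exists_lift τ
  set u := Lr ρ (tup3 a b c (nodup3 hab hbc hac)) with hu
  set u' := Lr ρ (tup3 a b d (nodup3 hab hbd had)) with hu'
  have hfix : ∀ v, (u : End k V) v = v → (u' : End k V) v = v := by
    intro v hv
    rw [hu, ← hblk] at hv
    have h1 := special_fix_eq ρ (by norm_num) h3 hζ F hall 0 1 hv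
    have hτinv : ∀ x, ((τ⁻¹ : alternatingGroup (Fin 11)) : Perm (Fin 11)) (blk F 1 x) =
        blk F 1 x := fun x => by
      rw [InvMemClass.coe_inv, Perm.inv_eq_iff_eq]
      conv_lhs => rw [← hF'1]
      exact (hτ (1, x)).symm
    have h2 := fix_map ρ hc (PRep.inv hw) hτinv h1
    have h3' := special_fix_eq ρ (by norm_num) h3 hζ F hall 1 0 h2
    have h4 := fix_map ρ hc hw (f' := blk F' 0) (fun x => hτ (0, x)) h3'
    rw [hF'0] at h4
    have hwv : (w : End k V) ((↑w⁻¹ : End k V) v) = v := by
      rw [← Module.End.mul_apply, Units.mul_inv, Module.End.one_apply]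
    rwa [hwv] at h4
  -- a common eigenline
  let g7 : Fin 7 → Fin 11 :=
    ![F (1, 0), F (1, 1), F (1, 2), F (2, 0), F (2, 1), F (2, 2), h]
  have hg7 : Function.Injective g7 := by
    intro x y e
    fin_cases x <;> fin_cases y <;>
      first
        | rfl
        | exact absurd (F.injective e) (by decide)
        | exact absurd e (hh _)
        | exact absurd e.symm (hh _)
  let y : ZMod 7 ↪ Fin 11 := ⟨fun x => g7 x, hg7⟩
  have hc7 : CycCond 7 11 := ⟨by decide, by norm_num, by norm_num⟩
  obtain ⟨μ, hμ, hdim7, heig⟩ := exists_range_dim ρ hc7 hζ7 h7 y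
  have hμ1 : μ = 1 := by
    have := Submodule.finrank_le (LinearMap.range ((Lr ρ y : End k V) - 1))
    rw [hdim7] at this
    omega
  have hline := heig 1 one_ne_zero
  rw [hμ1] at hline
  obtain ⟨v0, hv0, hv00⟩ := Submodule.exists_mem_ne_zero_of_ne_bot (ne_bot_of_line hline)
  have hoff : ∀ i, i = a ∨ i = b ∨ i = c ∨ i = d → ∀ x, y x ≠ i := by
    intro i hi (x : Fin 7)
    rcases hi with rfl | rfl | rfl | rfl <;> fin_cases x <;>
      first
        | exact fun e => absurd (F.injective e) (by decide)
        | exact fun e => hh _ e.symm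
        | exact hd _
        | exact fun e => hdh e.symm
  have hscal : ∀ {x1 x2 x3 : Fin 11} (hnd : [x1, x2, x3].Nodup),
      (∀ i, i = x1 ∨ i = x2 ∨ i = x3 → ∀ x, y x ≠ i) →
      ∃ l : k, (Lr ρ (tup3 x1 x2 x3 hnd) : End k V) v0 = l • v0 := by
    intro x1 x2 x3 hnd hne
    have hcom : Commute (rot (tup3 x1 x2 x3 hnd) 1) (rot y 1) :=
      commute_of_fixes hc7.odd y fun i hi => by
        obtain ⟨z, -, rfl⟩ := Finset.mem_image.mp hi
        refine rot_of_notMem hc.odd _ 1 fun q e => ?_
        exact hne (y z) ((tup3_mem hnd _).mp (Finset.mem_image.mpr ⟨q, Finset.mem_univ _, e⟩)) z rfl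
    have hcu := com_rot ρ hc7 y hcom _ _ (norm_Lr ρ hc _).1 (norm_Lr ρ hc7 y).1
    have h2 := congrArg (fun z : (End k V)ˣ => (z : End k V) v0) hcu.eq
    simp only [Units.val_mul, Module.End.mul_apply, mem_eig.mp hv0, map_smul] at h2
    have hmem : (Lr ρ (tup3 x1 x2 x3 hnd) : End k V) v0 ∈
        eig (Lr ρ y : End k V) (ζ7 ^ (1 : ZMod 7).val) := mem_eig.mpr h2.symm
    have hspan : (k ∙ v0) = eig (Lr ρ y : End k V) (ζ7 ^ (1 : ZMod 7).val) :=
      Submodule.eq_of_le_of_finrank_eq ((Submodule.span_singleton_le_iff_mem _ _).mpr hv0)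
        (by rw [finrank_span_singleton hv00, hline])
    rw [← hspan] at hmem
    obtain ⟨l, hl⟩ := Submodule.mem_span_singleton.mp hmem
    exact ⟨l, hl.symm⟩
  obtain ⟨l, hl⟩ := hscal (nodup3 hab hbc hac) fun i hi => hoff i (by tauto)
  obtain ⟨l', hl'⟩ := hscal (nodup3 hab hbd had) fun i hi => hoff i (by tauto)
  change (u : End k V) v0 = l • v0 at hl
  change (u' : End k V) v0 = l' • v0 at hl'
  have hll : l * l' ≠ 0 := by
    refine mul_ne_zero ?_ ?_ <;> rintro rfl
    · exact apply_ne_zero u hv00 (by rw [hl, zero_smul])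
    · exact apply_ne_zero u' hv00 (by rw [hl', zero_smul])
  set s := sc (Units.mk0 _ hll)⁻¹ * (u * u') with hs
  have hndq : [d, b, c, a].Nodup := by
    simp [hbc, Ne.symm hbd, Ne.symm hcd, Ne.symm had, Ne.symm hab, Ne.symm hac]
  have hq : dt d b c a = cyc a b c * cyc a b d := by
    obtain ⟨x1, x2, x3, x4⟩ := cyc_apply hab hbc hac
    obtain ⟨z1, z2, z3, z4⟩ := cyc_apply hab hbd had
    obtain ⟨q1, q2, q3, q4, q5⟩ := dt_apply hndq
    apply Subtype.ext
    ext i : 1
    simp only [Subgroup.coe_mul, Perm.mul_apply]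
    by_cases hia : i = a
    · rw [hia, q4, z1, x2]
    by_cases hib : i = b
    · rw [hib, q2, z2, x4 d (Ne.symm had) (Ne.symm hbd) (Ne.symm hcd)]
    by_cases hic : i = c
    · rw [hic, q3, z4 c (Ne.symm hac) (Ne.symm hbc) hcd, x3]
    by_cases hid : i = d
    · rw [hid, q1, z3, x1]
    rw [q5 i hid hib hic hia, z4 i hia hib hid, x4 i hia hib hic]
  obtain ⟨-, -, hrel, hx3⟩ := dt_klein hndq
  rw [cyc_rotate hab hbc hac] at hrel hx3
  have hLu : ρ.Lift (cyc a b c) u := rot_tup3 (nodup3 hab hbc hac) ▸ (norm_Lr ρ hc _).1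
  have hLu' : ρ.Lift (cyc a b d) u' := rot_tup3 (nodup3 hab hbd had) ▸ (norm_Lr ρ hc _).1
  have hLs : ρ.Lift (dt d b c a) s := hq ▸ PRep.smul (ρ.mul hLu hLu') _
  have hsv0 : (s : End k V) v0 = v0 := by
    simp only [hs, Units.val_mul, Module.End.mul_apply, sc_apply, hl', map_smul, hl, smul_smul,
      Units.val_inv_eq_inv_val, Units.val_mk0]
    rw [show l' * l * (l * l')⁻¹ = 1 by rw [mul_comm l' l]; exact mul_inv_cancel₀ hll, one_smul]
  have hK : KleinDatum u s := kleinDatum_of_fixed (dt_mul_self hndq) hrel hx3 hLu hLs hv00 hl hsv0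
  set e : k := (l * l')⁻¹
  have hse : ∀ v, (u : End k V) v = v → (s : End k V) v = e • v := fun v hv => by
    simp only [hs, Units.val_mul, Module.End.mul_apply, sc_apply, hfix v hv, hv,
      Units.val_inv_eq_inv_val, Units.val_mk0, e]
  have hu3 : (u : End k V) * ((u : End k V) * (u : End k V)) = 1 := by
    have := Lr_pow ρ hc (tup3 a b c (nodup3 hab hbc hac))
    rwa [← hu, pow_succ', pow_two] at this
  have hP : KleinDatum.proj1 u s = 0 := by
    refine LinearMap.ext fun z => ?_
    rw [LinearMap.zero_apply]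
    set y := KleinDatum.proj1 u s z with hy
    set a' : End k V := (s : End k V) with ha'
    set b' : End k V := ((u * s * u⁻¹ : (End k V)ˣ) : End k V) with hb'
    have p1 : InvPair a' b' := hK.pair
    have haP : ∀ v, a' (a' v) = v := fun v => by
      rw [← Module.End.mul_apply, p1.ha, Module.End.one_apply]
    have hbP : ∀ v, b' (b' v) = v := fun v => by
      rw [← Module.End.mul_apply, p1.hb, Module.End.one_apply]
    have hcom : ∀ v, b' (a' v) = a' (b' v) := fun v => by
      rw [← Module.End.mul_apply, ← p1.hab, Module.End.mul_apply]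
    have hya : a' y = -y := by
      simp only [hy, KleinDatum.proj1, ← ha', ← hb', Module.End.mul_apply, LinearMap.sub_apply,
        Module.End.one_apply, map_sub, haP]
      abel
    have hyb : b' y = -y := by
      simp only [hy, KleinDatum.proj1, ← ha', ← hb', Module.End.mul_apply, LinearMap.sub_apply,
        Module.End.one_apply, map_sub, hbP, hcom]
      abel
    have c1 : b' * (u : End k V) = (u : End k V) * a' := by
      rw [hb', ha', ← Units.val_mul, ← Units.val_mul]; congr 1; group
    have c2 : a' * b' * (u : End k V) = (u : End k V) * b' := by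
      rw [hb', ha', ← Units.val_mul, ← Units.val_mul, ← Units.val_mul, hK.mul]; congr 1; group
    have c3 : a' * (u : End k V) = (u : End k V) * (a' * b') := by
      rw [hb', ha', ← Units.val_mul, ← Units.val_mul (a := s), ← Units.val_mul, hK.mul]
      refine congrArg Units.val ?_
      conv_lhs => rw [← hK.cube]
      group
    have e1 : ∀ v, b' ((u : End k V) v) = (u : End k V) (a' v) := fun v => by
      have := congrArg (fun T : End k V => T v) c1; simpa using this
    have e3 : ∀ v, a' ((u : End k V) v) = (u : End k V) (a' (b' v)) := fun v => by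
      have := congrArg (fun T : End k V => T v) c3; simpa using this
    set y1 := (u : End k V) y
    set y2 := (u : End k V) y1
    have ha1 : a' y1 = y1 := by simp only [y1, e3, hyb, map_neg, hya, neg_neg]
    have hb1 : b' y1 = -y1 := by simp only [y1, e1, hya, map_neg]
    have ha2 : a' y2 = -y2 := by simp only [y2, e3, hb1, map_neg, ha1]
    have hb2 : b' y2 = y2 := by simp only [y2, e1, ha1]
    have hw3 : (u : End k V) (y + y1 + y2) = y + y1 + y2 := by
      have h' : (u : End k V) y2 = y := by
        have := congrArg (fun T : End k V => T y) hu3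
        simpa [y1, y2] using this
      rw [map_add, map_add, h']
      simp only [y1, y2]
      abel
    have hse1 := hse _ hw3
    have hse2 : b' (y + y1 + y2) = e • (y + y1 + y2) := by
      have := e1 (y + y1 + y2)
      rw [hw3, hse1, map_smul, hw3] at this
      exact this
    have h9 : a' (y + y1 + y2) = b' (y + y1 + y2) := by rw [hse2]; exact hse1
    rw [map_add, map_add, map_add, map_add, hya, hyb, ha1, hb1, ha2, hb2] at h9
    have h10 : (2 : k) • (y1 - y2) = 0 := by
      rw [two_smul]
      have : (-y + y1 + -y2) - (-y + -y1 + y2) = 0 := sub_eq_zero.mpr h9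
      rw [← this]; abel
    have h2 : (2 : k) ≠ 0 := fun h => by
      have := (CharP.cast_eq_zero_iff k 5 2).mp (by exact_mod_cast h)
      omega
    have h12 : y1 = y2 := sub_eq_zero.mp ((smul_eq_zero.mp h10).resolve_left h2)
    have h11 : y1 = -y1 := by
      conv_lhs => rw [← ha1]
      rw [h12, ha2, ← h12]
    have h13 : (2 : k) • y1 = 0 := by
      rw [two_smul]; nth_rw 1 [h11]; exact neg_add_cancel y1
    have h14 := (smul_eq_zero.mp h13).resolve_left h2
    by_contra hne
    exact apply_ne_zero u hne h14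
  have hs1 := hK.eq_one (fun h => by
      have := (CharP.cast_eq_zero_iff k 5 2).mp (by exact_mod_cast h)
      omega) hP
  exact dt_ne_one hndq (PRep.eq_of_lift hLs (hs1 ▸ ρ.one))

end CfsgLib.Perm.AltSection
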