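import Mathlib
import Cfsg.Agent.Lib.Perm.AltSection.Special
import Cfsg.Agent.Lib.Perm.AltSection.Nine
import Cfsg.Agent.Lib.Perm.AltSection.FourLines

/-!
The degree bound for irreducible projective representations of alternating groups.
-/

set_option autoImplicit false

namespace CfsgLib.Perm.AltSection

open Module

variable {k V : Type*} [Field k] [AddCommGroup V] [Module k V] [Nontrivial V] [IsAlgClosed k]
  [FiniteDimensional k V] {r : ℕ}

theorem prep_bound {p : ℕ} [Fact p.Prime] [CharP k p] (hr : 9 ≤ r)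
    (ρ : PRep k V (alternatingGroup (Fin r))) (hirr : ρ.Irred) :
    r - 1 - (if p ∣ r then 1 else 0) ≤ finrank k V := by
  by_contra hlt
  push Not at hlt
  have hn : finrank k V + 2 ≤ r := by omega
  by_cases h3 : (3 : k) = 0
  · have hp : p = 3 := by
      have h := (CharP.cast_eq_zero_iff k p 3).mp (by exact_mod_cast h3)
      exact (Nat.prime_dvd_prime_iff_eq (Fact.out) Nat.prime_three).mp h
    subst hp
    by_cases hr9 : r = 9
    · have : 3 ∣ r := by rw [hr9]; norm_num
      rw [if_pos this] at hlt
      exact not_nine ρ hr9 (by omega)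
    · have hne : ∀ m : ℕ, ¬ 3 ∣ m → (m : k) ≠ 0 := fun m hm h =>
        hm ((CharP.cast_eq_zero_iff k 3 m).mp h)
      have h5 : (5 : k) ≠ 0 := by exact_mod_cast hne 5 (by norm_num)
      have h2 : (2 : k) ≠ 0 := by exact_mod_cast hne 2 (by norm_num)
      exact absurd (four_bound (p := 3) ρ ⟨by omega, hn, h5, h2⟩ hirr) (not_le.mpr hlt)
  · rcases three_alternative ρ hr hn h3 with hgood | ⟨h8, hr11, ζ, F, hζ, hex, hall⟩
    · exact absurd (three_good_bound (p := p) ρ hr hn h3 hirr hgood) (not_le.mpr hlt)
    · exact not_special (p := p) ρ h3 hn hlt h8 hr11 hζ F hex hall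

end CfsgLib.Perm.AltSection
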