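import Mathlib
import Cfsg.Agent.Lib.Perm.AltSection.Main

/-!
Reduction of alternating sections of linear groups to irreducible projective representations.
-/

set_option autoImplicit false

namespace CfsgLib.Perm.AltSection

open Module

variable {r : ℕ}

theorem alt_factorial (hr : 3 ≤ r) : (r - 1).factorial < Nat.card (alternatingGroup (Fin r)) := by
  haveI : Nontrivial (Fin r) := Fin.nontrivial_iff_two_le.mpr (by omega)
  have h := two_mul_nat_card_alternatingGroup (α := Fin r)
  rw [Nat.card_perm, Nat.card_fin] at h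
  obtain ⟨m, rfl⟩ : ∃ m, r = m + 1 := ⟨r - 1, by omega⟩
  rw [Nat.factorial_succ] at h
  have h1 := Nat.factorial_pos m
  rw [Nat.add_sub_cancel]
  have h2 : 3 * m.factorial ≤ (m + 1) * m.factorial := Nat.mul_le_mul_right _ (by omega)
  omega

theorem commutator_alt (hr : 5 ≤ r) : commutator (alternatingGroup (Fin r)) = ⊤ := by
  haveI : IsSimpleGroup (alternatingGroup (Fin r)) :=
    alternatingGroup.isSimpleGroup (by rwa [Nat.card_fin])
  rcases Subgroup.Normal.eq_bot_or_eq_top
    (inferInstance : (commutator (alternatingGroup (Fin r))).Normal) with h | h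
  · exfalso
    have hc : ∀ g : alternatingGroup (Fin r), g ∈ Subgroup.center (alternatingGroup (Fin r)) :=
      fun g => Subgroup.mem_center_iff.mpr fun x => commutatorElement_eq_one_iff_mul_comm.mp
        (Subgroup.mem_bot.mp (h ▸ Subgroup.commutator_mem_commutator (Subgroup.mem_top x)
          (Subgroup.mem_top g)))
    rw [alternatingGroup.center_eq_bot (by rw [Nat.card_fin]; omega)] at hc
    have := hc (cyc (⟨0, by omega⟩ : Fin r) ⟨1, by omega⟩ ⟨2, by omega⟩)
    rw [Subgroup.mem_bot] at this
    have h1 := (cyc_apply (a := (⟨0, by omega⟩ : Fin r)) (b := ⟨1, by omega⟩) (c := ⟨2, by omega⟩)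
      (by simp) (by simp) (by simp)).1
    rw [this] at h1
    simp [Fin.ext_iff] at h1
  · exact h

/-- A proper subgroup of an alternating group has index at least the degree. -/
theorem le_index_of_ne_top (hr : 5 ≤ r) {M : Subgroup (alternatingGroup (Fin r))} (hM : M ≠ ⊤) :
    r ≤ M.index := by
  haveI : IsSimpleGroup (alternatingGroup (Fin r)) :=
    alternatingGroup.isSimpleGroup (by rwa [Nat.card_fin])
  by_contra hlt
  push Not at hlt
  rcases Subgroup.Normal.eq_bot_or_eq_top (inferInstance : M.normalCore.Normal) with h | h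
  · have hinj : Function.Injective (MulAction.toPermHom (alternatingGroup (Fin r))
        ((alternatingGroup (Fin r)) ⧸ M)) := by
      rw [← MonoidHom.ker_eq_bot_iff, ← Subgroup.normalCore_eq_ker, h]
    have h1 := Nat.card_le_card_of_injective _ hinj
    rw [Nat.card_perm] at h1
    have h2 := alt_factorial (r := r) (by omega)
    have h3 : Nat.factorial M.index ≤ (r - 1).factorial := Nat.factorial_le (by omega)
    rw [Subgroup.index] at h3
    omega
  · exact hM (eq_top_iff.mpr (h ▸ M.normalCore_le))

/-- Commuting operators on a nonzero space have a common eigenvector. -/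
theorem exists_common_eigen {k V ι : Type*} [Field k] [IsAlgClosed k] [AddCommGroup V] [Module k V]
    [FiniteDimensional k V] [Nontrivial V] (T : ι → End k V) (hc : ∀ i j, Commute (T i) (T j)) :
    ∃ χ : ι → k, wsp T χ ≠ ⊥ := by
  classical
  have hex : ∃ d, ∃ W : Submodule k V, W ≠ ⊥ ∧ (∀ i, ∀ v ∈ W, T i v ∈ W) ∧ finrank k W = d :=
    ⟨_, ⊤, top_ne_bot, fun i v _ => Submodule.mem_top, rfl⟩
  obtain ⟨W, hW, hinv, hdim⟩ := Nat.find_spec hex
  haveI : Nontrivial W := Submodule.nontrivial_iff_ne_bot.mpr hW
  have hall : ∀ i, ∃ c : k, ∀ v ∈ W, T i v = c • v := by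
    intro i
    obtain ⟨c, hc'⟩ := Module.End.exists_eigenvalue ((T i).restrict (hinv i))
    obtain ⟨⟨x, hx⟩, hx1, hx0⟩ := hc'.exists_hasEigenvector
    refine ⟨c, fun v hv => ?_⟩
    have hxe : T i x = c • x := by
      have := Module.End.mem_eigenspace_iff.mp hx1
      exact congrArg Subtype.val this
    set W' : Submodule k V := W ⊓ eig (T i) c
    have hW' : W' ≠ ⊥ := fun h => hx0 (Subtype.ext (by
      have : x ∈ W' := ⟨hx, mem_eig.mpr hxe⟩
      rwa [h, Submodule.mem_bot] at this))
    have hinv' : ∀ j, ∀ v ∈ W', T j v ∈ W' := fun j v hv => ⟨hinv j v hv.1, by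
      have h := congrArg (fun S : End k V => S v) (hc i j).eq
      simp only [Module.End.mul_apply, mem_eig.mp hv.2, map_smul] at h
      exact mem_eig.mpr h⟩
    have hmin := Nat.find_min' hex ⟨W', hW', hinv', rfl⟩
    have heq : W' = W := Submodule.eq_of_le_of_finrank_le inf_le_left (by omega)
    have hv' : v ∈ W' := heq.symm ▸ hv
    exact mem_eig.mp hv'.2
  choose χ hχ using hall
  exact ⟨χ, fun h => hW (eq_bot_iff.mpr fun v hv => h ▸ mem_wsp.mpr fun i => hχ i v hv)⟩

/-- A finite linear group with an alternating quotient. -/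
structure AltSec (k V : Type) [Field k] [AddCommGroup V] [Module k V] (r : ℕ) where
  H : Subgroup (End k V)ˣ
  fin : Finite H
  π : H →* alternatingGroup (Fin r)
  surj : Function.Surjective π

variable {k V : Type} [Field k] [AddCommGroup V] [Module k V]

/-- The image of a section under a homomorphism with small kernel. -/
noncomputable def AltSec.image {k' V' : Type} [Field k'] [AddCommGroup V'] [Module k' V']
    (S : AltSec k V r) (f : S.H →* (End k' V')ˣ) (hf : f.ker ≤ S.π.ker) : AltSec k' V' r where
  H := f.range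
  fin := haveI := S.fin; Finite.of_surjective f.rangeRestrict f.rangeRestrict_surjective
  π := f.rangeRestrict.liftOfSurjective f.rangeRestrict_surjective
    ⟨S.π, by rwa [MonoidHom.ker_rangeRestrict]⟩
  surj := fun a => by
    obtain ⟨h, rfl⟩ := S.surj a
    exact ⟨f.rangeRestrict h, by simp [MonoidHom.liftOfRightInverse_comp_apply]⟩

variable [FiniteDimensional k V]

/-- In a minimal section the kernel is nilpotent. -/
theorem ker_nilpotent (S : AltSec k V r)
    (hmin : ∀ M : Subgroup S.H, M.map S.π = ⊤ → M = ⊤) : Group.IsNilpotent S.π.ker := by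
  haveI := S.fin
  refine (Group.isNilpotent_of_finite_tfae.out 0 3).mpr fun p hp P => ?_
  haveI := hp
  have hfr := Sylow.normalizer_sup_eq_top P
  have hN : Subgroup.normalizer (((P : Subgroup S.π.ker).map S.π.ker.subtype) : Set S.H) = ⊤ := by
    refine hmin _ ?_
    have h1 := congrArg (Subgroup.map S.π) hfr
    rwa [Subgroup.map_sup, (Subgroup.map_eq_bot_iff S.π.ker).mpr le_rfl, sup_bot_eq,
      ← MonoidHom.range_eq_map, MonoidHom.range_eq_top.mpr S.surj] at h1
  exact (Subgroup.normalizer_eq_top_iff.mp hN).of_map_subtype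

theorem sectionBound_aux (hr : 9 ≤ r) : ∀ n : ℕ, ∀ (k : Type) [Field k] [IsAlgClosed k] (p : ℕ)
    [Fact p.Prime] [CharP k p] (V : Type) [AddCommGroup V] [Module k V] [FiniteDimensional k V],
    finrank k V = n → AltSec k V r → r - 1 - (if p ∣ r then 1 else 0) ≤ n := by
  intro n
  induction n using Nat.strong_induction_on with
  | _ n IH =>
  intro k _ _ p _ _ V _ _ _ hn S
  by_contra hlt
  push Not at hlt
  have hnr : n + 2 ≤ r := by omega
  -- minimal sections
  suffices hmain : ∀ S : AltSec k V r, (∀ M : Subgroup S.H, M.map S.π = ⊤ → M = ⊤) → False by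
    suffices ∀ d, ∀ S : AltSec k V r, Nat.card S.H = d → False from this _ S rfl
    intro d
    induction d using Nat.strong_induction_on with
    | _ d ihd =>
    intro S hd
    refine hmain S fun M hM => ?_
    by_contra hne
    haveI := S.fin
    let π' : M.map S.H.subtype →* alternatingGroup (Fin r) :=
      (S.π.comp M.subtype).comp
        (M.equivMapOfInjective S.H.subtype S.H.subtype_injective).symm.toMonoidHom
    have hsurj : Function.Surjective π' := by
      intro a
      have ha : a ∈ M.map S.π := hM ▸ Subgroup.mem_top a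
      obtain ⟨m, hm, rfl⟩ := ha
      refine ⟨M.equivMapOfInjective S.H.subtype S.H.subtype_injective ⟨m, hm⟩, ?_⟩
      simp [π']
    haveI : Finite (M.map S.H.subtype : Subgroup (End k V)ˣ) :=
      Finite.of_equiv _ (M.equivMapOfInjective S.H.subtype S.H.subtype_injective).toEquiv
    refine ihd _ ?_ ⟨M.map S.H.subtype, inferInstance, π', hsurj⟩ rfl
    show Nat.card (M.map S.H.subtype : Subgroup (End k V)ˣ) < d
    rw [← Nat.card_congr (M.equivMapOfInjective S.H.subtype S.H.subtype_injective).toEquiv, ← hd]
    refine lt_of_le_of_ne (Subgroup.card_le_card_group M) fun h => hne ?_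
    exact Subgroup.eq_top_of_card_eq _ h
  clear S
  intro S hmin
  haveI := S.fin
  classical
  set H := S.H with hH
  set π := S.π with hπ
  set K := π.ker with hK
  haveI : IsSimpleGroup (alternatingGroup (Fin r)) :=
    alternatingGroup.isSimpleGroup (by rw [Nat.card_fin]; omega)
  -- normal subgroups
  have hnormal : ∀ N : Subgroup H, N.Normal → N ≤ K ∨ N = ⊤ := by
    intro N hN
    rcases Subgroup.Normal.eq_bot_or_eq_top (hN.map π S.surj) with h | h
    · exact Or.inl ((Subgroup.map_eq_bot_iff N).mp h)
    · exact Or.inr (hmin N h)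
  have hperf : commutator H = ⊤ := by
    refine hmin _ ?_
    rw [commutator_def, Subgroup.map_commutator, ← MonoidHom.range_eq_map,
      MonoidHom.range_eq_top.mpr S.surj, ← commutator_def, commutator_alt (by omega)]
  have hhom : ∀ {M : Type} [CommGroup M] (f : H →* M), ∀ h, f h = 1 := fun {M} _ f h => by
    have hle : commutator H ≤ f.ker := Abelianization.commutator_subset_ker f
    rw [hperf] at hle
    exact hle (Subgroup.mem_top h)
  have hAnc : ∃ a b : alternatingGroup (Fin r), a * b ≠ b * a := by
    by_contra hcon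
    push Not at hcon
    have htop : Subgroup.center (alternatingGroup (Fin r)) = ⊤ :=
      eq_top_iff.mpr fun g _ => Subgroup.mem_center_iff.mpr fun x => hcon x g
    rw [alternatingGroup.center_eq_bot (by rw [Nat.card_fin]; omega)] at htop
    exact bot_ne_top htop
  have hnontriv : Nontrivial V := by
    rw [← not_subsingleton_iff_nontrivial]
    intro hsub
    obtain ⟨a, b, hab⟩ := hAnc
    obtain ⟨x, rfl⟩ := S.surj a
    obtain ⟨y, rfl⟩ := S.surj b
    refine hab ?_
    rw [← map_mul, ← map_mul]
    congr 1
    apply Subtype.ext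
    exact Units.ext (LinearMap.ext fun v => Subsingleton.elim _ _)
  -- irreducibility
  have hirr : ∀ W : Submodule k V, (∀ h : H, ∀ v ∈ W, ((h : (End k V)ˣ) : End k V) v ∈ W) →
      W = ⊥ ∨ W = ⊤ := by
    intro W hW
    by_contra hcon
    push Not at hcon
    let f1 : H →* End k W :=
      { toFun := fun h => (((h : (End k V)ˣ) : End k V)).restrict (hW h)
        map_one' := by ext v; simp
        map_mul' := fun a b => by ext v; simp }
    let f2 : H →* End k (V ⧸ W) :=
      { toFun := fun h => W.mapQ W (((h : (End k V)ˣ) : End k V)) (fun v hv => hW h v hv)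
        map_one' := by ext v; simp
        map_mul' := fun a b => by ext v; simp }
    have hcase : ∀ {U : Type} [AddCommGroup U] [Module k U] [FiniteDimensional k U]
        (f : H →* End k U), finrank k U < n → ∀ h, f h = 1 := by
      intro U _ _ _ f hU h
      rcases hnormal f.toHomUnits.ker (MonoidHom.normal_ker _) with hle | htop
      · have hb := IH _ hU k p U rfl (S.image f.toHomUnits hle)
        omega
      · have := congrArg Units.val (MonoidHom.mem_ker.mp (htop ▸ Subgroup.mem_top h))
        simpa using this
    have hWlt : finrank k W < n := hn ▸ Submodule.finrank_lt hcon.2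
    have hQlt : finrank k (V ⧸ W) < n := by
      have h1 := W.finrank_quotient_add_finrank
      have h2 := Submodule.one_le_finrank_iff.mpr hcon.1
      omega
    have e1 := hcase f1 hWlt
    have e2 := hcase f2 hQlt
    have h1 : ∀ h : H, ∀ v ∈ W, ((h : (End k V)ˣ) : End k V) v = v := fun h v hv => by
      have := congrArg (fun T : End k W => ((T ⟨v, hv⟩ : W) : V)) (e1 h)
      simpa [f1] using this
    have h2 : ∀ h : H, ∀ v, ((h : (End k V)ˣ) : End k V) v - v ∈ W := fun h v => by
      have := congrArg (fun T : End k (V ⧸ W) => T (Submodule.Quotient.mk v)) (e2 h)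
      simp only [f2, MonoidHom.coe_mk, OneHom.coe_mk, Submodule.mapQ_apply,
        Module.End.one_apply] at this
      exact (Submodule.Quotient.eq W).mp this
    obtain ⟨a, b, hab⟩ := hAnc
    obtain ⟨x, rfl⟩ := S.surj a
    obtain ⟨y, rfl⟩ := S.surj b
    refine hab ?_
    rw [← map_mul, ← map_mul]
    congr 1
    apply Subtype.ext
    refine Units.ext (LinearMap.ext fun v => ?_)
    simp only [Subgroup.coe_mul, Units.val_mul, Module.End.mul_apply]
    have hxy := h1 x _ (h2 y v)
    have hyx := h1 y _ (h2 x v)
    rw [map_sub] at hxy hyx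
    rw [sub_eq_iff_eq_add.mp hxy, sub_eq_iff_eq_add.mp hyx]
    abel
  -- scalar elements
  set Z : Subgroup H := (sc (k := k) (V := V)).range.comap H.subtype with hZ
  have hZc : ∀ z ∈ Z, ∀ h : H, z * h = h * z := by
    rintro z ⟨c, hc⟩ h
    apply Subtype.ext
    simp only [Subgroup.coe_mul]
    rw [show (z : (End k V)ˣ) = sc c from hc.symm]
    exact sc_comm c _
  haveI hZn : Z.Normal := ⟨fun z hz g => by rwa [← hZc z hz g, mul_inv_cancel_right]⟩
  have hZK : Z ≤ K := fun z hz => by
    have hmem : π z ∈ Subgroup.center (alternatingGroup (Fin r)) := by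
      refine Subgroup.mem_center_iff.mpr fun a => ?_
      obtain ⟨h, rfl⟩ := S.surj a
      rw [← map_mul, ← map_mul, hZc z hz h]
    rwa [alternatingGroup.center_eq_bot (by rw [Nat.card_fin]; omega), Subgroup.mem_bot] at hmem
  have habel : ∀ D : Subgroup H, D.Normal → D ≤ K → (∀ a ∈ D, ∀ b ∈ D, a * b = b * a) →
      D ≤ Z := by
    intro D hD hDK hcomm
    let T : D → End k V := fun d => ((((d : H) : (End k V)ˣ)) : End k V)
    have hTc : ∀ i j, Commute (T i) (T j) := fun i j => by
      have := congrArg (fun h : H => ((h : (End k V)ˣ) : End k V)) (hcomm i i.2 j j.2)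
      simpa [T, commute_iff_eq] using this
    obtain ⟨χ, hχ⟩ := exists_common_eigen T hTc
    let cjD : H → D → D := fun g d => ⟨g⁻¹ * d * g, by
      simpa using hD.conj_mem d d.2 g⁻¹⟩
    let tw : H → D → k := fun g d => χ (cjD g d)
    have hne : ∀ g : H, wsp T (tw g) ≠ ⊥ := by
      intro g hbot
      obtain ⟨v, hv, hv0⟩ := Submodule.exists_mem_ne_zero_of_ne_bot hχ
      have hmem : ((g : (End k V)ˣ) : End k V) v ∈ wsp T (tw g) := by
        rw [mem_wsp]
        intro d
        have h1 := mem_wsp.mp hv (cjD g d)
        simp only [T, cjD, Subgroup.coe_mul, InvMemClass.coe_inv, Units.val_mul,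
          Module.End.mul_apply] at h1
        have h2 := congrArg (((g : (End k V)ˣ) : End k V)) h1
        rw [← Module.End.mul_apply, Units.mul_inv, Module.End.one_apply, map_smul] at h2
        exact h2
      rw [hbot, Submodule.mem_bot] at hmem
      exact apply_ne_zero _ hv0 hmem
    let St : Subgroup H :=
      { carrier := {g | tw g = χ}
        one_mem' := by
          funext d; simp [tw, cjD]
        mul_mem' := fun {a b} ha hb => by
          have ha' : tw a = χ := ha
          have hb' : tw b = χ := hb
          funext d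
          have h1 := congrFun ha' d
          have h2 := congrFun hb' (cjD a d)
          show χ (cjD (a * b) d) = χ d
          rw [show cjD (a * b) d = cjD b (cjD a d) from Subtype.ext (by simp [cjD]; group)]
          exact h2.trans h1
        inv_mem' := fun {a} ha => by
          have ha' : tw a = χ := ha
          funext d
          have h1 := congrFun ha' (cjD a⁻¹ d)
          show χ (cjD a⁻¹ d) = χ d
          refine h1.symm.trans ?_
          show χ (cjD a (cjD a⁻¹ d)) = χ d
          rw [show cjD a (cjD a⁻¹ d) = d from Subtype.ext (by simp [cjD]; group)] }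
    have hindex : St.index ≤ n := by
      let φ : H ⧸ St → (D → k) := Quotient.lift tw (fun a b hab => by
        have hab' : tw (a⁻¹ * b) = χ := QuotientGroup.leftRel_apply.mp hab
        funext d
        have h1 := congrFun hab' (cjD a d)
        show χ (cjD a d) = χ (cjD b d)
        refine h1.symm.trans ?_
        show χ (cjD (a⁻¹ * b) (cjD a d)) = _
        rw [show cjD (a⁻¹ * b) (cjD a d) = cjD b d from Subtype.ext (by simp [cjD]; group)])
      have hinj : Function.Injective φ := by
        intro x y
        induction x using QuotientGroup.induction_on with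
        | _ a =>
        induction y using QuotientGroup.induction_on with
        | _ b =>
        intro hab
        have hab' : tw a = tw b := hab
        rw [QuotientGroup.eq]
        show tw (a⁻¹ * b) = χ
        funext d
        have h1 := congrFun hab' (cjD a⁻¹ d)
        show χ (cjD (a⁻¹ * b) d) = χ d
        rw [show cjD (a⁻¹ * b) d = cjD b (cjD a⁻¹ d) from Subtype.ext (by simp [cjD]; group)]
        refine h1.symm.trans ?_
        show χ (cjD a (cjD a⁻¹ d)) = χ d
        rw [show cjD a (cjD a⁻¹ d) = d from Subtype.ext (by simp [cjD]; group)]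
      haveI : Fintype (H ⧸ St) := Fintype.ofFinite _
      have h1 := card_le_finrank T (Finset.univ.image φ) fun w hw => by
        obtain ⟨x, -, rfl⟩ := Finset.mem_image.mp hw
        induction x using QuotientGroup.induction_on with
        | _ a => exact hne a
      rw [Finset.card_image_of_injective _ hinj, Finset.card_univ, ← Nat.card_eq_fintype_card, hn]
        at h1
      exact h1
    have hSt : St = ⊤ := by
      refine hmin _ ?_
      by_contra hne'
      have h1 := le_index_of_ne_top (by omega) hne'
      have h2 : (St.map π).index ≤ St.index :=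
        Nat.le_of_dvd (Nat.pos_of_ne_zero Subgroup.index_ne_zero_of_finite)
          (Subgroup.index_map_dvd St S.surj)
      omega
    have hinv : ∀ h : H, ∀ v ∈ wsp T χ, ((h : (End k V)ˣ) : End k V) v ∈ wsp T χ := by
      intro h v hv
      have hh : tw h = χ := (hSt ▸ Subgroup.mem_top h : h ∈ St)
      rw [mem_wsp]
      intro d
      have h1 := mem_wsp.mp hv (cjD h d)
      simp only [T, cjD, Subgroup.coe_mul, InvMemClass.coe_inv, Units.val_mul,
        Module.End.mul_apply] at h1
      have h2 := congrArg (((h : (End k V)ˣ) : End k V)) h1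
      rw [← Module.End.mul_apply, Units.mul_inv, Module.End.one_apply, map_smul] at h2
      have h3 : χ (cjD h d) = χ d := congrFun hh d
      rw [← h3]
      exact h2
    have htop := (hirr _ hinv).resolve_left hχ
    intro x hx
    obtain ⟨v, hv⟩ := exists_ne (0 : V)
    have hv' : ∀ w : V, T ⟨x, hx⟩ w = χ ⟨x, hx⟩ • w := fun w =>
      mem_wsp.mp (htop ▸ Submodule.mem_top) _
    have hc0 : χ ⟨x, hx⟩ ≠ 0 := fun h0 =>
      apply_ne_zero ((x : H) : (End k V)ˣ) hv (by rw [← zero_smul k v, ← h0]; exact hv' v)
    exact ⟨Units.mk0 _ hc0, Units.ext (LinearMap.ext fun w => (hv' w).symm)⟩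
  -- the kernel consists of scalars
  have hKZ : K ≤ Z := by
    by_contra hKZ
    haveI := ker_nilpotent S hmin
    let mk := QuotientGroup.mk' Z
    set Kb : Subgroup (H ⧸ Z) := K.map mk
    haveI : Kb.Normal := Subgroup.Normal.map inferInstance mk (QuotientGroup.mk'_surjective Z)
    haveI : Group.IsNilpotent Kb :=
      nilpotent_of_surjective (mk.subgroupMap K) (mk.subgroupMap_surjective K)
    have hKb : Kb ≠ ⊥ := fun h => hKZ fun x hx => by
      have h1 : mk x ∈ Kb := Subgroup.mem_map_of_mem mk hx
      rw [h, Subgroup.mem_bot] at h1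
      exact (QuotientGroup.eq_one_iff x).mp h1
    haveI : Nontrivial Kb := (Subgroup.nontrivial_iff_ne_bot _).mpr hKb
    have hcen := Group.IsNilpotent.center_ne_bot (G := Kb)
    haveI : Nontrivial (Subgroup.center Kb) := (Subgroup.nontrivial_iff_ne_bot _).mpr hcen
    obtain ⟨q, hq, hqdvd⟩ := Nat.exists_prime_and_dvd
      (Finite.one_lt_card (α := Subgroup.center Kb)).ne'
    haveI : Fact q.Prime := ⟨hq⟩
    obtain ⟨x0, hx0⟩ := exists_prime_orderOf_dvd_card' q hqdvd
    let E : Subgroup (H ⧸ Z) :=
      { carrier := {x | x ∈ Kb ∧ (∀ y ∈ Kb, x * y = y * x) ∧ x ^ q = 1}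
        one_mem' := ⟨one_mem _, fun y _ => by simp, one_pow q⟩
        mul_mem' := fun {a b} ha hb => ⟨mul_mem ha.1 hb.1, fun y hy => by
          rw [mul_assoc, hb.2.1 y hy, ← mul_assoc, ha.2.1 y hy, mul_assoc], by
          rw [Commute.mul_pow (ha.2.1 b hb.1), ha.2.2, hb.2.2, one_mul]⟩
        inv_mem' := fun {a} ha => ⟨inv_mem ha.1, fun y hy =>
          ((Commute.inv_left (ha.2.1 y hy : Commute a y))).eq, by rw [inv_pow, ha.2.2, inv_one]⟩ }
    have hx0E : ((x0 : Kb) : H ⧸ Z) ∈ E := by
      refine ⟨(x0 : Kb).2, fun y hy => ?_, ?_⟩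
      · exact congrArg Subtype.val (Subgroup.mem_center_iff.mp x0.2 ⟨y, hy⟩).symm
      · have := pow_orderOf_eq_one x0
        rw [hx0] at this
        exact congrArg (fun z : Subgroup.center Kb => ((z : Kb) : H ⧸ Z)) this
    have hx0ne : ((x0 : Kb) : H ⧸ Z) ≠ 1 := fun h => hq.one_lt.ne' (by
      rw [← hx0, orderOf_eq_one_iff]
      exact Subtype.ext (Subtype.ext h))
    haveI hEn : E.Normal := ⟨fun a ha g => ⟨‹Kb.Normal›.conj_mem a ha.1 g, fun y hy => by
      have h1 := ha.2.1 (g⁻¹ * y * g) (by simpa using ‹Kb.Normal›.conj_mem y hy g⁻¹)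
      calc g * a * g⁻¹ * y = g * (a * (g⁻¹ * y * g)) * g⁻¹ := by group
        _ = y * (g * a * g⁻¹) := by rw [h1]; group,
      by rw [conj_pow, ha.2.2, mul_one, mul_inv_cancel]⟩⟩
    set Q1 : Subgroup H := E.comap mk with hQ1
    have hQ1K : Q1 ≤ K := fun x hx => by
      obtain ⟨y, hy, hyx⟩ := (hx : mk x ∈ E).1
      have hz : y⁻¹ * x ∈ Z := QuotientGroup.eq.mp hyx
      simpa using mul_mem hy (hZK hz)
    have hmkmem : ∀ x, x ∈ Q1 → mk x ∈ E := fun x hx => hx
    -- the centre of `Q1` is scalar
    have hZQ : ∀ x ∈ Q1, (∀ y ∈ Q1, x * y = y * x) → x ∈ Z := by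
      intro x hx hxc
      let D : Subgroup H :=
        { carrier := {x | x ∈ Q1 ∧ ∀ y ∈ Q1, x * y = y * x}
          one_mem' := ⟨one_mem _, fun y _ => by simp⟩
          mul_mem' := fun {a b} ha hb => ⟨mul_mem ha.1 hb.1, fun y hy => by
            rw [mul_assoc, hb.2 y hy, ← mul_assoc, ha.2 y hy, mul_assoc]⟩
          inv_mem' := fun {a} ha => ⟨inv_mem ha.1, fun y hy =>
            (Commute.inv_left (ha.2 y hy : Commute a y)).eq⟩ }
      haveI hQn : Q1.Normal := Subgroup.Normal.comap hEn mk
      have hDn : D.Normal := ⟨fun a ha g => ⟨hQn.conj_mem a ha.1 g, fun y hy => by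
        have h1 := ha.2 (g⁻¹ * y * g) (by simpa using hQn.conj_mem y hy g⁻¹)
        calc g * a * g⁻¹ * y = g * (a * (g⁻¹ * y * g)) * g⁻¹ := by group
          _ = y * (g * a * g⁻¹) := by rw [h1]; group⟩⟩
      exact habel D hDn (fun a ha => hQ1K ha.1) (fun a ha b hb => ha.2 b hb.1) ⟨hx, hxc⟩
    -- commutators inside `Q1` are scalar
    have hpair : ∀ x ∈ Q1, ∀ y ∈ Q1, x * y * x⁻¹ * y⁻¹ ∈ Z := fun x hx y hy => by
      have h1 : mk x * mk y = mk y * mk x := (hmkmem x hx).2.1 _ (hmkmem y hy).1
      have h2 : mk (x * y * x⁻¹ * y⁻¹) = 1 := by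
        rw [map_mul, map_mul, map_mul, map_inv, map_inv, h1]; group
      exact (QuotientGroup.eq_one_iff _).mp h2
    have hrep : ∀ e : E, ∃ x : H, mk x = (e : H ⧸ Z) := fun e => QuotientGroup.mk'_surjective Z _
    choose rep hrepE using hrep
    have hrepQ : ∀ e : E, rep e ∈ Q1 := fun e => by
      show mk (rep e) ∈ E; rw [hrepE]; exact e.2
    have hcov : ∀ x ∈ Q1, ∃ e : E, ∃ z ∈ Z, x = rep e * z := fun x hx => by
      refine ⟨⟨mk x, hx⟩, (rep ⟨mk x, hx⟩)⁻¹ * x, ?_, by group⟩
      exact QuotientGroup.eq.mp (hrepE ⟨mk x, hx⟩)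
    -- representatives are linearly independent
    haveI : Fintype E := Fintype.ofFinite _
    have hcardE : Fintype.card E ≤ n * n := by
      have hsc : ∀ e y : E, ∃ c : kˣ, sc c =
          ((rep y * rep e * (rep y)⁻¹ * (rep e)⁻¹ : H) : (End k V)ˣ) := fun e y =>
        hpair _ (hrepQ y) _ (hrepQ e)
      choose c hc using hsc
      let T : E → End k (End k V) := fun y =>
        LinearMap.mulLeft k (((rep y : H) : (End k V)ˣ) : End k V) *
          LinearMap.mulRight k ((((rep y : H) : (End k V)ˣ)⁻¹ : (End k V)ˣ) : End k V)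
      let w : E → E → k := fun e y => (c e y : k)
      have hwinj : Function.Injective w := by
        intro e e' hee
        have hkey : (rep e)⁻¹ * rep e' ∈ Z := by
          refine hZQ _ (mul_mem (inv_mem (hrepQ e)) (hrepQ e')) fun y hy => ?_
          obtain ⟨y', z, hz, rfl⟩ := hcov y hy
          have h1 : rep y' * rep e * (rep y')⁻¹ * (rep e)⁻¹ =
              rep y' * rep e' * (rep y')⁻¹ * (rep e')⁻¹ := Subtype.ext (by
            rw [← hc, ← hc, show c e y' = c e' y' from Units.ext (congrFun hee y')])
          set A := rep e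
          set B := rep e'
          set Y := rep y'
          have hzc : Commute Y⁻¹ (Y * A * Y⁻¹ * A⁻¹) :=
            (hZc _ (hpair _ (hrepQ y') _ (hrepQ e)) Y⁻¹).symm
          have h2 : A * Y⁻¹ * A⁻¹ * Y = B * Y⁻¹ * B⁻¹ * Y := by
            have hA : Y⁻¹ * (Y * A * Y⁻¹ * A⁻¹) * Y = A * Y⁻¹ * A⁻¹ * Y := by group
            have hB : Y⁻¹ * (Y * B * Y⁻¹ * B⁻¹) * Y = B * Y⁻¹ * B⁻¹ * Y := by group
            rw [← hA, h1, hB]
          have h3 : A⁻¹ * B * Y = Y * (A⁻¹ * B) := by
            have h4 : A * Y⁻¹ * A⁻¹ = B * Y⁻¹ * B⁻¹ := mul_right_cancel h2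
            have h5 : A * Y * A⁻¹ = B * Y * B⁻¹ := by
              have := congrArg (·⁻¹) h4
              simpa [mul_assoc] using this
            calc A⁻¹ * B * Y = A⁻¹ * (B * Y * B⁻¹) * B := by group
              _ = Y * (A⁻¹ * B) := by rw [← h5]; group
          rw [← mul_assoc, h3, mul_assoc, ← hZc z hz (A⁻¹ * B), mul_assoc]
        apply Subtype.ext
        rw [← hrepE e, ← hrepE e']
        exact QuotientGroup.eq.mpr hkey
      have h1 := card_le_finrank T (Finset.univ.image w) fun f hf => by
        obtain ⟨e, -, rfl⟩ := Finset.mem_image.mp hf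
        refine fun hbot => ?_
        have hmem : ((((rep e : H) : (End k V)ˣ)) : End k V) ∈ wsp T (w e) := by
          rw [mem_wsp]
          intro y
          have h := congrArg (fun u : (End k V)ˣ => ((u * (rep e : H) : (End k V)ˣ) : End k V))
            (hc e y)
          simp only [Subgroup.coe_mul, InvMemClass.coe_inv, inv_mul_cancel_right] at h
          simp only [T, Module.End.mul_apply, LinearMap.mulLeft_apply, LinearMap.mulRight_apply]
          rw [← mul_assoc, ← Units.val_mul, ← Units.val_mul, ← h, Units.val_mul]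
          exact (Algebra.smul_def (A := End k V) (w e y) (((rep e : H) : (End k V)ˣ) : End k V)).symm
        rw [hbot, Submodule.mem_bot] at hmem
        obtain ⟨v, hv⟩ := exists_ne (0 : V)
        exact apply_ne_zero ((rep e : H) : (End k V)ˣ) hv (by rw [hmem]; rfl)
      rw [Finset.card_image_of_injective _ hwinj, Finset.card_univ,
        Module.finrank_linearMap, hn] at h1
      exact h1
    -- the action on `E`
    letI : CommGroup E :=
      { (inferInstance : Group E) with mul_comm := fun a b => Subtype.ext (a.2.2.1 b b.2.1) }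
    haveI : Module (ZMod q) (Additive E) := AddCommGroup.zmodModule (n := q) fun x => by
      show Additive.ofMul ((Additive.toMul x) ^ q) = 0
      rw [show (Additive.toMul x) ^ q = 1 from Subtype.ext (by simpa using (Additive.toMul x).2.2.2)]
      rfl
    haveI : Finite (Additive E) := inferInstanceAs (Finite E)
    let act : H →* (Additive E →ₗ[ZMod q] Additive E) :=
      { toFun := fun h => (MonoidHom.toAdditive
          ((MulAut.conjNormal (mk h) : MulAut E).toMonoidHom)).toZModLinearMap q
        map_one' := by
          ext x; simp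
        map_mul' := fun a b => by
          ext x; simp [map_mul] }
    set m := finrank (ZMod q) (Additive E)
    have hqm : Fintype.card E = q ^ m := by
      rw [← Nat.card_eq_fintype_card]
      have := Module.natCard_eq_pow_finrank (K := ZMod q) (V := Additive E)
      rw [Nat.card_zmod] at this
      exact this
    have hker : act.ker ≤ K := by
      refine (hnormal _ (MonoidHom.normal_ker _)).resolve_right fun htop => ?_
      have hfix : ∀ h : H, ∀ x ∈ E, mk h * x * (mk h)⁻¹ = x := by
        intro h x hx
        have h1 : act h = 1 := MonoidHom.mem_ker.mp (htop ▸ Subgroup.mem_top h)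
        have h2 := congrArg (fun T : Additive E →ₗ[ZMod q] Additive E =>
          ((Additive.toMul (T (Additive.ofMul ⟨x, hx⟩)) : E) : H ⧸ Z)) h1
        simpa [act] using h2
      refine hx0ne ?_
      obtain ⟨x, hx⟩ := QuotientGroup.mk'_surjective Z ((x0 : Kb) : H ⧸ Z)
      have hxQ : x ∈ Q1 := by show mk x ∈ E; rw [hx]; exact hx0E
      have hxcomm : ∀ h : H, ∃ c : kˣ, sc c = ((h * x * h⁻¹ * x⁻¹ : H) : (End k V)ˣ) := by
        intro h
        have h1 := hfix h (mk x) hxQ
        have h2 : mk (h * x * h⁻¹ * x⁻¹) = 1 := by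
          rw [map_mul, map_mul, map_mul, map_inv, map_inv, h1, mul_inv_cancel]
        exact (QuotientGroup.eq_one_iff _).mp h2
      choose c hc using hxcomm
      let f : H →* kˣ :=
        { toFun := c
          map_one' := sc_injective (V := V) (by
            rw [hc, map_one]; simp)
          map_mul' := fun a b => sc_injective (V := V) (by
            rw [hc, map_mul, hc, hc]
            have hz : (b * x * b⁻¹ * x⁻¹ : H) ∈ Z := ⟨c b, hc b⟩
            have : (a * b * x * (a * b)⁻¹ * x⁻¹ : H) =
                (a * x * a⁻¹ * x⁻¹) * (b * x * b⁻¹ * x⁻¹) := by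
              calc (a * b * x * (a * b)⁻¹ * x⁻¹ : H)
                  = a * ((b * x * b⁻¹ * x⁻¹) * x) * a⁻¹ * x⁻¹ := by group
                _ = (a * x * a⁻¹ * x⁻¹) * (b * x * b⁻¹ * x⁻¹) := by
                    rw [show a * ((b * x * b⁻¹ * x⁻¹) * x) = (b * x * b⁻¹ * x⁻¹) * (a * x) by
                      rw [← mul_assoc, ← hZc _ hz a, mul_assoc], mul_assoc (b * x * b⁻¹ * x⁻¹),
                      mul_assoc (b * x * b⁻¹ * x⁻¹), hZc _ hz]
            rw [this]; rfl) }
      have hxc : ∀ h : H, h * x = x * h := fun h => by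
        have h1 : c h = 1 := hhom f h
        have h2 := hc h
        rw [h1, map_one] at h2
        have h3 : h * x * h⁻¹ * x⁻¹ = 1 := Subtype.ext h2.symm
        exact commutatorElement_eq_one_iff_mul_comm.mp (by rw [commutatorElement_def]; exact h3)
      rw [← hx]
      exact (QuotientGroup.eq_one_iff x).mpr (hZQ x hxQ fun y _ => (hxc y).symm)
    by_cases hmn : m < n
    · -- induction in dimension `m`
      let kq := AlgebraicClosure (ZMod q)
      let b := Module.finBasis (ZMod q) (Additive E)
      let g : H →* End kq (Fin m → kq) :=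
        ((Matrix.toLinAlgEquiv' (R := kq) (n := Fin m)).toMonoidHom.comp
          ((algebraMap (ZMod q) kq).mapMatrix.toMonoidHom.comp
            ((LinearMap.toMatrixAlgEquiv b).toMonoidHom.comp act)))
      have hgk : g.toHomUnits.ker ≤ K := fun h hh => hker (MonoidHom.mem_ker.mpr (by
        have h1 := congrArg Units.val (MonoidHom.mem_ker.mp hh)
        simp only [MonoidHom.coe_toHomUnits, Units.val_one] at h1
        apply (LinearMap.toMatrixAlgEquiv b).injective
        rw [map_one]
        have hinj : Function.Injective ((algebraMap (ZMod q) kq).mapMatrix (m := Fin m)) :=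
          Matrix.map_injective (RingHom.injective _)
        apply hinj
        rw [map_one]
        apply (Matrix.toLinAlgEquiv' (R := kq) (n := Fin m)).injective
        rw [map_one]
        exact h1))
      haveI : CharP kq q := charP_of_injective_algebraMap (RingHom.injective (algebraMap (ZMod q) kq)) q
      have hIH := IH m hmn kq q (Fin m → kq) (by simp) (S.image g.toHomUnits hgk)
      have hm2 : 2 ^ m ≤ n * n := ((Nat.pow_le_pow_left hq.two_le m).trans hqm.ge).trans hcardE
      have hr2 : r - 2 ≤ m := le_trans (by split_ifs <;> omega) hIH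
      have h3 : n * n < 2 ^ (r - 2) := by
        have hb : ∀ d, 7 ≤ d → d * d < 2 ^ d := by
          intro d hd
          induction d, hd using Nat.le_induction with
          | base => norm_num
          | succ d hd ih =>
            rw [pow_succ]
            have : 3 * d ≤ d * d := Nat.mul_le_mul_right d (by omega)
            nlinarith
        exact lt_of_le_of_lt (Nat.mul_le_mul (by omega) (by omega)) (hb (r - 2) (by omega))
      have := Nat.pow_le_pow_right (show 0 < 2 by norm_num) hr2
      omega
    · -- counting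
      push Not at hmn
      have h2n : 2 ^ n ≤ n * n := ((Nat.pow_le_pow_right (by norm_num) hmn).trans
        (Nat.pow_le_pow_left hq.two_le m)).trans (hqm.ge.trans hcardE)
      have hn4 : n ≤ 4 := by
        by_contra h
        have hb : ∀ d, 5 ≤ d → d * d < 2 ^ d := by
          intro d hd
          induction d, hd using Nat.le_induction with
          | base => norm_num
          | succ d hd ih =>
            rw [pow_succ]
            have : 3 * d ≤ d * d := Nat.mul_le_mul_right d (by omega)
            nlinarith
        have := hb n (by omega)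
        omega
      have hE16 : q ^ m ≤ 16 := hqm ▸ hcardE.trans (Nat.mul_le_mul hn4 hn4)
      have hm4 : m ≤ 4 := by
        by_contra h
        have := (Nat.pow_le_pow_right (show 0 < 2 by norm_num) (show 5 ≤ m by omega)).trans
          ((Nat.pow_le_pow_left hq.two_le m).trans hE16)
        omega
      haveI : Finite (Additive E →ₗ[ZMod q] Additive E) :=
        Finite.of_injective _ DFunLike.coe_injective
      haveI : Finite (Additive E →ₗ[ZMod q] Additive E)ˣ :=
        Finite.of_injective _ Units.val_injective
      have h1 : Nat.card (alternatingGroup (Fin r)) ≤ Nat.card (act.toHomUnits.range) := by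
        have hk : act.toHomUnits.ker ≤ K := fun h hh => hker (MonoidHom.mem_ker.mpr (by
          have := congrArg Units.val (MonoidHom.mem_ker.mp hh)
          simpa using this))
        exact Nat.card_le_card_of_surjective
          (act.toHomUnits.rangeRestrict.liftOfSurjective act.toHomUnits.rangeRestrict_surjective
            ⟨π, by rwa [MonoidHom.ker_rangeRestrict]⟩)
          (fun a => by
            obtain ⟨h, rfl⟩ := S.surj a
            exact ⟨act.toHomUnits.rangeRestrict h, by simp [MonoidHom.liftOfRightInverse_comp_apply, hπ]⟩)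
      have h2 : Nat.card (act.toHomUnits.range) ≤ Nat.card (Matrix (Fin m) (Fin m) (ZMod q)) :=
        Nat.card_le_card_of_injective
          (fun x => LinearMap.toMatrixAlgEquiv (Module.finBasis (ZMod q) (Additive E))
            ((x : (Additive E →ₗ[ZMod q] Additive E)ˣ) : Additive E →ₗ[ZMod q] Additive E))
          fun x y hxy => Subtype.ext (Units.ext ((LinearMap.toMatrixAlgEquiv _).injective hxy))
      have h3 : Nat.card (Matrix (Fin m) (Fin m) (ZMod q)) = (q ^ m) ^ m := by
        show Nat.card (Fin m → Fin m → ZMod q) = _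
        rw [Nat.card_fun, Nat.card_fun, Nat.card_fin, Nat.card_zmod]
      have h4 : (q ^ m) ^ m ≤ 16 ^ 4 :=
        (Nat.pow_le_pow_left hE16 m).trans (Nat.pow_le_pow_right (by norm_num) hm4)
      have h5 : (8 : ℕ).factorial ≤ (r - 1).factorial := Nat.factorial_le (by omega)
      have h6 := alt_factorial (r := r) (by omega)
      have hr' : 2 * (8 : ℕ).factorial ≤ (r - 1).factorial * 2 := by omega
      have h7 : 9 * (r - 1).factorial ≤ 2 * Nat.card (alternatingGroup (Fin r)) := by
        haveI : Nontrivial (Fin r) := Fin.nontrivial_iff_two_le.mpr (by omega)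
        have h := two_mul_nat_card_alternatingGroup (α := Fin r)
        rw [Nat.card_perm, Nat.card_fin] at h
        rw [h, ← Nat.mul_factorial_pred (n := r) (by omega)]
        exact Nat.mul_le_mul_right _ hr
      have h8 : (8 : ℕ).factorial = 40320 := by rfl
      omega
  -- the projective representation
  let ρ : PRep k V (alternatingGroup (Fin r)) :=
    { Lift := fun g u => ∃ (h : H) (c : kˣ), π h = g ∧ u = sc c * (h : (End k V)ˣ)
      exists_lift := fun g => by
        obtain ⟨h, hh⟩ := S.surj g
        exact ⟨h, h, 1, hh, by simp⟩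
      mul := by
        rintro a b u w ⟨h, c, rfl, rfl⟩ ⟨h', c', rfl, rfl⟩
        refine ⟨h * h', c * c', map_mul π h h', ?_⟩
        rw [map_mul, Subgroup.coe_mul, mul_assoc (sc c), ← mul_assoc (h : (End k V)ˣ),
          ← sc_comm c' (h : (End k V)ˣ)]
        group
      sc_one := fun c => ⟨1, c, map_one π, by simp⟩
      scalar := by
        rintro u ⟨h, c, hh, rfl⟩
        obtain ⟨d, hd⟩ := hKZ (MonoidHom.mem_ker.mpr hh : h ∈ K)
        exact ⟨c * d, by rw [map_mul, show sc d = (h : (End k V)ˣ) from hd]⟩
      eq_one := by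
        rintro g d ⟨h, c, rfl, hh⟩
        have hz : h ∈ Z := by
          refine ⟨c⁻¹ * d, ?_⟩
          rw [map_mul, map_inv, hh]
          show _ = (h : (End k V)ˣ)
          group
        exact MonoidHom.mem_ker.mp (hZK hz) }
  refine absurd (prep_bound (p := p) hr ρ fun W hW => ?_) (not_le.mpr (hn ▸ hlt))
  exact hirr W fun h v hv => hW (π h) h ⟨h, 1, rfl, by simp⟩ v hv

end CfsgLib.Perm.AltSection
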